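import Cfsg.Agent.Lib.Coprime.Action
import Cfsg.Agent.Lib.Coprime.Core
import Cfsg.Agent.Lib.Invol.KleinPair

/-!
# Product fusion: basic lemmas on odd cores of subgroups and inverted elements
-/

set_option autoImplicit false
set_option linter.style.haveILetI false

namespace CfsgLib.ProdFusion

open Subgroup
open scoped commutatorElement
open CfsgLib.Coprime (conjBy mem_conjBy conjBy_eq_self_iff card_conjBy)

universe u

variable {G : Type u} [Group G]

/-- The odd core of a subgroup, as a subgroup of the ambient group. -/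
def OC (H : Subgroup G) : Subgroup G := (Cfsg.pPrimeCore 2 H).map H.subtype

theorem OC_le (H : Subgroup G) : OC H ≤ H := map_subtype_le _

/-! ### Elements -/

theorem mem_zpowers_invol {v g : G} (hv : v * v = 1) (hg : g ∈ zpowers v) : g = 1 ∨ g = v := by
  obtain ⟨k, rfl⟩ := mem_zpowers_iff.1 hg
  have h2 : v ^ (2 : ℤ) = 1 := by rw [zpow_two, hv]
  rcases Int.even_or_odd k with ⟨m, rfl⟩ | ⟨m, rfl⟩
  · exact Or.inl (by rw [← two_mul, zpow_mul, h2, one_zpow])
  · exact Or.inr (by rw [zpow_add, zpow_mul, h2, one_zpow, one_mul, zpow_one])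

theorem conj_sq_one {v n : G} (hv : v * v = 1) : v * (v * n * v⁻¹) * v⁻¹ = n := by
  rw [show v * (v * n * v⁻¹) * v⁻¹ = (v * v) * n * (v * v)⁻¹ by group, hv]; group

theorem commutator_inverted {v n : G} (hv : v * v = 1) :
    v * ⁅n, v⁆ * v⁻¹ = ⁅n, v⁆⁻¹ := by
  have e : v⁻¹ = v := inv_eq_of_mul_eq_one_right hv
  simp only [commutatorElement_def, mul_inv_rev, inv_inv, e, mul_assoc, hv, mul_one]

theorem commutatorElement_mem {K : Subgroup G} {v n : G} (hvK : v ∈ normalizer (K : Set G))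
    (hn : n ∈ K) : ⁅n, v⁆ ∈ K := by
  rw [commutatorElement_def, show n * v * n⁻¹ * v⁻¹ = n * (v * n⁻¹ * v⁻¹) by group]
  exact mul_mem hn ((mem_normalizer_iff.1 hvK _).1 (inv_mem hn))

theorem normalizer_zpowers_of_commute {a v : G} (h : Commute a v) :
    a ∈ normalizer (zpowers v : Set G) :=
  centralizer_le_normalizer _ (mem_centralizer_iff.2 fun x hx => by
    obtain ⟨k, rfl⟩ := mem_zpowers_iff.1 hx
    exact (h.zpow_right k).symm.eq)

theorem normalizer_commutator {A B : Subgroup G} {g : G} (hA : g ∈ normalizer (A : Set G))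
    (hB : g ∈ normalizer (B : Set G)) : g ∈ normalizer ((⁅A, B⁆ : Subgroup G) : Set G) := by
  rw [← conjBy_eq_self_iff, conjBy, map_commutator]
  exact congrArg₂ _ (conjBy_eq_self_iff.2 hA) (conjBy_eq_self_iff.2 hB)

theorem mem_of_forall_conj_mem [Finite G] {K : Subgroup G} {g : G}
    (h : ∀ x ∈ K, g * x * g⁻¹ ∈ K) : g ∈ normalizer (K : Set G) := by
  rw [← conjBy_eq_self_iff]
  refine eq_of_le_of_card_ge ?_ (card_conjBy _ _).ge
  rintro x ⟨y, hy, rfl⟩
  exact h y hy

theorem commutator_zpowers_le_self {K : Subgroup G} {v : G} (hvK : v ∈ normalizer (K : Set G)) :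
    ⁅K, zpowers v⁆ ≤ K := by
  rw [commutator_le]
  intro n hn g hg
  exact commutatorElement_mem ((zpowers_le.2 hvK) hg) hn

/-- `[K, v] ≤ W` as soon as `W` contains the elements of `K` inverted by `v`. -/
theorem commutator_zpowers_le {K W : Subgroup G} {v : G} (hv : v * v = 1)
    (hvK : v ∈ normalizer (K : Set G)) (h : ∀ w ∈ K, v * w * v⁻¹ = w⁻¹ → w ∈ W) :
    ⁅K, zpowers v⁆ ≤ W := by
  rw [commutator_le]
  intro n hn g hg
  rcases mem_zpowers_invol hv hg with rfl | rfl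
  · simp
  · exact h _ (commutatorElement_mem hvK hn) (commutator_inverted hv)

section odd

variable [Finite G] {K : Subgroup G} (hK : Odd (Nat.card K))
include hK

theorem odd_orderOf_of_mem {u : G} (hu : u ∈ K) : Odd (orderOf u) :=
  hK.of_dvd_nat (Subgroup.orderOf_dvd_natCard _ hu)

theorem eq_one_of_sq {u : G} (hu : u ∈ K) (h2 : u * u = 1) : u = 1 := by
  obtain ⟨m, hm⟩ := odd_orderOf_of_mem hK hu
  have := pow_orderOf_eq_one u
  rwa [hm, pow_succ, pow_mul, pow_two, h2, one_pow, one_mul] at this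

theorem mem_of_sq_mem {W : Subgroup G} {u : G} (hu : u ∈ K) (h : u * u ∈ W) : u ∈ W := by
  obtain ⟨m, hm⟩ := odd_orderOf_of_mem hK hu
  have e : (u * u) ^ (m + 1) = u := by
    rw [← pow_two, ← pow_mul, show 2 * (m + 1) = (2 * m + 1) + 1 by ring, pow_succ, ← hm,
      pow_orderOf_eq_one, one_mul]
  rw [← e]; exact pow_mem h _

theorem mem_of_sq_mem' {W : Subgroup G} {v u : G} (hu : u ∈ K) (hinv : v * u * v⁻¹ = u⁻¹)
    (h : ⁅u, v⁆ ∈ W) : u ∈ W := by
  refine mem_of_sq_mem hK hu ?_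
  rwa [commutatorElement_def, show u * v * u⁻¹ * v⁻¹ = u * (v * u * v⁻¹)⁻¹ by group, hinv,
    inv_inv] at h

theorem mem_commutator_of_inverted {v u : G} (hu : u ∈ K) (hinv : v * u * v⁻¹ = u⁻¹) :
    u ∈ ⁅K, zpowers v⁆ :=
  mem_of_sq_mem' hK hu hinv (commutator_mem_commutator hu (mem_zpowers v))

/-- An element of an odd group normalised by an involution `v` is a product of an element inverted
by `v` and an element fixed by `v`. -/
theorem exists_decomp {v n : G} (hv : v * v = 1) (hvK : v ∈ normalizer (K : Set G)) (hn : n ∈ K) :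
    ∃ w ∈ K, ∃ f ∈ K, n = w * f ∧ v * w * v⁻¹ = w⁻¹ ∧ Commute v f ∧
      w ∈ ⁅K, zpowers v⁆ ∧ w ∈ zpowers ⁅n, v⁆ := by
  set h := ⁅n, v⁆ with hh
  have hK' : h ∈ K := commutatorElement_mem hvK hn
  have hinv : v * h * v⁻¹ = h⁻¹ := commutator_inverted hv
  obtain ⟨m, hm⟩ := odd_orderOf_of_mem hK hK'
  set w := h ^ (m + 1) with hw
  have hww : w * w = h := by
    rw [hw, ← pow_add, show m + 1 + (m + 1) = (2 * m + 1) + 1 by ring, pow_succ, ← hm,
      pow_orderOf_eq_one, one_mul]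
  have hwK : w ∈ K := pow_mem hK' _
  have hwinv : v * w * v⁻¹ = w⁻¹ := by rw [hw, ← conj_pow, hinv, inv_pow]
  refine ⟨w, hwK, w⁻¹ * n, mul_mem (inv_mem hwK) hn, (mul_inv_cancel_left w n).symm, hwinv, ?_,
    pow_mem (commutator_mem_commutator hn (mem_zpowers v)) _, pow_mem (mem_zpowers h) _⟩
  have e1 : v * n * v⁻¹ = h⁻¹ * n := by rw [hh, commutatorElement_def]; group
  have e2 : v * w⁻¹ * v⁻¹ = w := by
    rw [show v * w⁻¹ * v⁻¹ = (v * w * v⁻¹)⁻¹ by group, hwinv, inv_inv]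
  have e3 : v * (w⁻¹ * n) * v⁻¹ = w⁻¹ * n := by
    rw [show v * (w⁻¹ * n) * v⁻¹ = (v * w⁻¹ * v⁻¹) * (v * n * v⁻¹) by group, e1, e2, ← hww]
    group
  exact mul_inv_eq_iff_eq_mul.1 e3

end odd

/-! ### Odd cores -/

variable [Finite G]

theorem odd_iff_coprime {n : ℕ} : Odd n ↔ n.Coprime 2 := Nat.coprime_two_right.symm

theorem odd_of_le {K L : Subgroup G} (h : K ≤ L) (hL : Odd (Nat.card L)) : Odd (Nat.card K) :=
  hL.of_dvd_nat (card_dvd_of_le h)

theorem odd_card_OC (H : Subgroup G) : Odd (Nat.card (OC H)) := by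
  rw [OC, card_map_of_injective (subtype_injective H)]
  exact odd_iff_coprime.2 (CfsgLib.Coprime.pPrimeCore_coprime Nat.prime_two)

theorem le_OC {K H : Subgroup G} (hKH : K ≤ H) (hodd : Odd (Nat.card K))
    (hn : H ≤ normalizer (K : Set G)) : K ≤ OC H := by
  haveI : (K.subgroupOf H).Normal := normal_subgroupOf_of_le_normalizer hn
  have h : K.subgroupOf H ≤ Cfsg.pPrimeCore 2 H := CfsgLib.Coprime.le_pPrimeCore (by
    rw [Nat.card_congr (subgroupOfEquivOfLe hKH).toEquiv]; exact odd_iff_coprime.1 hodd)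
  intro x hx
  exact ⟨⟨x, hKH hx⟩, h hx, rfl⟩

theorem le_normalizer_OC_self (H : Subgroup G) : H ≤ normalizer (OC H : Set G) := by
  intro h hh
  refine mem_of_forall_conj_mem ?_
  rintro _ ⟨x, hx, rfl⟩
  haveI := CfsgLib.Coprime.pPrimeCore_characteristic (G := H) 2
  haveI : (Cfsg.pPrimeCore 2 H).Normal := inferInstance
  exact ⟨⟨h, hh⟩ * x * ⟨h, hh⟩⁻¹, Normal.conj_mem inferInstance x hx _, rfl⟩

theorem conjBy_OC (g : G) (H : Subgroup G) : conjBy g (OC H) = OC (conjBy g H) := by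
  have key : ∀ (g : G) (H : Subgroup G), conjBy g (OC H) ≤ OC (conjBy g H) := by
    intro g H
    refine le_OC (map_mono (OC_le H)) ((card_conjBy g (OC H)).symm ▸ odd_card_OC H) ?_
    intro x hx
    refine mem_of_forall_conj_mem fun y hy => ?_
    rw [mem_conjBy] at hx hy ⊢
    have := (mem_normalizer_iff.1 (le_normalizer_OC_self H hx) _).1 hy
    rwa [show g⁻¹ * (x * y * x⁻¹) * g = g⁻¹ * x * g * (g⁻¹ * y * g) * (g⁻¹ * x * g)⁻¹ by group]
  refine le_antisymm (key g H) ?_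
  have h1 := key g⁻¹ (conjBy g H)
  rw [CfsgLib.Coprime.conjBy_conjBy, inv_mul_cancel, CfsgLib.Coprime.conjBy_one] at h1
  have h2 := map_mono (f := (MulAut.conj g).toMonoidHom) h1
  change conjBy g (conjBy g⁻¹ (OC (conjBy g H))) ≤ conjBy g (OC H) at h2
  rwa [CfsgLib.Coprime.conjBy_conjBy, mul_inv_cancel, CfsgLib.Coprime.conjBy_one] at h2

theorem le_normalizer_OC (H : Subgroup G) :
    normalizer (H : Set G) ≤ normalizer (OC H : Set G) := fun g hg =>
  conjBy_eq_self_iff.1 (by rw [conjBy_OC, conjBy_eq_self_iff.2 hg])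

theorem mem_normalizer_OC_centralizer {g x : G} (h : Commute g x) :
    g ∈ normalizer (OC (centralizer {x}) : Set G) :=
  le_normalizer_OC _ (le_normalizer (mem_centralizer_singleton_iff.2 h.eq))

/-- The odd core of a subgroup normal in `H` lies in the odd core of `H`. -/
theorem OC_le_OC {N H : Subgroup G} (hN : N ≤ H) (hn : H ≤ normalizer (N : Set G)) :
    OC N ≤ OC H :=
  le_OC ((OC_le N).trans hN) (odd_card_OC N) (hn.trans (le_normalizer_OC N))

theorem OC_top_eq_bot (h : Cfsg.pPrimeCore 2 G = ⊥) : OC (⊤ : Subgroup G) = ⊥ := by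
  rw [OC, CfsgLib.Coprime.pPrimeCore_map_subtype_eq Nat.prime_two, h, bot_inf_eq]

theorem eq_bot_of_odd_normal (h : Cfsg.pPrimeCore 2 G = ⊥) {K : Subgroup G} [K.Normal]
    (hodd : Odd (Nat.card K)) : K = ⊥ :=
  eq_bot_iff.2 (h ▸ CfsgLib.Coprime.le_pPrimeCore (odd_iff_coprime.1 hodd))

end CfsgLib.ProdFusion
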