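import Cfsg.Agent.Lib.ProdFusion.Main
import Mathlib.GroupTheory.Focal

/-!
# Product fusion: the direct product decomposition
-/

set_option autoImplicit false
set_option linter.style.haveILetI false
set_option linter.unusedSectionVars false

namespace CfsgLib.ProdFusion

open Subgroup
open scoped commutatorElement

universe u

variable {G : Type u} [Group G] [Finite G]

theorem relIndex_dvd_of_normal (H N : Subgroup G) [N.Normal] : H.relIndex N ∣ H.index := by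
  have h1 := relIndex_mul_relIndex (N ⊓ H) H (H ⊔ N) inf_le_right le_sup_left
  have h2 := relIndex_mul_relIndex (N ⊓ H) N (H ⊔ N) inf_le_left le_sup_right
  rw [inf_relIndex_right] at h1
  rw [inf_relIndex_left, relIndex_sup_right, mul_comm, ← h1] at h2
  have h0 : N.relIndex H ≠ 0 := index_ne_zero_of_finite
  exact (Nat.eq_of_mul_eq_mul_left (Nat.pos_of_ne_zero h0) h2) ▸ relIndex_dvd_index_of_le le_sup_left

/-- With `S = S₁ × S₂`, both strongly closed and the normal closures commuting and generating `G`,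
the normal closure of `S₁` meets `S` in `S₁`. -/
theorem normalClosure_inf_eq (P : Sylow 2 G) {S₁ S₂ : Subgroup G}
    (sc1 : Cfsg.IsStronglyClosed S₁ (P : Subgroup G))
    (sc2 : Cfsg.IsStronglyClosed S₂ (P : Subgroup G))
    (disj : S₁ ⊓ S₂ = ⊥) (hP : S₁ ⊔ S₂ = (P : Subgroup G))
    (hcomm : ∀ u ∈ normalClosure (S₁ : Set G), ∀ v ∈ normalClosure (S₂ : Set G), Commute u v)
    (htop : normalClosure (S₁ : Set G) ⊔ normalClosure (S₂ : Set G) = ⊤) :
    normalClosure (S₁ : Set G) ⊓ (P : Subgroup G) = S₁ := by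
  haveI : Fact (Nat.Prime 2) := ⟨Nat.prime_two⟩
  set N₁ := normalClosure (S₁ : Set G) with hN₁
  set N₂ := normalClosure (S₂ : Set G) with hN₂
  have hS₁N : S₁ ≤ N₁ := subset_normalClosure
  have hS₂N : S₂ ≤ N₂ := subset_normalClosure
  have hcomm' : ∀ a ∈ S₁, ∀ b ∈ S₂, Commute a b := fun a ha b hb =>
    hcomm a (hS₁N ha) b (hS₂N hb)
  have hdec : ∀ u ∈ (P : Subgroup G), ∃ a ∈ S₁, ∃ b ∈ S₂, a * b = u := fun u hu =>
    CfsgLib.Coprime.mem_sup_exists (fun b hb => centralizer_le_normalizer _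
      (mem_centralizer_iff.2 fun a ha => hcomm' a ha b hb)) (hP.symm ▸ hu)
  have hGconj : ∀ g : G, ∀ n ∈ N₁, ∃ k ∈ N₁, g * n * g⁻¹ = k * n * k⁻¹ := by
    intro g n hn
    obtain ⟨k, hk, w, hw, rfl⟩ := CfsgLib.Coprime.mem_sup_exists (N := N₁) (H := N₂) (x := g)
      (fun u _ => by rw [normalizer_eq_top]; exact mem_top u) (htop ▸ mem_top g)
    refine ⟨k, hk, ?_⟩
    rw [show k * w * n * (k * w)⁻¹ = k * (w * n * w⁻¹) * k⁻¹ by group, (hcomm n hn w hw).symm.eq,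
      mul_inv_cancel_right]
  -- a central part inside `N₁`
  have hcen : ∀ b ∈ S₂, b ∈ N₁ → ∀ g : G, Commute g b := by
    intro b hb hb1 g
    obtain ⟨k, hk, w, hw, rfl⟩ := CfsgLib.Coprime.mem_sup_exists (N := N₁) (H := N₂) (x := g)
      (fun u _ => by rw [normalizer_eq_top]; exact mem_top u) (htop ▸ mem_top g)
    exact (hcomm k hk b (hS₂N hb)).mul_left (hcomm b hb1 w hw).symm
  set T : Subgroup G := N₁ ⊓ (P : Subgroup G) with hT
  refine le_antisymm ?_ (le_inf hS₁N sc1.1)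
  intro u hu
  obtain ⟨a, ha, b, hb, rfl⟩ := hdec u hu.2
  have hb1 : b ∈ N₁ := by simpa using mul_mem (Subgroup.inv_mem _ (hS₁N ha)) hu.1
  suffices hb' : b = 1 by rw [hb', mul_one]; exact ha
  -- transfer in `N₁`
  set T' : Subgroup N₁ := (P : Subgroup G).subgroupOf N₁ with hT'
  have hfoc : T'.focalSubgroup ≤ S₁.subgroupOf N₁ := by
    rw [focalSubgroup_def]
    refine (closure_le _).2 ?_
    rintro c ⟨hc, x, hx, v, rfl⟩
    obtain ⟨a', ha', b', hb', e⟩ := hdec (x : G) hx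
    have hb'N : b' ∈ N₁ := by
      have h1 := mul_mem (Subgroup.inv_mem _ (hS₁N ha')) x.2
      rwa [← e, inv_mul_cancel_left] at h1
    have hcv : ((⁅x, v⁆ : N₁) : G) = a' * ((v : G) * a'⁻¹ * (v : G)⁻¹) := by
      have hbv : b' * (v : G) = (v : G) * b' := ((hcen b' hb' hb'N (v : G)).symm).eq
      show (x : G) * v * (x : G)⁻¹ * (v : G)⁻¹ = _
      rw [← e, show a' * b' * (v : G) * (a' * b')⁻¹ * (v : G)⁻¹ =
        a' * (b' * (v : G)) * b'⁻¹ * a'⁻¹ * (v : G)⁻¹ by group, hbv]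
      group
    rw [SetLike.mem_coe, mem_subgroupOf, hcv]
    refine mul_mem ha' (sc1.2 _ (Subgroup.inv_mem _ ha') v ?_)
    have h1 : ((⁅x, v⁆ : N₁) : G) ∈ (P : Subgroup G) := hc
    rw [hcv] at h1
    simpa using mul_mem (Subgroup.inv_mem _ (sc1.1 ha')) h1
  have hS₁T : S₁.subgroupOf N₁ ≤ T' := fun x hx => sc1.1 hx
  -- the quotient of `T'` by the part of `S₁`
  haveI hnorm : ((S₁.subgroupOf N₁).subgroupOf T').Normal := ⟨fun x hx g => by
    show ((g : N₁) : G) * ((x : N₁) : G) * ((g : N₁) : G)⁻¹ ∈ S₁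
    exact sc1.2 _ hx _ (mul_mem (mul_mem g.2 (sc1.1 hx)) (Subgroup.inv_mem _ g.2))⟩
  set M := (S₁.subgroupOf N₁).subgroupOf T' with hM
  have hcommT : ∀ x y : T', ⁅x, y⁆ ∈ M := by
    intro x y
    obtain ⟨a₁, ha₁, b₁, hb₁, e₁⟩ := hdec ((x : N₁) : G) x.2
    obtain ⟨a₂, ha₂, b₂, hb₂, e₂⟩ := hdec ((y : N₁) : G) y.2
    have hb₁N : b₁ ∈ N₁ := by
      have h1 := mul_mem (Subgroup.inv_mem _ (hS₁N ha₁)) (x : N₁).2
      rwa [← e₁, inv_mul_cancel_left] at h1
    have hb₂N : b₂ ∈ N₁ := by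
      have h1 := mul_mem (Subgroup.inv_mem _ (hS₁N ha₂)) (y : N₁).2
      rwa [← e₂, inv_mul_cancel_left] at h1
    show ⁅((x : N₁) : G), ((y : N₁) : G)⁆ ∈ S₁
    have h1 := hcen b₁ hb₁ hb₁N
    have h2 := hcen b₂ hb₂ hb₂N
    have k1 : b₁ * (a₂ * b₂) = (a₂ * b₂) * b₁ := (h1 (a₂ * b₂)).symm.eq
    have k2 : b₂ * a₁⁻¹ = a₁⁻¹ * b₂ := (h2 a₁⁻¹).symm.eq
    rw [← e₁, ← e₂, commutatorElement_def,
      show a₁ * b₁ * (a₂ * b₂) * (a₁ * b₁)⁻¹ * (a₂ * b₂)⁻¹ =
        a₁ * (b₁ * (a₂ * b₂)) * b₁⁻¹ * a₁⁻¹ * b₂⁻¹ * a₂⁻¹ by group, k1,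
      show a₁ * (a₂ * b₂ * b₁) * b₁⁻¹ * a₁⁻¹ * b₂⁻¹ * a₂⁻¹ =
        a₁ * a₂ * (b₂ * a₁⁻¹) * b₂⁻¹ * a₂⁻¹ by group, k2]
    simpa [mul_assoc] using mul_mem (mul_mem (mul_mem ha₁ ha₂) (Subgroup.inv_mem _ ha₁))
      (Subgroup.inv_mem _ ha₂)
  have hP2 : IsPGroup 2 T' := P.2.comap_subtype
  open scoped IsMulCommutative in
  haveI : IsMulCommutative (T' ⧸ M) := by
    refine ⟨⟨fun x y => ?_⟩⟩
    obtain ⟨x, rfl⟩ := QuotientGroup.mk'_surjective M x
    obtain ⟨y, rfl⟩ := QuotientGroup.mk'_surjective M y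
    refine (commutatorElement_eq_one_iff_commute.1 ?_).eq
    rw [← map_commutatorElement]
    exact (QuotientGroup.eq_one_iff _).2 (hcommT x y)
  open scoped IsMulCommutative in
  let V : N₁ →* T' ⧸ M := MonoidHom.transfer (QuotientGroup.mk' M)
  have hVpow : ∀ x : T', V (x : N₁) = (QuotientGroup.mk' M x) ^ T'.index := by
    intro x
    open scoped IsMulCommutative in
    have hle : T'.focalSubgroupOf ≤ (QuotientGroup.mk' M).ker := by
      rw [QuotientGroup.ker_mk', focalSubgroupOf_def, hM]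
      exact comap_mono hfoc
    open scoped IsMulCommutative in
    have key : V (x : N₁) = QuotientGroup.lift _ (QuotientGroup.mk' M) hle
        (T'.transferFocal (x : N₁)) := by
      classical
      haveI : Fintype (Quotient (MulAction.orbitRel (zpowers (x : N₁)) (N₁ ⧸ T'))) :=
        Fintype.ofFinite _
      simp only [V, Subgroup.transferFocal,
        MonoidHom.transfer_eq_prod_quotient_orbitRel_zpowers_quot, map_prod]
      rfl
    rw [key, transferFocal_eq_pow, map_pow]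
    rfl
  -- the transfer vanishes on `N₁`
  have hV1 : ∀ n : N₁, V n = 1 := by
    have hle : N₁ ≤ V.ker.map N₁.subtype := by
      refine (closure_le _).2 fun c hc => ?_
      obtain ⟨s, hs, hsc⟩ := Group.mem_conjugatesOfSet_iff.1 hc
      obtain ⟨g, rfl⟩ := isConj_iff.1 hsc
      obtain ⟨k, hk, e⟩ := hGconj g s (hS₁N hs)
      refine ⟨⟨k, hk⟩ * ⟨s, hS₁N hs⟩ * ⟨k, hk⟩⁻¹, ?_, e.symm⟩
      have hsV : V ⟨s, hS₁N hs⟩ = 1 := by
        rw [show (⟨s, hS₁N hs⟩ : N₁) = ((⟨⟨s, hS₁N hs⟩, sc1.1 hs⟩ : T') : N₁) from rfl, hVpow,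
          show QuotientGroup.mk' M ⟨⟨s, hS₁N hs⟩, sc1.1 hs⟩ = 1 from
            (QuotientGroup.eq_one_iff _).2 hs, one_pow]
      rw [SetLike.mem_coe, MonoidHom.mem_ker, map_mul, map_mul, map_inv, hsV, mul_one,
        mul_inv_cancel]
    intro n
    obtain ⟨w, hw, e⟩ := hle n.2
    rwa [← show w = n from Subtype.ext e]
  set bT : T' := ⟨⟨b, hb1⟩, sc2.1 hb⟩ with hbT
  have h0 := hVpow bT
  rw [hV1] at h0
  have hodd : ¬ 2 ∣ T'.index := by
    intro h2
    have h3 : T'.index ∣ (P : Subgroup G).index := relIndex_dvd_of_normal (P : Subgroup G) N₁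
    exact P.not_dvd_index (h2.trans h3)
  have hbM : bT ∈ M := by
    have h4 : (QuotientGroup.mk' M bT) = 1 :=
      ((hP2.to_quotient M).powEquiv' hodd).injective
        (show (QuotientGroup.mk' M bT) ^ T'.index = (1 : T' ⧸ M) ^ T'.index by rw [one_pow, ← h0])
    exact (QuotientGroup.eq_one_iff _).1 h4
  exact mem_bot.1 (disj ▸ ⟨hbM, hb⟩)

end CfsgLib.ProdFusion
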