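import Cfsg.Agent.Lib.ProdFusion.Basic
import Cfsg.Prelude.Def_TwoFusion

/-!
# Product fusion: the case of a commutator subgroup which is a 2-group
-/

set_option autoImplicit false
set_option linter.style.haveILetI false
set_option linter.unusedSectionVars false

namespace CfsgLib.ProdFusion

open Subgroup
open scoped commutatorElement

universe u

variable {G : Type u} [Group G]

/-- An element of `2`-power order. -/
def IsTwoEl (a : G) : Prop := ∃ k : ℕ, a ^ 2 ^ k = 1

theorem isTwoEl_of_mem {R : Subgroup G} (hR : IsPGroup 2 R) {a : G} (ha : a ∈ R) : IsTwoEl a := by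
  obtain ⟨k, hk⟩ := hR ⟨a, ha⟩
  exact ⟨k, by simpa [Subtype.ext_iff] using hk⟩

theorem IsTwoEl.conj {a : G} (h : IsTwoEl a) (g : G) : IsTwoEl (g * a * g⁻¹) := by
  obtain ⟨k, hk⟩ := h
  exact ⟨k, by rw [conj_pow, hk, mul_one, mul_inv_cancel]⟩

theorem pow_two_pow_of_le {a : G} {i j : ℕ} (h : a ^ 2 ^ i = 1) (hij : i ≤ j) : a ^ 2 ^ j = 1 := by
  obtain ⟨c, hc⟩ := pow_dvd_pow 2 hij
  rw [hc, pow_mul, h, one_pow]

/-- Two `2`-elements which commute modulo a normal `2`-subgroup generate a `2`-group. -/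
theorem isPGroup_closure_of_mk_commute {R : Subgroup G} [R.Normal] (hR : IsPGroup 2 R) {a b : G}
    (ha : IsTwoEl a) (hb : IsTwoEl b)
    (hc : Commute (QuotientGroup.mk' R a) (QuotientGroup.mk' R b)) :
    IsPGroup 2 (Subgroup.closure ({a, b} : Set G)) := by
  set π := QuotientGroup.mk' R with hπ
  have hcomm : ∀ u ∈ Subgroup.closure ({π a, π b} : Set (G ⧸ R)),
      ∀ v ∈ Subgroup.closure ({π a, π b} : Set (G ⧸ R)), Commute u v := by
    haveI := Subgroup.isMulCommutative_closure (k := ({π a, π b} : Set (G ⧸ R))) (by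
      rintro u (rfl | rfl) v (rfl | rfl)
      exacts [_root_.rfl, hc.eq, hc.symm.eq, _root_.rfl])
    exact fun u hu v hv => congrArg Subtype.val
      (mul_comm' (⟨u, hu⟩ : Subgroup.closure ({π a, π b} : Set (G ⧸ R))) ⟨v, hv⟩)
  have hmap : ∀ u ∈ Subgroup.closure ({a, b} : Set G),
      π u ∈ Subgroup.closure ({π a, π b} : Set (G ⧸ R)) := fun u hu => by
    have := mem_map_of_mem π hu
    rwa [MonoidHom.map_closure, Set.image_pair] at this
  have key : ∀ u ∈ Subgroup.closure ({π a, π b} : Set (G ⧸ R)), IsTwoEl u := by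
    intro u hu
    induction hu using Subgroup.closure_induction with
    | mem v hv =>
      rcases hv with rfl | rfl
      · obtain ⟨k, hk⟩ := ha; exact ⟨k, by rw [← map_pow, hk, map_one]⟩
      · obtain ⟨k, hk⟩ := hb; exact ⟨k, by rw [← map_pow, hk, map_one]⟩
    | one => exact ⟨0, one_pow _⟩
    | mul v w hv hw ihv ihw =>
      obtain ⟨i, hi⟩ := ihv
      obtain ⟨j, hj⟩ := ihw
      refine ⟨max i j, ?_⟩
      rw [(hcomm v hv w hw).mul_pow, pow_two_pow_of_le hi (le_max_left i j),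
        pow_two_pow_of_le hj (le_max_right i j), one_mul]
    | inv v hv ihv =>
      obtain ⟨i, hi⟩ := ihv
      exact ⟨i, by rw [inv_pow, hi, inv_one]⟩
  intro u
  obtain ⟨k, hk⟩ := key _ (hmap u u.2)
  have hmem : (u : G) ^ 2 ^ k ∈ R := by
    rw [← map_pow] at hk
    exact (QuotientGroup.eq_one_iff _).1 hk
  obtain ⟨m, hm⟩ := isTwoEl_of_mem hR hmem
  refine ⟨k + m, Subtype.ext ?_⟩
  rw [SubgroupClass.coe_pow, pow_add, pow_mul, hm, OneMemClass.coe_one]

variable [Finite G]

/-- Two strongly closed commuting subgroups whose normal closures have a `2`-group as commutator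
have commuting normal closures. -/
theorem commutator_eq_bot_of_isPGroup {P : Sylow 2 G} {S₁ S₂ : Subgroup G}
    (sc1 : Cfsg.IsStronglyClosed S₁ (P : Subgroup G))
    (sc2 : Cfsg.IsStronglyClosed S₂ (P : Subgroup G))
    (comm : ∀ a ∈ S₁, ∀ b ∈ S₂, a * b = b * a)
    (hR : IsPGroup 2 (⁅normalClosure (S₁ : Set G), normalClosure (S₂ : Set G)⁆ : Subgroup G)) :
    ⁅normalClosure (S₁ : Set G), normalClosure (S₂ : Set G)⁆ = ⊥ := by
  set R := ⁅normalClosure (S₁ : Set G), normalClosure (S₂ : Set G)⁆ with hRdef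
  have key : ∀ a ∈ Group.conjugatesOfSet (S₁ : Set G), ∀ b ∈ Group.conjugatesOfSet (S₂ : Set G),
      Commute a b := by
    intro a ha b hb
    have hm : ⁅a, b⁆ ∈ R := commutator_mem_commutator (Subgroup.conjugatesOfSet_subset_normalClosure ha)
      (Subgroup.conjugatesOfSet_subset_normalClosure hb)
    have hc : Commute (QuotientGroup.mk' R a) (QuotientGroup.mk' R b) := by
      rw [← commutatorElement_eq_one_iff_commute, ← map_commutatorElement]
      exact (QuotientGroup.eq_one_iff _).2 hm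
    obtain ⟨a₀, ha₀, hac⟩ := Group.mem_conjugatesOfSet_iff.1 ha
    obtain ⟨b₀, hb₀, hbc⟩ := Group.mem_conjugatesOfSet_iff.1 hb
    obtain ⟨g, rfl⟩ := isConj_iff.1 hac
    obtain ⟨g', rfl⟩ := isConj_iff.1 hbc
    obtain ⟨k, hk⟩ := CfsgLib.Invol.exists_conj_le_sylow (isPGroup_closure_of_mk_commute hR
      ((isTwoEl_of_mem P.2 (sc1.1 ha₀)).conj g) ((isTwoEl_of_mem P.2 (sc2.1 hb₀)).conj g') hc) P
    have h1 := hk _ (subset_closure (Set.mem_insert _ _))
    have h2 := hk _ (subset_closure (Set.mem_insert_of_mem _ rfl))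
    rw [show k * (g * a₀ * g⁻¹) * k⁻¹ = (k * g) * a₀ * (k * g)⁻¹ by group] at h1
    rw [show k * (g' * b₀ * g'⁻¹) * k⁻¹ = (k * g') * b₀ * (k * g')⁻¹ by group] at h2
    have h3 := comm _ (sc1.2 a₀ ha₀ _ h1) _ (sc2.2 b₀ hb₀ _ h2)
    show g * a₀ * g⁻¹ * (g' * b₀ * g'⁻¹) = g' * b₀ * g'⁻¹ * (g * a₀ * g⁻¹)
    simpa [mul_assoc] using congrArg (fun u => k⁻¹ * u * k) h3
  rw [hRdef, commutator_eq_bot_iff_le_centralizer]
  refine (closure_le _).2 fun a ha => mem_centralizer_iff.2 fun b hb => ?_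
  have : normalClosure (S₂ : Set G) ≤ centralizer {a} := (closure_le _).2 fun c hc =>
    mem_centralizer_singleton_iff.2 (key a ha c hc).symm.eq
  exact mem_centralizer_singleton_iff.1 (this hb)

end CfsgLib.ProdFusion
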