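import Cfsg.Agent.Lib.ProdFusion.Rows
import Cfsg.Agent.Lib.ProdFusion.TwoGroup

/-!
# Product fusion: the theorem

If `S₁`, `S₂` are strongly closed subgroups of a Sylow 2-subgroup which commute elementwise and
meet trivially, then their normal closures commute modulo the odd core.
-/

set_option autoImplicit false
set_option linter.style.haveILetI false
set_option linter.unusedSectionVars false

namespace CfsgLib.ProdFusion

open Subgroup
open scoped commutatorElement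

universe u

variable {G : Type u} [Group G] [Finite G]

/-- The theorem below a given order. -/
def ProdBelow (n : ℕ) : Prop :=
  ∀ (H : Type u) [Group H] [Finite H] (P : Sylow 2 H) (S₁ S₂ : Subgroup H), Nat.card H < n →
    Cfsg.IsStronglyClosed S₁ (P : Subgroup H) → Cfsg.IsStronglyClosed S₂ (P : Subgroup H) →
    (∀ a ∈ S₁, ∀ b ∈ S₂, a * b = b * a) → S₁ ⊓ S₂ = ⊥ →
    ⁅normalClosure (S₁ : Set H), normalClosure (S₂ : Set H)⁆ ≤ Cfsg.pPrimeCore 2 H

/-- The induction step through a normal subgroup. -/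
theorem quot_reduce (ih : ProdBelow.{u} (Nat.card G)) (P : Sylow 2 G) {S₁ S₂ : Subgroup G}
    (sc1 : Cfsg.IsStronglyClosed S₁ (P : Subgroup G))
    (sc2 : Cfsg.IsStronglyClosed S₂ (P : Subgroup G))
    (comm : ∀ a ∈ S₁, ∀ b ∈ S₂, a * b = b * a) (N : Subgroup G) [N.Normal] (hN1 : N ≠ ⊥)
    (hlift : ∀ u : G, IsTwoEl u → u ∈ (P : Subgroup G) ⊔ N → ∃ n ∈ N, n * u * n⁻¹ ∈ P)
    (hdisj : ∀ a ∈ S₁, ∀ b ∈ S₂, b⁻¹ * a ∈ N → a ∈ N) :
    (⁅normalClosure (S₁ : Set G), normalClosure (S₂ : Set G)⁆).map (QuotientGroup.mk' N) ≤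
      Cfsg.pPrimeCore 2 (G ⧸ N) := by
  set f := QuotientGroup.mk' N with hf
  have hfs : Function.Surjective f := QuotientGroup.mk'_surjective N
  have hcard : Nat.card (G ⧸ N) < Nat.card G := by
    rw [card_eq_card_quotient_mul_card_subgroup N]
    exact lt_mul_of_one_lt_right Nat.card_pos ((one_lt_card_iff_ne_bot N).2 hN1)
  have hsc : ∀ S : Subgroup G, Cfsg.IsStronglyClosed S (P : Subgroup G) →
      Cfsg.IsStronglyClosed (S.map f) ((P.mapSurjective hfs : Sylow 2 (G ⧸ N)) : Subgroup (G ⧸ N)) := by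
    intro S hS
    refine ⟨by rw [Sylow.coe_mapSurjective]; exact map_mono hS.1, ?_⟩
    rintro _ ⟨x, hx, rfl⟩ g hg
    obtain ⟨g, rfl⟩ := hfs g
    rw [← map_inv, ← map_mul, ← map_mul] at hg ⊢
    rw [Sylow.coe_mapSurjective] at hg
    have hm : g * x * g⁻¹ ∈ (P : Subgroup G) ⊔ N := by
      have h1 := mem_comap.2 hg
      rwa [comap_map_eq, hf, QuotientGroup.ker_mk'] at h1
    obtain ⟨n, hn, hnP⟩ := hlift _ ((isTwoEl_of_mem P.2 (hS.1 hx)).conj g) hm
    have h2 := hS.2 x hx (n * g) (by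
      rwa [show n * g * x * (n * g)⁻¹ = n * (g * x * g⁻¹) * n⁻¹ by group])
    refine ⟨_, h2, ?_⟩
    have hn1 : f n = 1 := (QuotientGroup.eq_one_iff n).2 hn
    simp [map_mul, map_inv, hn1]
  have h := ih (G ⧸ N) (P.mapSurjective hfs) (S₁.map f) (S₂.map f) hcard (hsc S₁ sc1) (hsc S₂ sc2)
    (by
      rintro _ ⟨a, ha, rfl⟩ _ ⟨b, hb, rfl⟩
      rw [← map_mul, ← map_mul, comm a ha b hb])
    (by
      rw [eq_bot_iff]
      rintro _ ⟨⟨a, ha, rfl⟩, b, hb, e⟩
      exact mem_bot.2 ((QuotientGroup.eq_one_iff a).2 (hdisj a ha b hb (QuotientGroup.eq.1 e))))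
  rw [map_commutator]
  refine le_trans (commutator_mono ?_ ?_) h <;>
  · refine (map_normalClosure_le _ _).trans (le_of_eq ?_)
    rw [coe_map]

/-- The involutions of a normal abelian subgroup lie in the `2`-core. -/
theorem mem_pCore_of_abelian_normal {Z : Subgroup G} [Z.Normal]
    (hc : ∀ u ∈ Z, ∀ v ∈ Z, Commute u v) {y : G} (hy : y ∈ Z) (h : IsTwoEl y) :
    y ∈ Cfsg.pCore 2 G := by
  let T : Subgroup G :=
    { carrier := {u | u ∈ Z ∧ IsTwoEl u}
      one_mem' := ⟨one_mem _, 0, one_pow _⟩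
      mul_mem' := fun {a b} ha hb => by
        obtain ⟨i, hi⟩ := ha.2
        obtain ⟨j, hj⟩ := hb.2
        exact ⟨mul_mem ha.1 hb.1, max i j, by
          rw [(hc a ha.1 b hb.1).mul_pow, pow_two_pow_of_le hi (le_max_left i j),
            pow_two_pow_of_le hj (le_max_right i j), one_mul]⟩
      inv_mem' := fun {a} ha => by
        obtain ⟨i, hi⟩ := ha.2
        exact ⟨inv_mem ha.1, i, by rw [inv_pow, hi, inv_one]⟩ }
  haveI : T.Normal := ⟨fun u hu g => ⟨Normal.conj_mem inferInstance u hu.1 g, hu.2.conj g⟩⟩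
  refine CfsgLib.Coprime.le_pCore (N := T) (fun u => ?_) ⟨hy, h⟩
  obtain ⟨k, hk⟩ := u.2.2
  exact ⟨k, Subtype.ext (by simpa using hk)⟩

/-- A normal abelian subgroup of a group without odd core is a `2`-group. -/
theorem isPGroup_of_abelian_normal (hO : Cfsg.pPrimeCore 2 G = ⊥) {Z : Subgroup G} [Z.Normal]
    (hc : ∀ u ∈ Z, ∀ v ∈ Z, Commute u v) : IsPGroup 2 Z := by
  let K : Subgroup G :=
    { carrier := {u | u ∈ Z ∧ Odd (orderOf u)}
      one_mem' := ⟨one_mem _, by simp⟩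
      mul_mem' := fun {a b} ha hb =>
        ⟨mul_mem ha.1 hb.1,
          (ha.2.mul hb.2).of_dvd_nat (hc a ha.1 b hb.1).orderOf_mul_dvd_mul_orderOf⟩
      inv_mem' := fun {a} ha => ⟨inv_mem ha.1, by rw [orderOf_inv]; exact ha.2⟩ }
  haveI : K.Normal := ⟨fun u hu g => ⟨Normal.conj_mem inferInstance u hu.1 g, by
    rw [show g * u * g⁻¹ = MulAut.conj g u from rfl, MulEquiv.orderOf_eq]; exact hu.2⟩⟩
  have hodd : Odd (Nat.card K) := by
    rw [← Nat.not_even_iff_odd, even_iff_two_dvd]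
    intro h2
    haveI : Fact (Nat.Prime 2) := ⟨Nat.prime_two⟩
    obtain ⟨u, hu⟩ := exists_prime_orderOf_dvd_card' (G := K) 2 h2
    have h3 := u.2.2
    rw [orderOf_coe, hu] at h3
    exact absurd h3 (by decide)
  have hbot : K = ⊥ := eq_bot_of_odd_normal hO hodd
  intro u
  obtain ⟨k, m, hm, e⟩ := Nat.exists_eq_two_pow_mul_odd (orderOf_pos (u : G)).ne'
  have hK : (u : G) ^ 2 ^ k ∈ K := by
    refine ⟨pow_mem u.2 _, ?_⟩
    rw [orderOf_pow, e, Nat.gcd_eq_right (dvd_mul_right _ _), Nat.mul_div_cancel_left _ (pow_pos two_pos k)]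
    exact hm
  rw [hbot, mem_bot] at hK
  exact ⟨k, Subtype.ext (by simpa using hK)⟩

/-- A normal subgroup disjoint from a strongly closed subgroup centralizes it. -/
theorem centralizes_of_disjoint (hO : Cfsg.pPrimeCore 2 G = ⊥) {P : Sylow 2 G} {S : Subgroup G}
    (sc : Cfsg.IsStronglyClosed S (P : Subgroup G)) {A : Subgroup G} [A.Normal] (hAS : A ⊓ S = ⊥) :
    S ≤ centralizer (A : Set G) := by
  intro s hs
  induction hn : orderOf s using Nat.strongRecOn generalizing s with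
  | ind n ih =>
  by_cases h1 : s = 1
  · rw [h1]; exact one_mem _
  obtain ⟨k, hk⟩ := isTwoEl_of_mem P.2 (sc.1 hs)
  have hdiv : 2 ∣ orderOf s := by
    obtain ⟨i, -, hi⟩ := (Nat.dvd_prime_pow Nat.prime_two).1 (orderOf_dvd_of_pow_eq_one hk)
    rcases i with _ | i
    · exact absurd (orderOf_eq_one_iff.1 (by simpa using hi)) h1
    · exact ⟨2 ^ i, by rw [hi, pow_succ']⟩
  have hsq : s ^ 2 ∈ centralizer (A : Set G) := by
    refine ih (orderOf (s ^ 2)) ?_ (pow_mem hs 2) rfl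
    rw [← hn, orderOf_pow, Nat.gcd_eq_right hdiv]
    exact Nat.div_lt_self (orderOf_pos s) (by norm_num)
  set J := A ⊔ zpowers s with hJ
  set N := zpowers (s ^ 2) with hN
  have hNJ : J ≤ normalizer (N : Set G) := sup_le
    (fun a ha => normalizer_zpowers_of_commute (mem_centralizer_iff.1 hsq a ha))
    (zpowers_le.2 (normalizer_zpowers_of_commute ((Commute.refl s).pow_right 2)))
  set N' := N.subgroupOf J with hN'
  haveI : N'.Normal := normal_subgroupOf_of_le_normalizer hNJ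
  set f := QuotientGroup.mk' N' with hf
  have hNS : N ≤ S := zpowers_le.2 (pow_mem hs 2)
  have hsJ : s ∈ J := mem_sup_right (mem_zpowers s)
  have hNJle : N ≤ J := zpowers_le.2 (pow_mem hsJ 2)
  set sJ : J := ⟨s, hsJ⟩ with hsJdef
  have heq1 : ∀ u : J, f u = 1 ↔ (u : G) ∈ N := fun u => by
    rw [hf, QuotientGroup.mk'_apply, QuotientGroup.eq_one_iff]; rfl
  by_cases hs1 : f sJ = 1
  · exact (zpowers_le.2 hsq) ((heq1 sJ).1 hs1)
  have hss : f sJ * f sJ = 1 := by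
    rw [← map_mul]
    exact (heq1 _).2 (by rw [show ((sJ * sJ : J) : G) = s ^ 2 from (pow_two s).symm]; exact mem_zpowers _)
  have hdec : ∀ u : J, ∃ a ∈ A, ∃ i : ℤ, (u : G) = a * s ^ i := fun u => by
    obtain ⟨a, ha, w, hw, e⟩ := CfsgLib.Coprime.mem_sup_exists
      (fun g _ => by rw [normalizer_eq_top]; exact mem_top g) u.2
    obtain ⟨i, rfl⟩ := mem_zpowers_iff.1 hw
    exact ⟨a, ha, i, e.symm⟩
  have hN2 : IsPGroup 2 N' := (P.2.to_le (hNS.trans sc.1)).comap_subtype (K := J)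
  have hiso : Cfsg.IsIsolatedInvolution (f sJ) := by
    refine ⟨CfsgLib.Invol.invol_iff.2 ⟨hss, hs1⟩, fun g hg => ?_⟩
    obtain ⟨g, rfl⟩ := QuotientGroup.mk'_surjective N' g
    obtain ⟨a, ha, i, e⟩ := hdec g
    have hgs : (g : G) * s * (g : G)⁻¹ = a * s * a⁻¹ := by
      rw [e, show a * s ^ i * s * (a * s ^ i)⁻¹ = a * (s ^ i * s * (s ^ i)⁻¹) * a⁻¹ by group,
        ((Commute.refl s).zpow_left i).eq, mul_inv_cancel_right]
    rw [← map_inv, ← map_mul, ← map_mul] at hg ⊢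
    have hp := isPGroup_closure_of_mk_commute (G := J) hN2
      (a := sJ) (b := g * sJ * g⁻¹) ⟨k, Subtype.ext (by simpa using hk)⟩
      ((show IsTwoEl sJ from ⟨k, Subtype.ext (by simpa using hk)⟩).conj g) hg
    obtain ⟨m, hm⟩ := CfsgLib.Invol.exists_conj_le_sylow (hp.map J.subtype) P
    have h1 := hm s ⟨sJ, subset_closure (Set.mem_insert _ _), rfl⟩
    have h2 := hm (a * s * a⁻¹)
      ⟨g * sJ * g⁻¹, subset_closure (Set.mem_insert_of_mem _ rfl), hgs⟩
    have h1' := sc.2 s hs m h1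
    rw [show m * (a * s * a⁻¹) * m⁻¹ = (m * a) * s * (m * a)⁻¹ by group] at h2
    have h2' := sc.2 s hs _ h2
    have h3 : m * (a * s * a⁻¹ * s⁻¹) * m⁻¹ ∈ A ⊓ S := by
      refine ⟨Normal.conj_mem inferInstance _ ?_ m, ?_⟩
      · rw [show a * s * a⁻¹ * s⁻¹ = a * (s * a⁻¹ * s⁻¹) by group]
        exact mul_mem ha (Normal.conj_mem inferInstance _ (inv_mem ha) s)
      · rw [show m * (a * s * a⁻¹ * s⁻¹) * m⁻¹ =
          ((m * a) * s * (m * a)⁻¹) * (m * s * m⁻¹)⁻¹ by group]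
        exact mul_mem h2' (Subgroup.inv_mem _ h1')
    rw [hAS, mem_bot, mul_inv_eq_one, mul_eq_left, mul_inv_eq_one] at h3
    exact congrArg f (Subtype.ext (hgs.trans h3))
  -- the odd core of the quotient is trivial
  set Q := J ⧸ N' with hQ
  have hAJ : A ≤ J := le_sup_left
  have hAN : ∀ a ∈ A, a ∈ N → a = 1 := fun a ha haN => mem_bot.1 (hAS ▸ ⟨ha, hNS haN⟩)
  set Abar : Subgroup Q := (A.subgroupOf J).map f with hAbar
  haveI : Abar.Normal := Normal.map inferInstance f (QuotientGroup.mk'_surjective N')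
  have hKA : Cfsg.pPrimeCore 2 Q ≤ Abar := by
    intro w hw
    have hwo : Odd (orderOf w) := odd_orderOf_of_mem odd_core hw
    obtain ⟨u, rfl⟩ := QuotientGroup.mk'_surjective N' w
    obtain ⟨a, ha, i, e⟩ := hdec u
    rcases Int.even_or_odd i with ⟨j, rfl⟩ | ⟨j, rfl⟩
    · refine ⟨⟨a, hAJ ha⟩, ha, ((QuotientGroup.eq (s := N')).2 ?_)⟩
      rw [mem_subgroupOf]
      show a⁻¹ * (u : G) ∈ N
      rw [e, inv_mul_cancel_left, ← two_mul, zpow_mul, zpow_two, ← pow_two]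
      exact zpow_mem (mem_zpowers _) j
    · have e1 : f u = f ⟨a, hAJ ha⟩ * f sJ := by
        rw [← map_mul]
        refine ((QuotientGroup.eq (s := N')).2 ?_).symm
        rw [mem_subgroupOf]
        show (a * s)⁻¹ * (u : G) ∈ N
        rw [e, show (a * s)⁻¹ * (a * s ^ (2 * j + 1)) = (s ^ (2 : ℤ)) ^ j by
          rw [← zpow_mul]; group]
        rw [zpow_two, ← pow_two]
        exact zpow_mem (mem_zpowers _) j
      obtain ⟨l, hl⟩ := hwo
      set p := QuotientGroup.mk' Abar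
      have e2 : p (f u) = p (f sJ) := by
        rw [e1, map_mul p, show p (f ⟨a, hAJ ha⟩) = 1 from
          (QuotientGroup.eq_one_iff _).2 ⟨⟨a, hAJ ha⟩, ha, rfl⟩, one_mul]
      have e3 : p (f u) ^ (2 * l + 1) = 1 := by
        rw [← map_pow, show f u ^ (2 * l + 1) = 1 by rw [← hl]; exact pow_orderOf_eq_one _, map_one]
      have e4 : p (f u) * p (f u) = 1 := by rw [e2, ← map_mul, hss, map_one]
      rw [pow_succ, pow_mul, pow_two, e4, one_pow, one_mul] at e3
      exact (QuotientGroup.eq_one_iff _).1 e3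
  let K' : Subgroup G := A ⊓ ((Cfsg.pPrimeCore 2 Q).comap f).map J.subtype
  have hK'odd : Odd (Nat.card K') := by
    refine (odd_core (K := Q)).of_dvd_nat ?_
    let φ : K' →* Q := f.comp (Subgroup.inclusion (fun u hu => hAJ hu.1 : K' ≤ J))
    have hinj : Function.Injective φ := by
      rw [injective_iff_map_eq_one]
      intro u hu
      exact Subtype.ext (hAN u u.2.1 ((heq1 _).1 hu))
    rw [Nat.card_congr (φ.ofInjective hinj).toEquiv]
    refine card_dvd_of_le ?_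
    rintro _ ⟨u, rfl⟩
    obtain ⟨w, hw, e⟩ := u.2.2
    rwa [SetLike.mem_coe, mem_comap, show w = Subgroup.inclusion (fun u hu => hAJ hu.1 : K' ≤ J) u
      from Subtype.ext e] at hw
  have hK'bot : K' = ⊥ := by
    refine eq_bot_of_normalizes hO (N := A) inf_le_left hK'odd ?_
    refine CfsgLib.Coprime.inf_le_normalizer le_normalizer fun a ha => mem_of_forall_conj_mem ?_
    rintro _ ⟨w, hw, rfl⟩
    refine ⟨⟨a, hAJ ha⟩ * w * ⟨a, hAJ ha⟩⁻¹, ?_, rfl⟩
    exact Normal.conj_mem inferInstance w hw _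
  have hcoreQ : Cfsg.pPrimeCore 2 Q = ⊥ := by
    rw [eq_bot_iff]
    intro w hw
    obtain ⟨u, hu, rfl⟩ := hKA hw
    have h2 : (u : G) ∈ K' := ⟨hu, u, hw, rfl⟩
    rw [hK'bot, mem_bot] at h2
    rw [show u = 1 from Subtype.ext h2, map_one]
    exact one_mem _
  have hcen := CfsgLib.Invol.eq_of_zcentral_bot (CfsgLib.Invol.zstar hiso) hcoreQ
  refine mem_centralizer_iff.2 fun a ha => ?_
  have h4 : f ⁅(⟨a, hAJ ha⟩ : J), sJ⁆ = 1 := by
    rw [map_commutatorElement, commutatorElement_eq_one_iff_commute]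
    exact mem_center_iff.1 hcen _
  have h5 : ⁅a, s⁆ ∈ N := (heq1 _).1 h4
  have h6 : ⁅a, s⁆ ∈ A := by
    rw [commutatorElement_def, show a * s * a⁻¹ * s⁻¹ = a * (s * a⁻¹ * s⁻¹) by group]
    exact mul_mem ha (Normal.conj_mem inferInstance _ (inv_mem ha) s)
  exact commutatorElement_eq_one_iff_commute.1 (hAN _ h6 h5)

theorem exists_invol_of_ne_bot {P : Sylow 2 G} {S : Subgroup G} (hS : S ≤ (P : Subgroup G))
    {A : Subgroup G} (h : A ⊓ S ≠ ⊥) : ∃ y ∈ A ⊓ S, orderOf y = 2 := by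
  obtain ⟨⟨w, hw⟩, hw1⟩ := (Subgroup.ne_bot_iff_exists_ne_one).1 h
  have hw1' : w ≠ 1 := fun e => hw1 (Subtype.ext e)
  obtain ⟨k, hk⟩ := isTwoEl_of_mem P.2 (hS hw.2)
  obtain ⟨i, -, hi⟩ := (Nat.dvd_prime_pow Nat.prime_two).1 (orderOf_dvd_of_pow_eq_one hk)
  rcases i with _ | i
  · exact absurd (orderOf_eq_one_iff.1 (by simpa using hi)) hw1'
  refine ⟨w ^ 2 ^ i, pow_mem hw _, ?_⟩
  rw [orderOf_pow, hi, Nat.gcd_eq_right (pow_dvd_pow 2 (Nat.le_succ i)), pow_succ]
  exact Nat.mul_div_cancel_left 2 (pow_pos two_pos i)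

variable {P : Sylow 2 G} {S₁ S₂ : Subgroup G}

theorem Setup.classGroup_commute (h : Setup P S₁ S₂) :
    classGroup S₂ ≤ centralizer (classGroup S₁ : Set G) := by
  refine (closure_le _).2 fun y hy => mem_centralizer_iff.2 fun u hu => ?_
  have : classGroup S₁ ≤ centralizer {y} := (closure_le _).2 fun x hx =>
    mem_centralizer_singleton_iff.2 (h.commute_classes hx hy).eq
  exact mem_centralizer_singleton_iff.1 (this hu)

theorem Setup.classGroup_inf (h : Setup P S₁ S₂) : classGroup S₁ ⊓ S₂ = ⊥ := by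
  by_contra hne
  obtain ⟨y, hy, hy2⟩ := exists_invol_of_ne_bot h.sc2.1 hne
  have hyX : IsX S₂ y := h.symm.isX_of_mem hy.2 hy2
  have hc : ∀ u ∈ classGroup S₁ ⊓ classGroup S₂, ∀ v ∈ classGroup S₁ ⊓ classGroup S₂,
      Commute u v := fun u hu v hv => mem_centralizer_iff.1 (h.classGroup_commute hv.2) u hu.1
  have hy' : y ∈ classGroup S₁ ⊓ classGroup S₂ := ⟨hy.1, subset_closure hyX⟩
  exact CfsgLib.Invol.invol_ne_one hy2 (mem_bot.1 (h.core2 ▸
    ⟨hy.2, mem_pCore_of_abelian_normal hc hy' (isTwoEl_of_mem P.2 (h.sc2.1 hy.2))⟩))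

theorem Setup.normalClosure_centralizes (h : Setup P S₁ S₂) :
    normalClosure (S₁ : Set G) ≤ centralizer (classGroup S₂ : Set G) :=
  normalClosure_le_normal (centralizes_of_disjoint h.odd_bot h.sc1 h.symm.classGroup_inf)

theorem Setup.center_inf (h : Setup P S₁ S₂) :
    centralizer (classGroup S₁ : Set G) ⊓ centralizer (classGroup S₂ : Set G) ⊓ S₁ = ⊥ := by
  by_contra hne
  obtain ⟨y, hy, hy2⟩ := exists_invol_of_ne_bot h.sc1.1 hne
  have hc : ∀ u ∈ classGroup S₁ ⊓ centralizer (classGroup S₁ : Set G),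
      ∀ v ∈ classGroup S₁ ⊓ centralizer (classGroup S₁ : Set G), Commute u v :=
    fun u hu v hv => mem_centralizer_iff.1 hv.2 u hu.1
  have hy' : y ∈ classGroup S₁ ⊓ centralizer (classGroup S₁ : Set G) :=
    ⟨subset_closure (h.isX_of_mem hy.2 hy2), hy.1.1⟩
  exact CfsgLib.Invol.invol_ne_one hy2 (mem_bot.1 (h.core1 ▸
    ⟨hy.2, mem_pCore_of_abelian_normal hc hy' (isTwoEl_of_mem P.2 (h.sc1.1 hy.2))⟩))

theorem Setup.commutator_eq_bot (h : Setup P S₁ S₂) :
    ⁅normalClosure (S₁ : Set G), normalClosure (S₂ : Set G)⁆ = ⊥ := by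
  refine commutator_eq_bot_of_isPGroup h.sc1 h.sc2 h.comm ?_
  set N₁ := normalClosure (S₁ : Set G)
  set N₂ := normalClosure (S₂ : Set G)
  set C₀ := centralizer (classGroup S₁ : Set G) ⊓ centralizer (classGroup S₂ : Set G) with hC₀
  have h1 : N₁ ≤ centralizer (classGroup S₂ : Set G) := h.normalClosure_centralizes
  have h2 : N₂ ≤ centralizer (classGroup S₁ : Set G) := h.symm.normalClosure_centralizes
  have hN₁C : N₁ ≤ centralizer (C₀ : Set G) :=
    normalClosure_le_normal (centralizes_of_disjoint h.odd_bot h.sc1 h.center_inf)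
  have hRle : ⁅N₁, N₂⁆ ≤ N₁ ⊓ N₂ := le_inf (commutator_le_left _ _) (commutator_le_right _ _)
  refine isPGroup_of_abelian_normal h.odd_bot fun u hu v hv => ?_
  have hvC : v ∈ C₀ := ⟨h2 (hRle hv).2, h1 (hRle hv).1⟩
  exact (mem_centralizer_iff.1 (hN₁C (hRle hu).1) v hvC).symm

/-- The first reduction: a nontrivial intersection with the `2`-core. -/
theorem eq_bot_of_core (ih : ProdBelow.{u} (Nat.card G)) (hO : Cfsg.pPrimeCore 2 G = ⊥)
    (P : Sylow 2 G) {S₁ S₂ : Subgroup G}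
    (sc1 : Cfsg.IsStronglyClosed S₁ (P : Subgroup G))
    (sc2 : Cfsg.IsStronglyClosed S₂ (P : Subgroup G))
    (comm : ∀ a ∈ S₁, ∀ b ∈ S₂, a * b = b * a) (disj : S₁ ⊓ S₂ = ⊥)
    (hne : S₁ ⊓ Cfsg.pCore 2 G ≠ ⊥) :
    ⁅normalClosure (S₁ : Set G), normalClosure (S₂ : Set G)⁆ = ⊥ := by
  set A := S₁ ⊓ Cfsg.pCore 2 G with hA
  haveI := CfsgLib.Coprime.pCore_normal' (G := G) 2
  have hcP : Cfsg.pCore 2 G ≤ (P : Subgroup G) := by
    intro u hu
    obtain ⟨g, hg⟩ := CfsgLib.Invol.exists_conj_le_sylow (CfsgLib.Coprime.pCore_isPGroup (G := G) 2) P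
    have := hg (g⁻¹ * u * g) (by
      simpa using Normal.conj_mem (inferInstance : (Cfsg.pCore 2 G).Normal) u hu g⁻¹)
    show u ∈ P
    simpa [mul_assoc] using this
  haveI : A.Normal := ⟨fun u hu g =>
    ⟨sc1.2 u hu.1 g (hcP (Normal.conj_mem inferInstance u hu.2 g)),
      Normal.conj_mem inferInstance u hu.2 g⟩⟩
  set R := ⁅normalClosure (S₁ : Set G), normalClosure (S₂ : Set G)⁆ with hR
  have hmap := quot_reduce ih P sc1 sc2 comm A hne
    (fun u _ hu => ⟨1, one_mem _, by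
      rw [sup_of_le_left (inf_le_left.trans sc1.1)] at hu
      show (1 : G) * u * 1⁻¹ ∈ (P : Subgroup G)
      simpa using hu⟩)
    (fun a ha b hb hm => by
      have hbS : b ∈ S₁ := by
        have h1 : b⁻¹ ∈ S₁ := by simpa using mul_mem hm.1 (Subgroup.inv_mem _ ha)
        simpa using inv_mem h1
      have hb1 : b = 1 := mem_bot.1 (disj ▸ ⟨hbS, hb⟩)
      simpa [hb1] using hm)
  rw [← hR] at hmap
  have hN2C : normalClosure (S₂ : Set G) ≤ centralizer (A : Set G) :=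
    normalClosure_le_normal fun b hb => mem_centralizer_iff.2 fun a ha => comm a ha.1 b hb
  set Z := (A ⊓ R).subgroupOf R with hZ
  haveI : Z.Normal := Normal.subgroupOf inferInstance R
  refine commutator_eq_bot_of_isPGroup sc1 sc2 comm ?_
  set f := QuotientGroup.mk' A with hf
  let ψ : R →* (G ⧸ A) := f.comp R.subtype
  have hker : ψ.ker = Z := by
    ext u
    rw [MonoidHom.mem_ker, MonoidHom.comp_apply, hf, QuotientGroup.mk'_apply,
      QuotientGroup.eq_one_iff, hZ, mem_subgroupOf]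
    exact ⟨fun h => ⟨h, u.2⟩, fun h => h.1⟩
  have hindex : Odd Z.index := by
    rw [← hker, Subgroup.index_ker]
    refine (odd_core (K := G ⧸ A)).of_dvd_nat (card_dvd_of_le ?_)
    rintro _ ⟨u, rfl⟩
    exact hmap ⟨u, u.2, rfl⟩
  have hZ2 : IsPGroup 2 Z := by
    refine (IsPGroup.comap_subtype (K := R) ?_)
    exact P.2.to_le ((inf_le_left.trans inf_le_left).trans sc1.1)
  have hcop : (Nat.card Z).Coprime Z.index := by
    obtain ⟨k, hk⟩ := IsPGroup.iff_card.1 hZ2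
    rw [hk]
    exact (Nat.coprime_two_left.2 hindex).pow_left k
  obtain ⟨K, hK⟩ := Subgroup.exists_right_complement'_of_coprime hcop
  have hZcen : ∀ z ∈ Z, ∀ u : R, Commute z u := fun z hz u => Subtype.ext
    (mem_centralizer_iff.1 (hN2C ((commutator_le_right _ _) u.2)) z hz.1)
  haveI : K.Normal := ⟨fun v hv g => by
    obtain ⟨⟨z, w⟩, e⟩ := (hK.2 g)
    simp only at e
    rw [← e, show (z : R) * w * v * ((z : R) * w)⁻¹ = z * ((w : R) * v * (w : R)⁻¹) * (z : R)⁻¹ by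
      group, (hZcen z z.2 _).eq, mul_inv_cancel_right]
    exact mul_mem (mul_mem w.2 hv) (inv_mem w.2)⟩
  have hKodd : Odd (Nat.card K) := by rw [← hK.symm.index_eq_card]; exact hindex
  have hKbot : K = ⊥ := by
    refine eq_bot_of_odd_normal ?_ hKodd
    apply map_injective R.subtype_injective
    rw [CfsgLib.Coprime.pPrimeCore_map_subtype_eq Nat.prime_two, hO, bot_inf_eq, Subgroup.map_bot]
  have hZtop : Z = ⊤ := by
    rw [← index_eq_one, hK.symm.index_eq_card, hKbot, card_bot]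
  exact (P.2.to_le ((inf_le_left.trans inf_le_left).trans sc1.1) : IsPGroup 2 (A ⊓ R : Subgroup G)).to_le
    fun u hu => (mem_subgroupOf (K := R) (h := ⟨u, hu⟩)).1 (show (⟨u, hu⟩ : R) ∈ Z by rw [hZtop]; exact mem_top _)

theorem setup_ind (ih : ProdBelow.{u} (Nat.card G)) (P : Sylow 2 G) {S₁ S₂ : Subgroup G}
    (sc1 : Cfsg.IsStronglyClosed S₁ (P : Subgroup G))
    (sc2 : Cfsg.IsStronglyClosed S₂ (P : Subgroup G))
    (comm : ∀ a ∈ S₁, ∀ b ∈ S₂, a * b = b * a) (disj : S₁ ⊓ S₂ = ⊥) :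
    ∀ H : Subgroup G, H ≠ ⊤ → ∀ x ∈ H, ∀ y ∈ H, IsX S₁ x → IsX S₂ y → ⁅x, y⁆ ∈ OC H := by
  intro H hH x hxH y hyH hx hy
  let Q : Sylow 2 H := default
  obtain ⟨g, hg⟩ := CfsgLib.Invol.exists_conj_le_sylow (Q.2.map H.subtype) P
  let φ : H →* G := (MulAut.conj g).toMonoidHom.comp H.subtype
  have hφQ : ∀ u ∈ Q, φ u ∈ P := fun u hu => hg _ ⟨u, hu, rfl⟩
  have hφ : Function.Injective φ := fun a b e => Subtype.ext ((MulAut.conj g).injective e)
  have hsc : ∀ S : Subgroup G, Cfsg.IsStronglyClosed S (P : Subgroup G) →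
      Cfsg.IsStronglyClosed (S.comap φ ⊓ (Q : Subgroup H)) (Q : Subgroup H) := fun S hS => by
    refine ⟨inf_le_right, fun u hu k hk => ⟨mem_comap.2 ?_, hk⟩⟩
    have h1 := hφQ _ hk
    rw [map_mul, map_mul, map_inv] at h1 ⊢
    exact hS.2 _ hu.1 _ h1
  have hcl : ∀ (S : Subgroup G), Cfsg.IsStronglyClosed S (P : Subgroup G) → ∀ u : H,
      IsX S (u : G) → u ∈ normalClosure ((S.comap φ ⊓ (Q : Subgroup H) : Subgroup H) : Set H) := by
    intro S hS u hu
    have h2 : IsPGroup 2 (zpowers u) := IsPGroup.of_card (n := 1) (by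
      rw [Nat.card_zpowers, ← orderOf_coe, hu.1, pow_one])
    obtain ⟨k, hk⟩ := CfsgLib.Invol.exists_conj_le_sylow h2 Q
    have hk' := hk u (mem_zpowers u)
    obtain ⟨c, hc⟩ := hu.2
    have hS' : φ (k * u * k⁻¹) ∈ S := by
      have h1 := hφQ _ hk'
      have e : φ (k * u * k⁻¹) =
          (g * k * c⁻¹) * (c * (u : G) * c⁻¹) * (g * k * c⁻¹)⁻¹ := by
        simp [φ, mul_assoc]
      rw [e] at h1 ⊢
      exact hS.2 _ hc _ h1
    have h3 := Subgroup.normalClosure_normal.conj_mem _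
      (subset_normalClosure (s := ((S.comap φ ⊓ (Q : Subgroup H) : Subgroup H) : Set H))
        ⟨hS', hk'⟩) k⁻¹
    simpa [mul_assoc] using h3
  have hcard : Nat.card H < Nat.card G :=
    lt_of_le_of_ne (card_le_card_group H) fun e => hH (eq_top_of_card_eq H e)
  have h := ih H Q (S₁.comap φ ⊓ (Q : Subgroup H)) (S₂.comap φ ⊓ (Q : Subgroup H)) hcard
    (hsc S₁ sc1) (hsc S₂ sc2)
    (fun a ha b hb => hφ (by rw [map_mul, map_mul]; exact comm _ ha.1 _ hb.1))
    (eq_bot_iff.2 fun u hu => mem_bot.2 (hφ (by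
      rw [map_one]; exact mem_bot.1 (disj ▸ ⟨hu.1.1, hu.2.1⟩))))
  exact ⟨⁅(⟨x, hxH⟩ : H), ⟨y, hyH⟩⁆, h (commutator_mem_commutator
    (hcl S₁ sc1 ⟨x, hxH⟩ hx) (hcl S₂ sc2 ⟨y, hyH⟩ hy)), rfl⟩

theorem prod_fusion_aux : ∀ n : ℕ, ProdBelow.{u} n := by
  intro n
  induction n with
  | zero => exact fun _ _ _ _ _ _ h => absurd h (Nat.not_lt_zero _)
  | succ n ih =>
  intro G _ _ P S₁ S₂ hlt sc1 sc2 comm disj
  rcases Nat.lt_succ_iff_lt_or_eq.1 hlt with h | h
  · exact ih G P S₁ S₂ h sc1 sc2 comm disj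
  subst h
  set R := ⁅normalClosure (S₁ : Set G), normalClosure (S₂ : Set G)⁆ with hR
  by_cases hO : Cfsg.pPrimeCore 2 G = ⊥
  swap
  · set O := Cfsg.pPrimeCore 2 G with hOdef
    have hOodd : Odd (Nat.card O) := odd_core
    have hPO : ∀ u ∈ (P : Subgroup G), u ∈ O → u = 1 := fun u hu hu' => by
      obtain ⟨k, hk⟩ := isTwoEl_of_mem P.2 hu
      exact CfsgLib.Invol.eq_one_of_odd_of_pow_two (odd_orderOf_of_mem hOodd hu') hk
    have hmap := quot_reduce ih P sc1 sc2 comm O hO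
      (fun u hu hu' => by
        obtain ⟨k, hk⟩ := hu
        have h2 : IsPGroup 2 (zpowers (⟨u, hu'⟩ : ((P : Subgroup G) ⊔ O : Subgroup G))) := by
          obtain ⟨i, -, hi⟩ := (Nat.dvd_prime_pow Nat.prime_two).1 (orderOf_dvd_of_pow_eq_one hk)
          exact IsPGroup.of_card (n := i) (by rw [Nat.card_zpowers, Subgroup.orderOf_mk, hi])
        obtain ⟨w, hw⟩ := CfsgLib.Invol.exists_conj_le_sylow h2 (P.subtype le_sup_left)
        have h3 : (w : G) * u * (w : G)⁻¹ ∈ (P : Subgroup G) := hw _ (mem_zpowers _)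
        obtain ⟨p, hp, o, ho, e⟩ : ∃ p ∈ (P : Subgroup G), ∃ o ∈ O, p * o = (w : G) := by
          obtain ⟨o, ho, p, hp, e⟩ := CfsgLib.Coprime.mem_sup_exists (N := O) (H := (P : Subgroup G))
            (fun g _ => by rw [normalizer_eq_top]; exact mem_top g) (x := (w : G)) (by rw [sup_comm]; exact w.2)
          exact ⟨p, hp, p⁻¹ * o * p, by simpa using Normal.conj_mem inferInstance o ho p⁻¹,
            by rw [← e]; group⟩
        refine ⟨o, ho, ?_⟩
        have h4 := mul_mem (mul_mem (inv_mem hp) h3) hp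
        rwa [← e, show p⁻¹ * (p * o * u * (p * o)⁻¹) * p = o * u * o⁻¹ by group] at h4)
      (fun a ha b hb hm => by
        have h1 := hPO _ (mul_mem (inv_mem (sc2.1 hb)) (sc1.1 ha)) hm
        have hab : b = a := inv_mul_eq_one.1 h1
        have ha1 : a = 1 := mem_bot.1 (disj ▸ ⟨ha, hab ▸ hb⟩)
        rw [ha1]; exact one_mem _)
    rw [CfsgLib.Coprime.pPrimeCore_quotient_eq_bot Nat.prime_two] at hmap
    intro u hu
    exact (QuotientGroup.eq_one_iff u).1 (mem_bot.1 (hmap ⟨u, hu, rfl⟩))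
  by_cases hc1 : S₁ ⊓ Cfsg.pCore 2 G = ⊥
  swap
  · rw [hR, eq_bot_of_core ih hO P sc1 sc2 comm disj hc1]; exact bot_le
  by_cases hc2 : S₂ ⊓ Cfsg.pCore 2 G = ⊥
  swap
  · rw [hR, commutator_comm,
      eq_bot_of_core ih hO P sc2 sc1 (fun a ha b hb => (comm b hb a ha).symm)
        (inf_comm S₁ S₂ ▸ disj) hc2]
    exact bot_le
  have hset : Setup P S₁ S₂ := ⟨sc1, sc2, comm, disj, hO, hc1, hc2, setup_ind ih P sc1 sc2 comm disj⟩
  rw [hR, hset.commutator_eq_bot]
  exact bot_le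

/-- **Product fusion theorem**: strongly closed subgroups of a Sylow `2`-subgroup which commute
elementwise and meet trivially have normal closures commuting modulo the odd core. -/
theorem commutator_normalClosure_le (P : Sylow 2 G) {S₁ S₂ : Subgroup G}
    (sc1 : Cfsg.IsStronglyClosed S₁ (P : Subgroup G))
    (sc2 : Cfsg.IsStronglyClosed S₂ (P : Subgroup G))
    (comm : ∀ a ∈ S₁, ∀ b ∈ S₂, a * b = b * a) (disj : S₁ ⊓ S₂ = ⊥) :
    ⁅normalClosure (S₁ : Set G), normalClosure (S₂ : Set G)⁆ ≤ Cfsg.pPrimeCore 2 G :=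
  prod_fusion_aux (Nat.card G + 1) G P S₁ S₂ (Nat.lt_succ_self _) sc1 sc2 comm disj

end CfsgLib.ProdFusion
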