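import Cfsg.Agent.Lib.ProdFusion.Basic
import Cfsg.Agent.Lib.Invol.Basic

/-!
# Product fusion: involutions modulo a normal subgroup of odd order
-/

set_option autoImplicit false
set_option linter.style.haveILetI false
set_option linter.unusedSectionVars false

namespace CfsgLib.ProdFusion

open Subgroup
open CfsgLib.Invol (invol_iff invol_mul_self invol_inv invol_conj exists_conj_eq_of_odd)

universe u

variable {K : Type u} [Group K] [Finite K] {N : Subgroup K} [N.Normal]

theorem mk'_ne_one_of_invol (hN : Odd (Nat.card N)) {u : K} (hu : orderOf u = 2) :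
    QuotientGroup.mk' N u ≠ 1 := fun e =>
  CfsgLib.Invol.invol_ne_one hu
    (eq_one_of_sq hN ((QuotientGroup.eq_one_iff u).1 e) (invol_mul_self hu))

/-- Congruent involutions are conjugate under the odd kernel. -/
theorem exists_conj_of_congr (hN : Odd (Nat.card N)) {u v : K} (hu : orderOf u = 2)
    (hv : orderOf v = 2) (e : QuotientGroup.mk' N u = QuotientGroup.mk' N v) :
    ∃ o ∈ N, o * u * o⁻¹ = v := by
  have huv : u * v ∈ N := by
    refine (QuotientGroup.eq_one_iff (N := N) _).1 ?_
    show QuotientGroup.mk' N (u * v) = 1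
    rw [map_mul, e, ← map_mul, invol_mul_self hv, map_one]
  obtain ⟨d, hd, h⟩ := exists_conj_eq_of_odd hu hv (odd_orderOf_of_mem hN huv)
  exact ⟨d, (zpowers_le.2 huv) hd, h⟩

/-- An element commuting modulo the odd kernel with an involution is a kernel element times an
element commuting with it. -/
theorem exists_commute_of_commute_mk (hN : Odd (Nat.card N)) {k s : K} (hs : orderOf s = 2)
    (e : Commute (QuotientGroup.mk' N k) (QuotientGroup.mk' N s)) :
    ∃ o ∈ N, Commute (o * k) s := by
  obtain ⟨o, ho, h⟩ := exists_conj_of_congr hN (u := k * s * k⁻¹) (invol_conj hs k) hs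
    (by rw [map_mul, map_mul, map_inv, e.eq, mul_inv_cancel_right])
  refine ⟨o, ho, mul_inv_eq_iff_eq_mul.1 ?_⟩
  rw [show o * k * s * (o * k)⁻¹ = o * (k * s * k⁻¹) * o⁻¹ by group]
  exact h

/-- An involution commuting with `v` modulo the odd kernel has a kernel conjugate commuting
with `v`. -/
theorem exists_conj_commute (hN : Odd (Nat.card N)) {u v : K} (hu : orderOf u = 2)
    (hv : orderOf v = 2) (e : Commute (QuotientGroup.mk' N u) (QuotientGroup.mk' N v)) :
    ∃ o ∈ N, Commute (o * u * o⁻¹) v := by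
  obtain ⟨o, ho, hc⟩ := exists_commute_of_commute_mk hN hu e.symm
  set w := o * v with hw
  have hπw : QuotientGroup.mk' N w = QuotientGroup.mk' N v := by
    rw [hw, map_mul, (QuotientGroup.eq_one_iff (N := N) o).2 ho |> fun h =>
      (show QuotientGroup.mk' N o = 1 from h), one_mul]
  have hww : w * w ∈ N := by
    refine (QuotientGroup.eq_one_iff (N := N) _).1 ?_
    show QuotientGroup.mk' N (w * w) = 1
    rw [map_mul, hπw, ← map_mul, invol_mul_self hv, map_one]
  obtain ⟨r, hr⟩ := odd_orderOf_of_mem hN hww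
  set v' := w ^ (2 * r + 1) with hv'
  have hπv' : QuotientGroup.mk' N v' = QuotientGroup.mk' N v := by
    rw [hv', map_pow, hπw, pow_succ, pow_mul, pow_two, ← map_mul, invol_mul_self hv, map_one,
      one_pow, one_mul]
  have hv'o : orderOf v' = 2 := invol_iff.2 ⟨by
    rw [hv', ← hr, ← (Commute.refl w).mul_pow, pow_orderOf_eq_one], fun e' =>
      mk'_ne_one_of_invol hN hv (by rw [← hπv', e', map_one])⟩
  obtain ⟨o₂, ho₂, h₂⟩ := exists_conj_of_congr hN hv'o hv hπv'
  refine ⟨o₂, ho₂, ?_⟩
  have hcu : Commute u v' := hc.symm.pow_right _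
  rw [← h₂]
  show o₂ * u * o₂⁻¹ * (o₂ * v' * o₂⁻¹) = o₂ * v' * o₂⁻¹ * (o₂ * u * o₂⁻¹)
  calc o₂ * u * o₂⁻¹ * (o₂ * v' * o₂⁻¹) = o₂ * (u * v') * o₂⁻¹ := by group
    _ = _ := by rw [hcu.eq]; group

end CfsgLib.ProdFusion
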