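import Cfsg.Agent.Lib.ProdFusion.Basic
import Cfsg.Agent.Lib.Invol.ZStar
import Cfsg.Agent.Lib.Coprime.Solvable
import Cfsg.Prelude.Def_TwoFusion

/-!
# Product fusion: the minimal situation and its involutions
-/

set_option autoImplicit false
set_option linter.style.haveILetI false
set_option linter.unusedSectionVars false

namespace CfsgLib.ProdFusion

open Subgroup
open scoped commutatorElement

universe u

/-- Involutions conjugate into `S`. -/
def IsX {G : Type u} [Group G] (S : Subgroup G) (x : G) : Prop :=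
  orderOf x = 2 ∧ ∃ g : G, g * x * g⁻¹ ∈ S

/-- The situation of a minimal counterexample to the product fusion theorem. -/
structure Setup {G : Type u} [Group G] (P : Sylow 2 G) (S₁ S₂ : Subgroup G) : Prop where
  sc1 : Cfsg.IsStronglyClosed S₁ (P : Subgroup G)
  sc2 : Cfsg.IsStronglyClosed S₂ (P : Subgroup G)
  comm : ∀ a ∈ S₁, ∀ b ∈ S₂, a * b = b * a
  disj : S₁ ⊓ S₂ = ⊥
  odd_bot : Cfsg.pPrimeCore 2 G = ⊥
  core1 : S₁ ⊓ Cfsg.pCore 2 G = ⊥
  core2 : S₂ ⊓ Cfsg.pCore 2 G = ⊥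
  ind : ∀ H : Subgroup G, H ≠ ⊤ → ∀ x ∈ H, ∀ y ∈ H, IsX S₁ x → IsX S₂ y → ⁅x, y⁆ ∈ OC H

variable {G : Type u} [Group G]

theorem IsX.conj {S : Subgroup G} {x : G} (h : IsX S x) (g : G) : IsX S (g * x * g⁻¹) := by
  obtain ⟨k, hk⟩ := h.2
  exact ⟨CfsgLib.Invol.invol_conj h.1 g, k * g⁻¹, by simpa [mul_assoc] using hk⟩

theorem IsX.inv_eq {S : Subgroup G} {x : G} (h : IsX S x) : x⁻¹ = x := CfsgLib.Invol.invol_inv h.1

theorem IsX.mul_self {S : Subgroup G} {x : G} (h : IsX S x) : x * x = 1 :=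
  CfsgLib.Invol.invol_mul_self h.1

theorem IsX.ne_one {S : Subgroup G} {x : G} (h : IsX S x) : x ≠ 1 := CfsgLib.Invol.invol_ne_one h.1

theorem commute_mul_self_eq_one {x y : G} (hx : x * x = 1) (hy : y * y = 1) (h : Commute x y) :
    (x * y) * (x * y) = 1 := by
  rw [mul_assoc, ← mul_assoc y, ← h.eq, mul_assoc x y y, hy, mul_one, hx]

/-- A set of pairwise commuting elements of square one generates a `2`-group. -/
theorem isPGroup_closure_of_commute {s : Set G} (h1 : ∀ x ∈ s, x * x = 1)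
    (h2 : ∀ x ∈ s, ∀ y ∈ s, Commute x y) : IsPGroup 2 (Subgroup.closure s) := by
  haveI := Subgroup.isMulCommutative_closure (k := s) fun x hx y hy => (h2 x hx y hy).eq
  have hsq : ∀ u ∈ Subgroup.closure s, u * u = 1 := by
    intro u hu
    induction hu using Subgroup.closure_induction with
    | mem v hv => exact h1 v hv
    | one => exact one_mul 1
    | mul a b ha hb iha ihb =>
      exact commute_mul_self_eq_one iha ihb
        (congrArg Subtype.val (mul_comm' (⟨a, ha⟩ : Subgroup.closure s) ⟨b, hb⟩))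
    | inv a ha iha => rw [← mul_inv_rev, iha, inv_one]
  exact fun u => ⟨1, Subtype.ext (by simpa [pow_two] using hsq u u.2)⟩

variable [Finite G] {P : Sylow 2 G} {S₁ S₂ : Subgroup G}

theorem Setup.symm (h : Setup P S₁ S₂) : Setup P S₂ S₁ :=
  ⟨h.sc2, h.sc1, fun a ha b hb => (h.comm b hb a ha).symm, inf_comm S₂ S₁ ▸ h.disj, h.odd_bot,
    h.core2, h.core1, fun H hH x hx y hy hx' hy' => by
      rw [← commutatorElement_inv]
      exact Subgroup.inv_mem _ (h.ind H hH y hy x hx hy' hx')⟩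

variable (h : Setup P S₁ S₂)
include h

theorem Setup.mem_left {x g : G} (hx : IsX S₁ x) (hg : g * x * g⁻¹ ∈ P) :
    g * x * g⁻¹ ∈ S₁ := by
  obtain ⟨k, hk⟩ := hx.2
  have e : g * x * g⁻¹ = (g * k⁻¹) * (k * x * k⁻¹) * (g * k⁻¹)⁻¹ := by group
  rw [e] at hg ⊢
  exact h.sc1.2 _ hk _ hg

theorem Setup.mem_left' {x : G} (hx : IsX S₁ x) (hP : x ∈ P) : x ∈ S₁ := by
  simpa using h.mem_left (g := 1) hx (by simpa using hP)

theorem Setup.isX_of_mem {x : G} (hx : x ∈ S₁) (ho : orderOf x = 2) : IsX S₁ x :=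
  ⟨ho, 1, by simpa using hx⟩

theorem Setup.not_both {x : G} (hx : IsX S₁ x) : ¬ IsX S₂ x := by
  intro hy
  obtain ⟨g, hg⟩ := hx.2
  have := h.symm.mem_left hy (h.sc1.1 hg)
  exact CfsgLib.Invol.invol_ne_one (CfsgLib.Invol.invol_conj hx.1 g)
    (mem_bot.1 (h.disj ▸ ⟨hg, this⟩))

theorem Setup.ne {x y : G} (hx : IsX S₁ x) (hy : IsX S₂ y) : x ≠ y := fun e =>
  h.not_both hx (e ▸ hy)

/-- Members of the two classes in a common `2`-group commute. -/
theorem Setup.commute_of_isPGroup {R : Subgroup G} (hR : IsPGroup 2 R) {x y : G} (hxR : x ∈ R)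
    (hyR : y ∈ R) (hx : IsX S₁ x) (hy : IsX S₂ y) : Commute x y := by
  obtain ⟨g, hg⟩ := CfsgLib.Invol.exists_conj_le_sylow hR P
  have h1 := h.comm _ (h.mem_left hx (hg x hxR)) _ (h.symm.mem_left hy (hg y hyR))
  show x * y = y * x
  simpa [mul_assoc] using congrArg (fun t => g⁻¹ * t * g) h1

theorem Setup.mul_mem_left {x x' : G} (hx : IsX S₁ x) (hx' : IsX S₁ x') (hc : Commute x x')
    (hne : x ≠ x') : IsX S₁ (x * x') := by
  obtain ⟨g, hg⟩ := CfsgLib.Invol.exists_conj_le_sylow (p := 2)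
    (isPGroup_closure_of_commute (s := ({x, x'} : Set G))
      (by rintro t (rfl | rfl); exacts [hx.mul_self, hx'.mul_self])
      (by rintro t (rfl | rfl) u (rfl | rfl); exacts [.refl _, hc, hc.symm, .refl _])) P
  have h1 := h.mem_left hx (hg x (subset_closure (by simp)))
  have h2 := h.mem_left hx' (hg x' (subset_closure (by simp)))
  refine ⟨CfsgLib.Invol.invol_iff.2 ⟨commute_mul_self_eq_one hx.mul_self hx'.mul_self hc,
    fun e => hne ((mul_eq_one_iff_eq_inv.1 e).trans hx'.inv_eq)⟩, g, ?_⟩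
  rw [show g * (x * x') * g⁻¹ = (g * x * g⁻¹) * (g * x' * g⁻¹) by group]
  exact mul_mem h1 h2

theorem Setup.orderOf_mul {x y : G} (hx : IsX S₁ x) (hy : IsX S₂ y) (hc : Commute x y) :
    orderOf (x * y) = 2 :=
  CfsgLib.Invol.invol_iff.2 ⟨commute_mul_self_eq_one hx.mul_self hy.mul_self hc,
    fun e => h.ne hx hy ((mul_eq_one_iff_eq_inv.1 e).trans hy.inv_eq)⟩

theorem Setup.mul_not_left {x y : G} (hx : IsX S₁ x) (hy : IsX S₂ y) (hc : Commute x y) :
    ¬ IsX S₁ (x * y) := by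
  intro hz
  have hne : x ≠ x * y := fun e => hy.ne_one (left_eq_mul.1 e)
  have := h.mul_mem_left hx hz ((Commute.refl x).mul_right hc) hne
  rw [← mul_assoc, hx.mul_self, one_mul] at this
  exact h.not_both this hy

theorem Setup.eq_of_center {z : G} (hz : z ∈ center G) (hzS : z ∈ S₁) (ho : orderOf z = 2) :
    False := by
  have h1 : zpowers z ≤ Cfsg.pCore 2 G := by
    haveI : (zpowers z).Normal := ⟨fun u hu g => by
      have hu' : u ∈ center G := (zpowers_le.2 hz) hu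
      rwa [mem_center_iff.1 hu' g, mul_inv_cancel_right]⟩
    exact CfsgLib.Coprime.le_pCore
      (IsPGroup.of_card (n := 1) (by rw [Nat.card_zpowers, ho, pow_one]))
  exact CfsgLib.Invol.invol_ne_one ho (mem_bot.1 (h.core1 ▸ ⟨hzS, h1 (mem_zpowers z)⟩))

theorem Setup.not_center {x : G} (hx : IsX S₁ x) : x ∉ center G := by
  intro hc
  obtain ⟨g, hg⟩ := hx.2
  rw [mem_center_iff.1 hc g, mul_inv_cancel_right] at hg
  exact h.eq_of_center hc hg hx.1

theorem Setup.centralizer_ne_top {x : G} (hx : IsX S₁ x) : centralizer ({x} : Set G) ≠ ⊤ := by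
  intro e
  refine h.not_center hx (mem_center_iff.2 fun g => ?_)
  exact mem_centralizer_singleton_iff.1 (e ▸ mem_top g)

theorem Setup.exists_central {x : G} (hx : IsX S₁ x) :
    ∃ z ∈ S₁, IsX S₁ z ∧ ∀ p ∈ P, Commute z p := by
  obtain ⟨g, hg⟩ := hx.2
  haveI : (S₁.subgroupOf (P : Subgroup G)).Normal := normal_subgroupOf_of_le_normalizer
    fun p hp => mem_of_forall_conj_mem fun s hs =>
      h.sc1.2 s hs p (mul_mem (mul_mem hp (h.sc1.1 hs)) (Subgroup.inv_mem _ hp))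
  haveI : Group.IsNilpotent P := P.2.isNilpotent
  have hne : S₁.subgroupOf (P : Subgroup G) ⊓ center P ≠ ⊥ :=
    CfsgLib.Coprime.nilpotent_inf_center_ne_bot _ fun e => by
      rw [subgroupOf_eq_bot, disjoint_iff, inf_of_le_left h.sc1.1] at e
      exact CfsgLib.Invol.invol_ne_one (CfsgLib.Invol.invol_conj hx.1 g) (mem_bot.1 (e ▸ hg))
  obtain ⟨⟨w, hw⟩, hw1⟩ := (Subgroup.ne_bot_iff_exists_ne_one).1 hne
  have hw1' : orderOf w ≠ 1 := fun e => hw1 (Subtype.ext (orderOf_eq_one_iff.1 e))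
  obtain ⟨k, hk⟩ := P.2 w
  obtain ⟨s, -, hs⟩ := (Nat.dvd_prime_pow Nat.prime_two).1 (orderOf_dvd_of_pow_eq_one hk)
  obtain ⟨s, rfl⟩ : ∃ s', s = s' + 1 := ⟨s - 1, by
    rcases s with _ | s
    · exact absurd (by rw [hs, pow_zero]) hw1'
    · rfl⟩
  have hz2 : orderOf (w ^ 2 ^ s) = 2 := by
    rw [orderOf_pow, hs, Nat.gcd_eq_right (pow_dvd_pow 2 (Nat.le_succ s)), pow_succ]
    exact Nat.mul_div_cancel_left 2 (pow_pos two_pos s)
  have hz : (w ^ 2 ^ s : P) ∈ S₁.subgroupOf (P : Subgroup G) ⊓ center P := pow_mem hw _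
  have ho : orderOf ((w ^ 2 ^ s : P) : G) = 2 := by rw [orderOf_coe]; exact hz2
  exact ⟨_, hz.1, h.isX_of_mem hz.1 ho, fun p hp =>
    (congrArg Subtype.val (mem_center_iff.1 hz.2 ⟨p, hp⟩)).symm⟩

theorem Setup.exists_ne {z : G} (hz : IsX S₁ z) (hzS : z ∈ S₁) :
    ∃ t ∈ S₁, IsX S₁ t ∧ t ≠ z := by
  by_contra hno
  push Not at hno
  have hw : ∀ g : G, g * z * g⁻¹ ∈ P → g * z * g⁻¹ = z := fun g hg =>
    hno _ (h.mem_left hz hg) (hz.conj g)
  exact h.not_center hz (CfsgLib.Invol.eq_of_zcentral_bot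
    (CfsgLib.Invol.zstar_of_weakly_closed P hz.1 hw) h.odd_bot)

theorem Setup.exists_partner_P {x : G} (hx : IsX S₁ x) (hxP : x ∈ P) :
    ∃ x' ∈ S₁, IsX S₁ x' ∧ x' ≠ x ∧ Commute x x' := by
  obtain ⟨z, hzS, hz, hzc⟩ := h.exists_central hx
  by_cases e : z = x
  · obtain ⟨t, htS, ht, hne⟩ := h.exists_ne hz hzS
    exact ⟨t, htS, ht, e ▸ hne, e ▸ hzc t (h.sc1.1 htS)⟩
  · exact ⟨z, hzS, hz, e, (hzc x hxP).symm⟩

theorem Setup.exists_conj_pair {x y : G} (hx : IsX S₁ x) (hy : IsX S₂ y) (hc : Commute x y) :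
    ∃ g : G, g * x * g⁻¹ ∈ S₁ ∧ g * y * g⁻¹ ∈ S₂ := by
  obtain ⟨g, hg⟩ := CfsgLib.Invol.exists_conj_le_sylow (p := 2)
    (isPGroup_closure_of_commute (s := ({x, y} : Set G))
      (by rintro t (rfl | rfl); exacts [hx.mul_self, hy.mul_self])
      (by rintro t (rfl | rfl) u (rfl | rfl); exacts [.refl _, hc, hc.symm, .refl _])) P
  exact ⟨g, h.mem_left hx (hg x (subset_closure (by simp))),
    h.symm.mem_left hy (hg y (subset_closure (by simp)))⟩

/-- A commuting pair extends: some further member of the first class commutes with both. -/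
theorem Setup.exists_partner {x y : G} (hx : IsX S₁ x) (hy : IsX S₂ y) (hc : Commute x y) :
    ∃ x', IsX S₁ x' ∧ x' ≠ x ∧ Commute x x' ∧ Commute x' y := by
  obtain ⟨g, hgx, hgy⟩ := h.exists_conj_pair hx hy hc
  obtain ⟨t, htS, ht, hne, htc⟩ := h.exists_partner_P (hx.conj g) (h.sc1.1 hgx)
  have hty : Commute t (g * y * g⁻¹) := h.comm t htS _ hgy
  refine ⟨g⁻¹ * t * g, by simpa using ht.conj g⁻¹, fun e => hne ?_, ?_, ?_⟩
  · rw [← e]; group
  · show x * (g⁻¹ * t * g) = g⁻¹ * t * g * x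
    simpa [mul_assoc] using congrArg (fun u => g⁻¹ * u * g) htc.eq
  · show g⁻¹ * t * g * y = y * (g⁻¹ * t * g)
    simpa [mul_assoc] using congrArg (fun u => g⁻¹ * u * g) hty.eq

theorem Setup.mul_not_center {x y : G} (hx : IsX S₁ x) (hy : IsX S₂ y) (hc : Commute x y) :
    x * y ∉ center G := by
  intro hz
  obtain ⟨g, hgx, hgy⟩ := h.exists_conj_pair hx hy hc
  set a := g * x * g⁻¹ with ha
  set b := g * y * g⁻¹ with hb
  have hab : a * b = x * y := by
    calc a * b = g * (x * y) * g⁻¹ := by rw [ha, hb]; group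
      _ = x * y := by rw [mem_center_iff.1 hz g, mul_inv_cancel_right]
  have hcP : x * y ∈ P := hab ▸ mul_mem (h.sc1.1 hgx) (h.sc2.1 hgy)
  have hw : ∀ k : G, k * a * k⁻¹ ∈ P → k * a * k⁻¹ = a := by
    intro k hk
    have e : (k * a * k⁻¹) * (k * b * k⁻¹) = a * b := by
      rw [show (k * a * k⁻¹) * (k * b * k⁻¹) = k * (a * b) * k⁻¹ by group, hab,
        mem_center_iff.1 hz k, mul_inv_cancel_right]
    have hkb : k * b * k⁻¹ ∈ P := by
      rw [eq_inv_mul_of_mul_eq e, hab]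
      exact mul_mem (Subgroup.inv_mem _ hk) hcP
    have h2 : a⁻¹ * (k * a * k⁻¹) = b * (k * b * k⁻¹)⁻¹ := by
      rw [eq_mul_inv_iff_mul_eq, mul_assoc, e, inv_mul_cancel_left]
    have h3 : a⁻¹ * (k * a * k⁻¹) ∈ S₁ ⊓ S₂ :=
      ⟨mul_mem (Subgroup.inv_mem _ hgx) (h.sc1.2 a hgx k hk),
        h2 ▸ mul_mem hgy (Subgroup.inv_mem _ (h.sc2.2 b hgy k hkb))⟩
    rw [h.disj, mem_bot, inv_mul_eq_one] at h3
    exact h3.symm
  exact h.not_center (hx.conj g) (CfsgLib.Invol.eq_of_zcentral_bot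
    (CfsgLib.Invol.zstar_of_weakly_closed P (hx.conj g).1 hw) h.odd_bot)

theorem Setup.centralizer_mul_ne_top {x y : G} (hx : IsX S₁ x) (hy : IsX S₂ y) (hc : Commute x y) :
    centralizer ({x * y} : Set G) ≠ ⊤ := fun e => h.mul_not_center hx hy hc
  (mem_center_iff.2 fun g => mem_centralizer_singleton_iff.1 (e ▸ mem_top g))

end CfsgLib.ProdFusion
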