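import Cfsg.Agent.Lib.ProdFusion.Basic

/-!
# Product fusion: four groups acting on groups of odd order
-/

set_option autoImplicit false
set_option linter.style.haveILetI false
set_option linter.unusedSectionVars false

namespace CfsgLib.ProdFusion

open Subgroup
open scoped commutatorElement
open CfsgLib.Coprime (conjBy mem_conjBy conjBy_eq_self_iff card_conjBy)

universe u

variable {G : Type u} [Group G]

/-- Commuting distinct involutions `a`, `b`. -/
structure FourPair (a b : G) : Prop where
  ha : orderOf a = 2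
  hb : orderOf b = 2
  ne : a ≠ b
  comm : Commute a b

/-- The subgroup generated by two elements. -/
def four (a b : G) : Subgroup G := Subgroup.closure ({a, b} : Set G)

theorem left_mem_four (a b : G) : a ∈ four a b := subset_closure (Set.mem_insert _ _)

theorem right_mem_four (a b : G) : b ∈ four a b :=
  subset_closure (Set.mem_insert_of_mem _ rfl)

theorem four_le {a b : G} {H : Subgroup G} (ha : a ∈ H) (hb : b ∈ H) : four a b ≤ H :=
  (closure_le _).2 (by simp [Set.insert_subset_iff, ha, hb])

theorem mem_centralizer_four {a b x : G} (ha : Commute a x) (hb : Commute b x) :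
    x ∈ centralizer (four a b : Set G) := by
  refine (le_centralizer_iff.1 (four_le (H := centralizer (zpowers x : Set G)) ?_ ?_))
    (mem_zpowers x) <;>
  · refine mem_centralizer_iff.2 fun y hy => ?_
    obtain ⟨k, rfl⟩ := mem_zpowers_iff.1 hy
    first
      | exact (ha.zpow_right k).symm.eq
      | exact (hb.zpow_right k).symm.eq

theorem commute_of_mem_centralizer_four {a b x v : G}
    (hx : x ∈ centralizer (four a b : Set G)) (hv : v ∈ four a b) : Commute v x :=
  mem_centralizer_iff.1 hx v hv

variable [Finite G] {a b : G} (hp : FourPair a b)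
include hp

theorem FourPair.kleinFour : IsKleinFour (four a b) :=
  CfsgLib.Invol.isKleinFour_closure_pair hp.ha hp.hb hp.ne hp.comm

theorem FourPair.card_four : Nat.card (four a b) = 4 :=
  hp.kleinFour.card_four

theorem FourPair.not_isCyclic : ¬ IsCyclic (four a b) := by
  haveI := hp.kleinFour
  exact IsKleinFour.not_isCyclic

theorem FourPair.comm_four {u v : G} (hu : u ∈ four a b) (hv : v ∈ four a b) : Commute u v := by
  haveI := hp.kleinFour
  exact congrArg Subtype.val (mul_comm_of_exponent_two IsKleinFour.exponent_two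
    (⟨u, hu⟩ : four a b) ⟨v, hv⟩)

theorem FourPair.isMulCommutative : IsMulCommutative (four a b) :=
  ⟨⟨fun u v => Subtype.ext (hp.comm_four u.2 v.2).eq⟩⟩

theorem FourPair.isSolvable : Group.IsSolvable (four a b) :=
  CfsgLib.Coprime.isSolvable_of_isMulCommutative hp.isMulCommutative

theorem FourPair.mul_self {u : G} (hu : u ∈ four a b) : u * u = 1 := by
  haveI := hp.kleinFour
  exact congrArg Subtype.val (IsKleinFour.mul_self (⟨u, hu⟩ : four a b))

theorem FourPair.coprime {X : Subgroup G} (hX : Odd (Nat.card X)) :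
    (Nat.card (four a b)).Coprime (Nat.card X) := by
  rw [hp.card_four, show 4 = 2 ^ 2 by norm_num]
  exact (Nat.coprime_two_left.2 hX).pow_left 2

theorem FourPair.mem_four {v : G} (hv : v ∈ four a b) : v = 1 ∨ v = a ∨ v = b ∨ v = a * b := by
  have ha := CfsgLib.Invol.invol_mul_self hp.ha
  have hb := CfsgLib.Invol.invol_mul_self hp.hb
  induction hv using Subgroup.closure_induction with
  | mem x hx =>
    simp only [Set.mem_insert_iff, Set.mem_singleton_iff] at hx
    tauto
  | one => exact Or.inl rfl
  | mul x y _ _ hx hy =>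
    have e1 : b * a = a * b := hp.comm.symm.eq
    have e2 : a * (a * b) = b := by rw [← mul_assoc, ha, one_mul]
    have e3 : (a * b) * b = a := by rw [mul_assoc, hb, mul_one]
    have e4 : b * (a * b) = a := by rw [← mul_assoc, e1, e3]
    have e5 : (a * b) * a = b := by rw [mul_assoc, e1, e2]
    have e6 : (a * b) * (a * b) = 1 := by rw [mul_assoc, e4, ha]
    rcases hx with rfl | rfl | rfl | rfl <;> rcases hy with rfl | rfl | rfl | rfl <;>
      simp only [one_mul, mul_one, ha, hb, e1, e2, e3, e4, e5, e6, or_true, true_or]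
  | inv x _ hx =>
    have e6 : (a * b)⁻¹ = a * b := by
      rw [mul_inv_rev, CfsgLib.Invol.invol_inv hp.ha, CfsgLib.Invol.invol_inv hp.hb]
      exact hp.comm.symm.eq
    rcases hx with rfl | rfl | rfl | rfl <;>
      simp only [inv_one, CfsgLib.Invol.invol_inv hp.ha, CfsgLib.Invol.invol_inv hp.hb, e6,
        or_true, true_or]

/-- For a nontrivial `k` in the four group there is a second generator. -/
theorem FourPair.exists_other {k : G} (hk : k ∈ four a b) (hk1 : k ≠ 1) :
    ∃ v ∈ four a b, v ≠ 1 ∧ v ≠ k ∧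
      ∀ w ∈ four a b, w = 1 ∨ w = k ∨ w = v ∨ w = k * v := by
  have ha := CfsgLib.Invol.invol_mul_self hp.ha
  have hb := CfsgLib.Invol.invol_mul_self hp.hb
  rcases hp.mem_four hk with rfl | rfl | rfl | rfl
  · exact absurd rfl hk1
  · exact ⟨b, right_mem_four _ _, CfsgLib.Invol.invol_ne_one hp.hb, hp.ne.symm,
      fun w hw => hp.mem_four hw⟩
  · refine ⟨a, left_mem_four _ _, CfsgLib.Invol.invol_ne_one hp.ha, hp.ne, fun w hw => ?_⟩
    rw [hp.comm.symm.eq]
    rcases hp.mem_four hw with h | h | h | h <;> simp [h]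
  · refine ⟨a, left_mem_four _ _, CfsgLib.Invol.invol_ne_one hp.ha, fun e => ?_, fun w hw => ?_⟩
    · exact CfsgLib.Invol.invol_ne_one hp.hb (mul_eq_left.1 e.symm)
    · rw [show a * b * a = b by rw [mul_assoc, hp.comm.symm.eq, ← mul_assoc, ha, one_mul]]
      rcases hp.mem_four hw with h | h | h | h <;> simp [h]

omit hp in
/-- `n` is fixed by `k` and inverted by the other nontrivial elements of `V`. -/
def IsEig (V : Subgroup G) (k n : G) : Prop :=
  Commute k n ∧ ∀ v ∈ V, v ≠ 1 → v ≠ k → v * n * v⁻¹ = n⁻¹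

theorem FourPair.isEig_of {k v n : G} (hk : k ∈ four a b) (hk1 : k ≠ 1) (hv : v ∈ four a b)
    (hv1 : v ≠ 1) (hvk : v ≠ k) (hc : Commute k n) (hinv : v * n * v⁻¹ = n⁻¹) :
    IsEig (four a b) k n := by
  refine ⟨hc, fun w hw hw1 hwk => ?_⟩
  obtain ⟨v₀, -, -, -, h⟩ := hp.exists_other hk hk1
  have hprod : w = v ∨ w = k * v := by
    rcases h w hw with e | e | e | e
    · exact absurd e hw1
    · exact absurd e hwk
    · rcases h v hv with e' | e' | e' | e'
      · exact absurd e' hv1
      · exact absurd e' hvk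
      · exact Or.inl (e.trans e'.symm)
      · exact Or.inr (by rw [e, e', ← mul_assoc, hp.mul_self hk, one_mul])
    · rcases h v hv with e' | e' | e' | e'
      · exact absurd e' hv1
      · exact absurd e' hvk
      · exact Or.inr (by rw [e, e'])
      · exact Or.inl (e.trans e'.symm)
  rcases hprod with rfl | rfl
  · exact hinv
  · rw [show k * v * n * (k * v)⁻¹ = k * (v * n * v⁻¹) * k⁻¹ by group, hinv, hc.inv_right.eq,
      mul_inv_cancel_right]

theorem FourPair.isEig_conj {k n v : G} (hn : IsEig (four a b) k n) (hv : v ∈ four a b) :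
    v * n * v⁻¹ = n ∨ v * n * v⁻¹ = n⁻¹ := by
  by_cases hv1 : v = 1
  · left; simp [hv1]
  by_cases hvk : v = k
  · left; rw [hvk, hn.1.eq, mul_inv_cancel_right]
  exact Or.inr (hn.2 v hv hv1 hvk)

theorem FourPair.conj_eig {k n g : G} (hn : IsEig (four a b) k n) (hk : k ∈ four a b)
    (hg : g ∈ centralizer (four a b : Set G)) : IsEig (four a b) k (g * n * g⁻¹) := by
  have hc : ∀ v ∈ four a b, v * (g * n * g⁻¹) * v⁻¹ = g * (v * n * v⁻¹) * g⁻¹ := by
    intro v hv
    have e : Commute v g := commute_of_mem_centralizer_four hg hv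
    calc v * (g * n * g⁻¹) * v⁻¹ = (v * g) * n * (v * g)⁻¹ := by group
      _ = g * (v * n * v⁻¹) * g⁻¹ := by rw [e.eq]; group
  refine ⟨?_, fun v hv h1 h2 => ?_⟩
  · have := hc k hk
    rw [hn.1.eq, mul_inv_cancel_right] at this
    exact mul_inv_eq_iff_eq_mul.1 this
  · rw [hc v hv, hn.2 v hv h1 h2]; group

/-! ### The subgroup generated by the local fixed points -/

omit hp in
/-- `[C_X(k), V]`. -/
def locD (V X : Subgroup G) (k : G) : Subgroup G := ⁅X ⊓ centralizer {k}, V⁆

omit hp in
/-- The subgroup generated by the `C_{[C_X(k), V]}(V)`. -/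
def locY (V X : Subgroup G) : Subgroup G :=
  ⨆ k : {k : G // k ∈ V ∧ k ≠ 1}, locD V X k ⊓ centralizer (V : Set G)

omit hp in
theorem le_locY {V X : Subgroup G} {k : G} (hk : k ∈ V) (hk1 : k ≠ 1) :
    locD V X k ⊓ centralizer (V : Set G) ≤ locY V X :=
  le_iSup (fun k : {k : G // k ∈ V ∧ k ≠ 1} => locD V X k ⊓ centralizer (V : Set G)) ⟨k, hk, hk1⟩

omit hp in
theorem locD_mono {V X X' : Subgroup G} (h : X ≤ X') (k : G) : locD V X k ≤ locD V X' k :=
  commutator_mono (inf_le_inf_right _ h) le_rfl

omit hp in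
theorem locY_mono {V X X' : Subgroup G} (h : X ≤ X') : locY V X ≤ locY V X' :=
  iSup_mono fun _ => inf_le_inf_right _ (locD_mono h _)

omit hp in
theorem locY_le_centralizer (V X : Subgroup G) : locY V X ≤ centralizer (V : Set G) :=
  iSup_le fun _ => inf_le_right

variable {X : Subgroup G}

theorem FourPair.four_le_normalizer_centralizer {k : G} (hk : k ∈ four a b)
    (hVX : four a b ≤ normalizer (X : Set G)) :
    four a b ≤ normalizer ((X ⊓ centralizer {k} : Subgroup G) : Set G) := by
  refine CfsgLib.Coprime.inf_le_normalizer hVX fun v hv => ?_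
  exact le_normalizer (mem_centralizer_singleton_iff.2 (hp.comm_four hv hk).eq)

theorem FourPair.locD_le {k : G} (hk : k ∈ four a b) (hVX : four a b ≤ normalizer (X : Set G)) :
    locD (four a b) X k ≤ X ⊓ centralizer {k} := by
  rw [locD, commutator_le]
  exact fun n hn v hv => commutatorElement_mem (hp.four_le_normalizer_centralizer hk hVX hv) hn

theorem FourPair.four_le_normalizer_locD {k : G} :
    four a b ≤ normalizer (locD (four a b) X k : Set G) := normalizer_commutator_ge_right _ _

theorem FourPair.locY_le (hVX : four a b ≤ normalizer (X : Set G)) : locY (four a b) X ≤ X :=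
  iSup_le fun k => inf_le_left.trans ((hp.locD_le k.2.1 hVX).trans inf_le_left)

variable (hX : Odd (Nat.card X)) (hVX : four a b ≤ normalizer (X : Set G))
include hX hVX

/-- Every subgroup containing the eigen elements and the fixed points contains `X`. -/
theorem FourPair.le_of_eig {W : Subgroup G}
    (h : ∀ k ∈ four a b, k ≠ 1 → ∀ w ∈ X, IsEig (four a b) k w → w ∈ W)
    (hC : X ⊓ centralizer (four a b : Set G) ≤ W) : X ≤ W := by
  haveI := hp.isMulCommutative
  refine CfsgLib.Coprime.le_of_centralizers_le hp.not_isCyclic hVX (hp.coprime hX) ?_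
  intro k hk hk1 n hn
  obtain ⟨v, hv, hv1, hvk, hall⟩ := hp.exists_other hk hk1
  have hodd : Odd (Nat.card (X ⊓ centralizer {k} : Subgroup G)) := odd_of_le inf_le_left hX
  obtain ⟨w, hw, f, hf, rfl, hinv, hvf, -, -⟩ := exists_decomp hodd (hp.mul_self hv)
    (hp.four_le_normalizer_centralizer hk hVX hv) hn
  have hkw : Commute k w := (mem_centralizer_singleton_iff.1 hw.2).symm
  have hkf : Commute k f := (mem_centralizer_singleton_iff.1 hf.2).symm
  refine mul_mem (h k hk hk1 w hw.1 (hp.isEig_of hk hk1 hv hv1 hvk hkw hinv)) (hC ⟨hf.1, ?_⟩)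
  refine mem_centralizer_iff.2 fun u hu => ?_
  rcases hall u hu with rfl | rfl | rfl | rfl
  exacts [by simp, hkf.eq, hvf.eq, (hkf.mul_left hvf).eq]

theorem FourPair.eig_mem_locD {k w : G} (hk : k ∈ four a b) (hk1 : k ≠ 1) (hw : w ∈ X)
    (he : IsEig (four a b) k w) : w ∈ locD (four a b) X k := by
  obtain ⟨v, hv, hv1, hvk, -⟩ := hp.exists_other hk hk1
  have hw' : w ∈ X ⊓ centralizer {k} := ⟨hw, mem_centralizer_singleton_iff.2 he.1.symm.eq⟩
  exact mem_of_sq_mem' (odd_of_le inf_le_left hX) hw' (he.2 v hv hv1 hvk)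
    (commutator_mem_commutator hw' hv)

theorem FourPair.centralizer_le_normalizer_locY :
    X ⊓ centralizer (four a b : Set G) ≤ normalizer (locY (four a b) X : Set G) := by
  intro g hg
  rw [← conjBy_eq_self_iff, conjBy, locY, Subgroup.map_iSup]
  refine iSup_congr fun k => ?_
  change conjBy g _ = _
  rw [conjBy_eq_self_iff]
  have hgV : g ∈ normalizer (four a b : Set G) := centralizer_le_normalizer _ hg.2
  refine CfsgLib.Coprime.inf_le_normalizer (A := X ⊓ centralizer (four a b : Set G)) ?_ ?_ hg
  · intro h hh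
    refine normalizer_commutator ?_ (centralizer_le_normalizer _ hh.2)
    refine CfsgLib.Coprime.inf_le_normalizer (A := X ⊓ centralizer (four a b : Set G))
      (inf_le_left.trans le_normalizer) (fun y hy => le_normalizer ?_) hh
    exact mem_centralizer_singleton_iff.2 (commute_of_mem_centralizer_four hy.2 k.2.1).symm.eq
  · exact inf_le_right.trans le_normalizer

end CfsgLib.ProdFusion
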