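import Cfsg.Agent.Lib.ProdFusion.FourNorm
import Cfsg.Agent.Lib.FT.NoMinSimple
import Mathlib.GroupTheory.Transfer

/-!
# Product fusion: fixed points of a four group on a commutator with a group of odd order

`C_[X,V](V)` is generated by the `C_[C_X(k),V](V)`, `k ∈ V#`.
-/

set_option autoImplicit false
set_option linter.style.haveILetI false
set_option linter.unusedSectionVars false

namespace CfsgLib.ProdFusion

open Subgroup
open scoped commutatorElement
open CfsgLib.Coprime (conjBy mem_conjBy conjBy_eq_self_iff card_conjBy exists_fixed_in_coset)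

universe u

/-- The four lemma below a given order. -/
def FourBelow (n : ℕ) : Prop :=
  ∀ (H : Type u) [Group H] [Finite H] (X : Subgroup H) (a b : H), Nat.card X < n →
    FourPair a b → Odd (Nat.card X) → four a b ≤ normalizer (X : Set H) →
    ⁅X, four a b⁆ ⊓ centralizer (four a b : Set H) ≤ locY (four a b) X

variable {G : Type u} [Group G] [Finite G] {a b : G} {X : Subgroup G}

theorem FourPair.coprime_zpowers (hp : FourPair a b) {k : G} (hk : k ∈ four a b) {K : Subgroup G}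
    (hK : Odd (Nat.card K)) : (Nat.card (zpowers k)).Coprime (Nat.card K) :=
  (hp.coprime hK).coprime_dvd_left (card_dvd_of_le (zpowers_le.2 hk))

/-- The induction step through an invariant normal subgroup. -/
theorem FourPair.quot_step (hp : FourPair a b) (hX : Odd (Nat.card X))
    (hVX : four a b ≤ normalizer (X : Set G)) {A : Subgroup G} (hAX : A ≤ X) (hA1 : A ≠ ⊥)
    (hXA : X ≤ normalizer (A : Set G)) (hVA : four a b ≤ normalizer (A : Set G))
    (ih : FourBelow.{u} (Nat.card X)) {c : G}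
    (hc : c ∈ ⁅X, four a b⁆ ⊓ centralizer (four a b : Set G)) :
    ∃ y ∈ locY (four a b) X, ∃ z ∈ A, c = y * z := by
  have hA : Odd (Nat.card A) := odd_of_le hAX hX
  set N : Subgroup G := normalizer (A : Set G) with hN
  set A' := A.subgroupOf N with hA'
  haveI : A'.Normal := normal_subgroupOf_of_le_normalizer le_rfl
  set f := QuotientGroup.mk' A' with hf
  have heq : ∀ u w : N, f u = f w ↔ (u : G)⁻¹ * w ∈ A := fun u w => by
    rw [hf, QuotientGroup.mk'_apply, QuotientGroup.mk'_apply, QuotientGroup.eq, mem_subgroupOf]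
    rfl
  set a' : N := ⟨a, hVA (left_mem_four a b)⟩ with ha'
  set b' : N := ⟨b, hVA (right_mem_four a b)⟩ with hb'
  have hne : ∀ v : N, (v : G) ∈ four a b → f v = 1 → (v : G) = 1 := fun v hv h1 => by
    have h2 : (v : G) ∈ A := by
      have := (heq 1 v).1 (by rw [map_one, h1])
      simpa using this
    exact eq_one_of_sq hA h2 (hp.mul_self hv)
  have hinv : ∀ v : N, (v : G) ∈ four a b → (v : G) ≠ 1 → orderOf (f v) = 2 := fun v hv h1 => by
    refine CfsgLib.Invol.invol_iff.2 ⟨?_, fun e => h1 (hne v hv e)⟩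
    rw [← map_mul, show v * v = 1 from Subtype.ext (hp.mul_self hv), map_one]
  have hp' : FourPair (f a') (f b') := by
    refine ⟨hinv a' (left_mem_four a b) (CfsgLib.Invol.invol_ne_one hp.ha),
      hinv b' (right_mem_four a b) (CfsgLib.Invol.invol_ne_one hp.hb), fun e => hp.ne ?_, ?_⟩
    · have h1 := hne (a'⁻¹ * b') (mul_mem (inv_mem (left_mem_four a b)) (right_mem_four a b))
        (by rw [map_mul, map_inv, e, inv_mul_cancel])
      exact inv_mul_eq_one.1 h1
    · exact Commute.map (show Commute a' b' from Subtype.ext hp.comm.eq) f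
  set V' := four (f a') (f b') with hV'
  have hV1 : ∀ v : N, (v : G) ∈ four a b → f v ∈ V' := by
    intro v hv
    obtain ⟨w, hw, e⟩ := (four_le (H := (V'.comap f).map N.subtype)
      ⟨a', left_mem_four (f a') (f b'), rfl⟩ ⟨b', right_mem_four (f a') (f b'), rfl⟩) hv
    rwa [← show w = v from Subtype.ext e]
  have hV2 : ∀ v ∈ V', ∃ w : N, (w : G) ∈ four a b ∧ f w = v := fun v hv =>
    (four_le (H := ((four a b).subgroupOf N).map f)
      ⟨a', left_mem_four a b, rfl⟩ ⟨b', right_mem_four a b, rfl⟩) hv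
  set X' := (X.subgroupOf N).map f with hX'
  have hX'odd : Odd (Nat.card X') := by
    refine Odd.of_dvd_nat ?_ (CfsgLib.Coprime.card_map_dvd_card f _)
    rw [Nat.card_congr (subgroupOfEquivOfLe hXA).toEquiv]; exact hX
  have hX'lt : Nat.card X' < Nat.card X := by
    have h := CfsgLib.Coprime.card_eq_card_mul_card_map_mk' A' (M := X.subgroupOf N)
      (fun x hx => hAX hx)
    rw [Nat.card_congr (subgroupOfEquivOfLe hXA).toEquiv,
      Nat.card_congr (subgroupOfEquivOfLe (le_normalizer : A ≤ N)).toEquiv] at h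
    rw [h]
    exact lt_mul_of_one_lt_left Nat.card_pos (one_lt_card_iff_ne_bot A |>.2 hA1)
  have hV'X : V' ≤ normalizer (X' : Set (N ⧸ A')) := by
    intro v hv
    obtain ⟨w, hw, rfl⟩ := hV2 v hv
    refine mem_of_forall_conj_mem ?_
    rintro _ ⟨x, hx, rfl⟩
    exact ⟨w * x * w⁻¹, (mem_normalizer_iff.1 (hVX hw) _).1 hx, by simp⟩
  have hY : locY V' X' ≤ ((locY (four a b) X).subgroupOf N).map f := by
    refine iSup_le ?_
    rintro ⟨kb, hkV, hk1⟩
    obtain ⟨k, hk, rfl⟩ := hV2 _ hkV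
    have hk1' : (k : G) ≠ 1 := fun e => hk1 (by rw [show k = 1 from Subtype.ext e, map_one])
    have hDN : locD (four a b) X (k : G) ≤ N :=
      ((hp.locD_le hk hVX).trans inf_le_left).trans hXA
    have hstep : locD V' X' (f k) ≤ ((locD (four a b) X (k : G)).subgroupOf N).map f := by
      rw [locD, commutator_le]
      rintro x' ⟨⟨x, hx, rfl⟩, hxk⟩ v' hv'
      obtain ⟨v, hv, rfl⟩ := hV2 v' hv'
      obtain ⟨n, hn, hxn⟩ := exists_fixed_in_coset (A := zpowers (k : G)) (N := A) (k := (x : G))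
        (zpowers_le.2 k.2) (hp.coprime_zpowers hk hA)
        (Or.inl (CfsgLib.Coprime.isSolvable_of_isMulCommutative inferInstance)) x.2
        (fun g hg => by
          rcases mem_zpowers_invol (hp.mul_self hk) hg with rfl | rfl
          · simp
          · have e : f x = f (k * x * k⁻¹) := by
              rw [map_mul, map_mul, map_inv, ← mem_centralizer_singleton_iff.1 hxk,
                mul_inv_cancel_right]
            have h2 := (mem_normalizer_iff.1 x.2 _).1 ((heq _ _).1 e)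
            simpa [mul_assoc] using h2)
      have hxn' : (x : G) * n ∈ X ⊓ centralizer {(k : G)} :=
        ⟨mul_mem hx (hAX hn), mem_centralizer_singleton_iff.2
          (mem_centralizer_iff.1 hxn _ (mem_zpowers _)).symm⟩
      refine ⟨⁅x * ⟨n, le_normalizer hn⟩, v⁆, commutator_mem_commutator hxn' hv, ?_⟩
      rw [map_commutatorElement, map_mul,
        show f ⟨n, le_normalizer hn⟩ = 1 by
          rw [← map_one f]; exact (heq _ _).2 (by simpa using hn), mul_one]
    intro u hu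
    obtain ⟨u₀, hu₀, rfl⟩ := hstep hu.1
    obtain ⟨n, hn, hun⟩ := exists_fixed_in_coset (A := four a b)
      (N := A ⊓ locD (four a b) X (k : G)) (k := (u₀ : G))
      (CfsgLib.Coprime.inf_le_normalizer hVA hp.four_le_normalizer_locD)
      (hp.coprime (odd_of_le inf_le_left hA)) (Or.inl hp.isSolvable)
      ((CfsgLib.Coprime.inf_le_normalizer (A := locD (four a b) X (k : G))
        (((hp.locD_le hk hVX).trans inf_le_left).trans hXA) le_normalizer) hu₀)
      (fun v hv => by
        refine ⟨?_, mul_mem ((mem_normalizer_iff.1 (hp.four_le_normalizer_locD hv) _).1 hu₀)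
          (Subgroup.inv_mem _ hu₀)⟩
        set v₁ : N := ⟨v, hVA hv⟩
        have e : f (v₁ * u₀ * v₁⁻¹) = f u₀ := by
          rw [map_mul, map_mul, map_inv,
            (commute_of_mem_centralizer_four hu.2 (hV1 v₁ hv)).eq, mul_inv_cancel_right]
        have h2 := (mem_normalizer_iff.1 u₀.2 _).1 ((heq _ _).1 e.symm)
        simpa [v₁, mul_assoc] using h2)
    refine ⟨u₀ * ⟨n, le_normalizer hn.1⟩, le_locY hk hk1' ⟨mul_mem hu₀ hn.2, hun⟩, ?_⟩
    rw [map_mul, show f ⟨n, le_normalizer hn.1⟩ = 1 by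
      rw [← map_one f]; exact (heq _ _).2 (by simpa using hn.1), mul_one]
  have hcN : c ∈ N := by
    refine hXA ?_
    refine (commutator_le.2 (fun x hx v hv => ?_) : ⁅X, four a b⁆ ≤ X) hc.1
    exact commutatorElement_mem (hVX hv) hx
  have hc' : f ⟨c, hcN⟩ ∈ ⁅X', V'⁆ ⊓ centralizer (V' : Set (N ⧸ A')) := by
    refine ⟨?_, mem_centralizer_iff.2 fun v hv => ?_⟩
    · obtain ⟨w, hw, e⟩ := (commutator_le.2 (fun x hx v hv =>
          ⟨⁅(⟨x, hXA hx⟩ : N), ⟨v, hVA hv⟩⁆, show f _ ∈ ⁅X', V'⁆ by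
            rw [map_commutatorElement]
            exact commutator_mem_commutator ⟨⟨x, hXA hx⟩, hx, rfl⟩ (hV1 _ hv), rfl⟩) :
          ⁅X, four a b⁆ ≤ (⁅X', V'⁆.comap f).map N.subtype) hc.1
      rwa [← show w = ⟨c, hcN⟩ from Subtype.ext e]
    · obtain ⟨w, hw, rfl⟩ := hV2 v hv
      rw [← map_mul, ← map_mul]
      exact congrArg f (Subtype.ext (commute_of_mem_centralizer_four hc.2 hw).eq)
  obtain ⟨y, hy, e⟩ := hY (ih (N ⧸ A') X' (f a') (f b') hX'lt hp' hX'odd hV'X hc')
  exact ⟨y, hy, _, (heq _ _).1 e, (mul_inv_cancel_left (y : G) c).symm⟩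

/-- The fixed points of an iterated commutator inside a `q`-subgroup. -/
theorem FourPair.qgroup_step (hp : FourPair a b) (hX : Odd (Nat.card X))
    (hVX : four a b ≤ normalizer (X : Set G)) {q : ℕ} [Fact q.Prime] {Q : Subgroup G}
    (hQX : Q ≤ X) (hQp : IsPGroup q Q) (hVQ : four a b ≤ normalizer (Q : Set G))
    (hfix : ∀ x ∈ Q, x ∈ centralizer (four a b : Set G) →
      ∃ y ∈ locY (four a b) X, ∃ z ∈ centralizer (X : Set G), x = y * z) :
    ∀ (N : Subgroup G), N ≤ Q → Q ≤ normalizer (N : Set G) →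
      four a b ≤ normalizer (N : Set G) →
      ⁅N, Q⁆ ⊓ centralizer (four a b : Set G) ≤ locY (four a b) X := by
  intro N
  induction hn : Nat.card N using Nat.strongRecOn generalizing N with
  | ind n ih =>
  intro hNQ hQN hVN
  open scoped IsMulCommutative in
  by_cases hN : N = ⊥
  · rw [hN, commutator_bot_left, bot_inf_eq]; exact bot_le
  set M := ⁅N, Q⁆ with hM
  have hMN : M ≤ N := commutator_le.2 fun x hx y hy => commutatorElement_mem (hQN hy) hx
  have hMN' : M < N := by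
    refine lt_of_le_of_ne hMN fun e => hN ?_
    haveI : Group.IsNilpotent Q := hQp.isNilpotent
    obtain ⟨j, hj⟩ := (Subgroup.nilpotent_iff_lowerCentralSeries (G := Q)).1 inferInstance
    have hall : ∀ i, N.subgroupOf Q ≤ (⊤ : Subgroup Q).lowerCentralSeries i := by
      intro i
      induction i with
      | zero => simp
      | succ i hi =>
        rw [Subgroup.lowerCentralSeries_succ]
        refine le_trans ?_ (commutator_mono hi le_rfl)
        intro x hx
        rw [mem_subgroupOf, ← e, hM] at hx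
        obtain ⟨w, hw, ew⟩ := (commutator_le.2 (fun g hg g' hg' =>
          ⟨⁅(⟨g, hNQ hg⟩ : Q), ⟨g', hg'⟩⁆,
            commutator_mem_commutator (mem_subgroupOf.2 hg) (mem_top _), rfl⟩) :
          ⁅N, Q⁆ ≤ (⁅N.subgroupOf Q, (⊤ : Subgroup Q)⁆).map Q.subtype) hx
        rwa [← show w = x from Subtype.ext ew]
    have h0 : N.subgroupOf Q = ⊥ := eq_bot_iff.2 (hj ▸ hall j)
    rwa [subgroupOf_eq_bot, disjoint_iff, inf_of_le_left hNQ] at h0
  have hMQ : M ≤ Q := hMN.trans hNQ
  have hQM : Q ≤ normalizer (M : Set G) := normalizer_commutator_ge_right _ _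
  have hVM : four a b ≤ normalizer (M : Set G) := fun v hv =>
    normalizer_commutator (hVN hv) (hVQ hv)
  set B := ⁅M, Q⁆ with hB
  have hBM : B ≤ M := commutator_le.2 fun x hx y hy => commutatorElement_mem (hQM hy) hx
  have hQB : Q ≤ normalizer (B : Set G) := normalizer_commutator_ge_right _ _
  have hVB : four a b ≤ normalizer (B : Set G) := fun v hv =>
    normalizer_commutator (hVM hv) (hVQ hv)
  have hBY : B ⊓ centralizer (four a b : Set G) ≤ locY (four a b) X :=
    ih _ (hn ▸ lt_of_le_of_ne (card_le_of_le hMN)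
      (fun e => hMN'.ne (eq_of_le_of_card_ge hMN e.ge))) M rfl hMQ hQM hVM
  set B' := B.subgroupOf M with hB'
  haveI : B'.Normal := normal_subgroupOf_of_le_normalizer (hMQ.trans hQB)
  set π := QuotientGroup.mk' B' with hπdef
  have hπ : ∀ m m' : M, π m = π m' ↔ (m : G)⁻¹ * m' ∈ B := fun m m' => by
    rw [hπdef, QuotientGroup.mk'_apply, QuotientGroup.mk'_apply, QuotientGroup.eq, mem_subgroupOf]
    rfl
  haveI : IsMulCommutative (M ⧸ B') := by
    refine ⟨⟨fun x y => ?_⟩⟩
    obtain ⟨m, rfl⟩ := QuotientGroup.mk'_surjective B' x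
    obtain ⟨m', rfl⟩ := QuotientGroup.mk'_surjective B' y
    rw [← map_mul, ← map_mul]
    refine (hπ _ _).2 ?_
    have : ⁅(m' : G)⁻¹, (m : G)⁻¹⁆ ∈ B := commutator_mem_commutator (inv_mem m'.2) (inv_mem (hMQ m.2))
    simpa [commutatorElement_def, mul_assoc] using this
  have hπ1 : ∀ m : M, π m = 1 ↔ (m : G) ∈ B := fun m => by
    rw [← map_one π, hπ, OneMemClass.coe_one, mul_one]; exact inv_mem_iff
  have hker : ∀ (w : four a b) (m : M), π m = 1 → π (cj hVM w m) = 1 := fun w m h => by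
    rw [hπ1] at h ⊢
    exact (mem_normalizer_iff.1 (hVB w.2) _).1 h
  -- the subgroup of elements whose norm has a representative in `locY`
  set W := (((locY (four a b) X) ⊓ M).subgroupOf M).map π with hW
  set S := (W.comap (eta hVM π)).map π with hS
  have hS' : ∀ m : M, π m ∈ S → eta hVM π m ∈ W := by
    rintro m ⟨m', hm', e⟩
    have h1 : π (m' * m⁻¹) = 1 := by rw [map_mul, map_inv, e, mul_inv_cancel]
    have h2 : eta hVM π (m' * m⁻¹) = 1 := by
      rw [eta_of_fixed (h := fun v => by rw [hker v _ h1, h1]), h1, one_mul, one_mul]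
    rw [map_mul, map_inv, mul_inv_eq_one] at h2
    exact h2 ▸ hm'
  have hnorm : ∀ (k : N) (g : Q), ⁅(k : G), (g : G)⁆ ∈ M := fun k g =>
    commutator_mem_commutator k.2 g.2
  let φ : Q → (N →* M ⧸ B') := fun g => MonoidHom.mk' (fun k => π ⟨_, hnorm k g⟩) (by
    intro k k'
    rw [mul_comm (π ⟨_, hnorm k g⟩), ← map_mul]
    refine (hπ _ _).2 ?_
    have hm := hnorm k' g
    have hk : (k : G) ∈ Q := hNQ k.2
    have h3 : ⁅(⁅(k' : G), (g : G)⁆)⁻¹, (k : G)⁆ ∈ B :=
      commutator_mem_commutator (inv_mem hm) hk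
    have h4 := (mem_normalizer_iff.1 (inv_mem (hQB (hMQ (hnorm k g)))) _).1 (inv_mem h3)
    simp only [commutatorElement_def, Subgroup.coe_mul, mul_inv_rev, inv_inv] at h4 ⊢
    simp only [mul_assoc, inv_mul_cancel_left, mul_inv_cancel_left] at h4 ⊢
    exact h4)
  let ψ : N → (Q →* M ⧸ B') := fun k => MonoidHom.mk' (fun g => π ⟨_, hnorm k g⟩) (by
    intro g g'
    have hm := hnorm k g'
    have h3 : ⁅⁅(k : G), (g' : G)⁆, (g : G)⁆ ∈ B := commutator_mem_commutator hm g.2
    have hconj : (g : G) * ⁅(k : G), (g' : G)⁆ * (g : G)⁻¹ ∈ M :=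
      (mem_normalizer_iff.1 (hQM g.2) _).1 hm
    have e1 : π ⟨_, hconj⟩ = π ⟨_, hm⟩ := by
      refine (hπ _ _).2 ?_
      have h4 := Subgroup.inv_mem B (commutator_mem_commutator (Subgroup.inv_mem M hm) g.2)
      rw [commutatorElement_inv, commutatorElement_def, inv_inv] at h4
      show ((g : G) * ⁅(k : G), (g' : G)⁆ * (g : G)⁻¹)⁻¹ * ⁅(k : G), (g' : G)⁆ ∈ B
      convert h4 using 1
      group
    rw [← e1, ← map_mul]
    refine congrArg π (Subtype.ext ?_)
    simp [commutatorElement_def, mul_assoc])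
  have hψφ : ∀ (k : N) (g : Q), ψ k g = φ g k := fun k g => rfl
  have hcj : ∀ (v : four a b) (k k' : N) (g g' : Q), (v : G) * k * (v : G)⁻¹ = k' →
      (v : G) * g * (v : G)⁻¹ = g' → π (cj hVM v ⟨_, hnorm k g⟩) = π ⟨_, hnorm k' g'⟩ := by
    intro v k k' g g' ek eg
    refine congrArg π (Subtype.ext ?_)
    simp only [cj_coe, ← ek, ← eg, commutatorElement_def]
    group
  have hYfix : ∀ x ∈ Q, x ∈ centralizer (four a b : Set G) →
      ∃ y ∈ locY (four a b) X, ∀ w ∈ X, ⁅x, w⁆ = ⁅y, w⁆ ∧ ⁅w, x⁆ = ⁅w, y⁆ := by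
    intro x hx hxV
    obtain ⟨y, hy, z, hz, rfl⟩ := hfix x hx hxV
    refine ⟨y, hy, fun w hw => ?_⟩
    have hzw : w * z = z * w := mem_centralizer_iff.1 hz w hw
    have hzw' : z * w⁻¹ = w⁻¹ * z := (mem_centralizer_iff.1 hz _ (inv_mem hw)).symm
    constructor
    · calc ⁅y * z, w⁆ = y * (z * w) * z⁻¹ * y⁻¹ * w⁻¹ := by rw [commutatorElement_def]; group
        _ = ⁅y, w⁆ := by rw [← hzw, commutatorElement_def]; group
    · calc ⁅w, y * z⁆ = w * y * (z * w⁻¹) * z⁻¹ * y⁻¹ := by rw [commutatorElement_def]; group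
        _ = ⁅w, y⁆ := by rw [hzw', commutatorElement_def]; group
  have hfixedW : ∀ (m : M), (∀ v, π (cj hVM v m) = π m) →
      (∃ y ∈ locY (four a b) X ⊓ M, y⁻¹ * (m : G) ∈ B) → eta hVM π m ∈ W := by
    intro m hm ⟨y, hy, hyB⟩
    have h1 : π m ∈ W := ⟨⟨y, hy.2⟩, hy, (hπ _ _).2 hyB⟩
    rw [eta_of_fixed hVM π hm]
    exact mul_mem (mul_mem h1 h1) (mul_mem h1 h1)
  have hgen : ∀ (k : N) (g : Q),
      ((k : G) ∈ centralizer (four a b : Set G) ∨
        ∃ j ∈ four a b, j ≠ 1 ∧ IsEig (four a b) j (k : G)) →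
      ((g : G) ∈ centralizer (four a b : Set G) ∨
        ∃ j ∈ four a b, j ≠ 1 ∧ IsEig (four a b) j (g : G)) →
      φ g k ∈ S := by
    intro k g hk hg
    refine ⟨⟨_, hnorm k g⟩, ?_, rfl⟩
    rw [SetLike.mem_coe, mem_comap]
    rcases hk with hk | ⟨j, hj, hj1, hk⟩ <;> rcases hg with hg | ⟨i, hi, hi1, hg⟩
    · -- both fixed
      obtain ⟨y, hy, e⟩ := hYfix k (hNQ k.2) hk
      obtain ⟨y', hy', e'⟩ := hYfix g g.2 hg
      have h1 : ⁅(k : G), (g : G)⁆ = ⁅y, y'⁆ := by
        rw [(e g (hQX g.2)).1, (e' y (hp.locY_le hVX hy)).2]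
      refine hfixedW _ (fun v => hcj v k k g g ?_ ?_)
        ⟨_, ⟨?_, hnorm k g⟩, by rw [inv_mul_cancel]; exact one_mem B⟩
      · rw [(commute_of_mem_centralizer_four hk v.2).eq, mul_inv_cancel_right]
      · rw [(commute_of_mem_centralizer_four hg v.2).eq, mul_inv_cancel_right]
      · rw [h1, commutatorElement_def]
        exact mul_mem (mul_mem (mul_mem hy hy') (Subgroup.inv_mem _ hy)) (Subgroup.inv_mem _ hy')
    · -- `g` an eigen element, `k` fixed
      obtain ⟨v, hv, hv1, hvi, -⟩ := hp.exists_other hi hi1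
      rw [hp.eta_of_inverted hVM π hker (v := ⟨v, hv⟩) (fun e => hv1 (congrArg Subtype.val e)) ?_]
      · exact one_mem W
      · rw [hcj ⟨v, hv⟩ k k g g⁻¹
          (by rw [(commute_of_mem_centralizer_four hk hv).eq, mul_inv_cancel_right])
          (hg.2 v hv hv1 hvi)]
        exact map_inv (ψ k) g
    · obtain ⟨v, hv, hv1, hvj, -⟩ := hp.exists_other hj hj1
      rw [hp.eta_of_inverted hVM π hker (v := ⟨v, hv⟩) (fun e => hv1 (congrArg Subtype.val e)) ?_]
      · exact one_mem W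
      · rw [hcj ⟨v, hv⟩ k k⁻¹ g g (hk.2 v hv hv1 hvj)
          (by rw [(commute_of_mem_centralizer_four hg hv).eq, mul_inv_cancel_right])]
        exact map_inv (φ g) k
    · by_cases hji : j = i
      · subst hji
        have hkD : (k : G) ∈ locD (four a b) X j :=
          hp.eig_mem_locD hX hVX hj hj1 (hQX (hNQ k.2)) hk
        have hgC : (g : G) ∈ X ⊓ centralizer {j} :=
          ⟨hQX g.2, mem_centralizer_singleton_iff.2 hg.1.symm.eq⟩
        have hmD : ⁅(k : G), (g : G)⁆ ∈ locD (four a b) X j :=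
          commutatorElement_mem (normalizer_commutator_ge_left _ _ hgC) hkD
        have hfx : ∀ v, π (cj hVM v ⟨_, hnorm k g⟩) = π ⟨_, hnorm k g⟩ := by
          intro v
          by_cases hvc : (v : G) = 1 ∨ (v : G) = j
          · refine hcj v k k g g ?_ ?_ <;> rcases hvc with e | e <;> rw [e] <;>
              simp [hk.1.eq, hg.1.eq]
          · push_neg at hvc
            rw [hcj v k k⁻¹ g g⁻¹ (hk.2 v v.2 hvc.1 hvc.2) (hg.2 v v.2 hvc.1 hvc.2)]
            have h1 : φ g⁻¹ k⁻¹ = (ψ k g⁻¹)⁻¹ := map_inv (φ g⁻¹) k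
            exact h1.trans (by rw [map_inv, inv_inv]; rfl)
        obtain ⟨n', hn', hfc⟩ := exists_fixed_in_coset (A := four a b)
          (N := B ⊓ locD (four a b) X j) (k := ⁅(k : G), (g : G)⁆)
          (CfsgLib.Coprime.inf_le_normalizer hVB hp.four_le_normalizer_locD)
          (hp.coprime (odd_of_le inf_le_left (odd_of_le ((hBM.trans hMQ).trans hQX) hX)))
          (Or.inl hp.isSolvable)
          ((CfsgLib.Coprime.inf_le_normalizer (A := M ⊓ locD (four a b) X j)
            ((inf_le_left.trans hMQ).trans hQB) (inf_le_right.trans le_normalizer))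
              ⟨hnorm k g, hmD⟩)
          (fun v hv => by
            refine ⟨?_, mul_mem ((mem_normalizer_iff.1 (hp.four_le_normalizer_locD hv) _).1 hmD)
              (Subgroup.inv_mem _ hmD)⟩
            have h2 := (mem_normalizer_iff.1 (hQB (hMQ (hnorm k g))) _).1
              ((hπ _ _).1 (hfx ⟨v, hv⟩).symm)
            simpa [mul_assoc, -commutatorElement_inv] using h2)
        refine hfixedW _ hfx ⟨_, ⟨le_locY hj hj1 ⟨mul_mem hmD hn'.2, hfc⟩,
          mul_mem (hnorm k g) (hBM hn'.1)⟩, ?_⟩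
        show (⁅(k : G), (g : G)⁆ * n')⁻¹ * ⁅(k : G), (g : G)⁆ ∈ B
        rw [mul_inv_rev, mul_assoc, inv_mul_cancel, mul_one]
        exact Subgroup.inv_mem B hn'.1
      · rw [hp.eta_of_inverted hVM π hker (v := ⟨j, hj⟩) (fun e => hj1 (congrArg Subtype.val e)) ?_]
        · exact one_mem W
        · rw [hcj ⟨j, hj⟩ k k g g⁻¹ (by rw [hk.1.eq, mul_inv_cancel_right])
            (hg.2 j hj hj1 hji)]
          exact map_inv (ψ k) g
  have hNodd : Odd (Nat.card N) := odd_of_le (hNQ.trans hQX) hX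
  have hall1 : ∀ g : Q, ((g : G) ∈ centralizer (four a b : Set G) ∨
      ∃ j ∈ four a b, j ≠ 1 ∧ IsEig (four a b) j (g : G)) → ∀ k : N, φ g k ∈ S := by
    intro g hg k
    obtain ⟨w, hw, e⟩ := (hp.le_of_eig hNodd hVN (W := (S.comap (φ g)).map N.subtype)
      (fun j hj hj1 w hw he => ⟨⟨w, hw⟩, hgen _ _ (Or.inr ⟨j, hj, hj1, he⟩) hg, rfl⟩)
      (fun w hw => ⟨⟨w, hw.1⟩, hgen _ _ (Or.inl hw.2) hg, rfl⟩)) k.2
    rwa [← show w = k from Subtype.ext e]
  have hall2 : ∀ (k : N) (g : Q), φ g k ∈ S := by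
    intro k g
    obtain ⟨w, hw, e⟩ := (hp.le_of_eig (odd_of_le hQX hX) hVQ
      (W := (S.comap (ψ k)).map Q.subtype)
      (fun j hj hj1 w hw he => ⟨⟨w, hw⟩, hall1 _ (Or.inr ⟨j, hj, hj1, he⟩) k, rfl⟩)
      (fun w hw => ⟨⟨w, hw.1⟩, hall1 _ (Or.inl hw.2) k, rfl⟩)) g.2
    rw [← show w = g from Subtype.ext e]
    exact hw
  intro u hu
  obtain ⟨m, hm, e⟩ := (commutator_le.2 (fun k hk g hg =>
    ⟨⟨_, hnorm ⟨k, hk⟩ ⟨g, hg⟩⟩, hall2 ⟨k, hk⟩ ⟨g, hg⟩, rfl⟩) :
    ⁅N, Q⁆ ≤ (S.comap π).map M.subtype) hu.1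
  have hmfix : ∀ v, π (cj hVM v m) = π m := fun v => congrArg π (Subtype.ext (by
    rw [cj_coe, show (m : G) = u from e, (commute_of_mem_centralizer_four hu.2 v.2).eq,
      mul_inv_cancel_right]))
  have h4 : eta hVM π m ∈ W := hS' m hm
  rw [eta_of_fixed hVM π hmfix] at h4
  have hoddq : Odd (Nat.card (⊤ : Subgroup (M ⧸ B'))) := by
    rw [card_top]
    exact (odd_of_le (hMQ.trans hQX) hX).of_dvd_nat (card_quotient_dvd_card B')
  obtain ⟨⟨y, hyM⟩, hy, ey⟩ :=
    mem_of_sq_mem hoddq (mem_top (π m)) (mem_of_sq_mem hoddq (mem_top _) h4)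
  have hyY : y ∈ locY (four a b) X := hy.1
  have hyC := locY_le_centralizer (four a b) X hyY
  have h5 : y⁻¹ * (m : G) ∈ B := (hπ _ _).1 ey
  rw [show (m : G) = u from e] at h5
  have h6 : y⁻¹ * u ∈ locY (four a b) X := hBY ⟨h5, mul_mem (Subgroup.inv_mem _ hyC) hu.2⟩
  simpa using mul_mem hyY h6

end CfsgLib.ProdFusion
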