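import Cfsg.Agent.Lib.ProdFusion.FourLemma

/-!
# Product fusion: the four lemma
-/

set_option autoImplicit false
set_option linter.style.haveILetI false
set_option linter.unusedSectionVars false

namespace CfsgLib.ProdFusion

open Subgroup
open scoped commutatorElement
open CfsgLib.Coprime (conjBy mem_conjBy conjBy_eq_self_iff card_conjBy exists_fixed_in_coset)

universe u

variable {G : Type u} [Group G] [Finite G] {a b : G} {X : Subgroup G}

theorem exists_min_invariant {V X : Subgroup G} (hX : X ≠ ⊥) (hV : V ≤ normalizer (X : Set G)) :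
    ∃ A : Subgroup G, A ≠ ⊥ ∧ A ≤ X ∧ X ≤ normalizer (A : Set G) ∧ V ≤ normalizer (A : Set G) ∧
      ∀ B : Subgroup G, B ≠ ⊥ → B ≤ A → X ≤ normalizer (B : Set G) →
        V ≤ normalizer (B : Set G) → B = A := by
  let s : Set (Subgroup G) :=
    {A | A ≠ ⊥ ∧ A ≤ X ∧ X ≤ normalizer (A : Set G) ∧ V ≤ normalizer (A : Set G)}
  obtain ⟨⟨A, hA⟩, hmin⟩ := @Finite.exists_min s _ _ ⟨⟨X, hX, le_rfl, le_normalizer, hV⟩⟩ _
    (fun A => Nat.card (A : Subgroup G))
  refine ⟨A, hA.1, hA.2.1, hA.2.2.1, hA.2.2.2, fun B hB hBA hXB hVB => ?_⟩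
  exact eq_of_le_of_card_ge hBA (hmin ⟨B, hB, hBA.trans hA.2.1, hXB, hVB⟩)

theorem FourPair.fixed_le_of_abelian (hp : FourPair a b) (hX : Odd (Nat.card X))
    (hVX : four a b ≤ normalizer (X : Set G)) {A : Subgroup G} (hAX : A ≤ X)
    (hAc : IsMulCommutative A) (hXA : X ≤ normalizer (A : Set G))
    (hVA : four a b ≤ normalizer (A : Set G))
    (hmin : ∀ B : Subgroup G, B ≠ ⊥ → B ≤ A → X ≤ normalizer (B : Set G) →
        four a b ≤ normalizer (B : Set G) → B = A)
    (hnc : ∃ j ∈ four a b, j ≠ 1 ∧ ∃ a' ∈ A, a' ≠ 1 ∧ IsEig (four a b) j a') :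
    A ⊓ centralizer (four a b : Set G) ≤ locY (four a b) X := by
  set V := four a b with hV
  have hA : Odd (Nat.card A) := odd_of_le hAX hX
  set gen : Set G := {x | x ∈ A ∧ ∃ j ∈ V, j ≠ 1 ∧ IsEig V j x} with hgen
  set E := Subgroup.closure gen with hE
  have hEA : E ≤ A := (closure_le _).2 fun x hx => hx.1
  have hEC : E ⊓ centralizer (V : Set G) = ⊥ := by
    have h1 : E ≤ ⁅A, V⁆ := (closure_le _).2 fun x ⟨hx, j, hj, hj1, he⟩ =>
      (commutator_mono inf_le_left le_rfl) (hp.eig_mem_locD hA hVA hj hj1 hx he)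
    rw [eq_bot_iff, ← CfsgLib.Coprime.centralizer_inf_commutator_eq_bot hAc hVA (hp.coprime hA)]
    exact fun x hx => ⟨⟨hEA hx.1, hx.2⟩, h1 hx.1⟩
  have hdec : A ≤ E ⊔ (A ⊓ centralizer (V : Set G)) := hp.le_of_eig hA hVA
    (fun j hj hj1 w hw he => mem_sup_left (subset_closure ⟨hw, j, hj, hj1, he⟩)) le_sup_right
  set A' := E ⊔ (A ⊓ locY V X) with hA'
  have hA'A : A' ≤ A := sup_le hEA inf_le_left
  have hVA' : V ≤ normalizer (A' : Set G) := by
    intro v hv
    refine mem_of_forall_conj_mem fun x hx => ?_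
    suffices h : A' ≤ A'.comap (MulAut.conj v).toMonoidHom from h hx
    refine sup_le ((closure_le _).2 ?_) ?_
    · rintro y ⟨hy, j, hj, hj1, he⟩
      show v * y * v⁻¹ ∈ A'
      have hy' : y ∈ A' := mem_sup_left (subset_closure ⟨hy, j, hj, hj1, he⟩)
      rcases hp.isEig_conj he hv with e | e <;> rw [e]
      exacts [hy', inv_mem hy']
    · intro y hy
      show v * y * v⁻¹ ∈ A'
      rw [(commute_of_mem_centralizer_four (locY_le_centralizer V X hy.2) hv).eq,
        mul_inv_cancel_right]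
      exact mem_sup_right hy
  have hXA' : X ≤ normalizer (A' : Set G) := by
    refine hp.le_of_eig hX hVX (fun k hk hk1 h hh he => ?_) (fun h hh => ?_)
    · refine mem_of_forall_conj_mem fun x hx => ?_
      suffices H : A' ≤ A'.comap (MulAut.conj h).toMonoidHom from H hx
      have hcase : ∀ y ∈ A, y ∈ A' → Commute k y → h * y * h⁻¹ ∈ A' := by
        intro y hy hy' hky
        have hK : A ⊓ locD V X k ≤ A' := hp.le_of_eig (odd_of_le inf_le_left hA)
          (CfsgLib.Coprime.inf_le_normalizer hVA hp.four_le_normalizer_locD)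
          (fun j hj hj1 w hw hew => mem_sup_left (subset_closure ⟨hw.1, j, hj, hj1, hew⟩))
          (fun w hw => mem_sup_right ⟨hw.1.1, le_locY hk hk1 ⟨hw.1.2, hw.2⟩⟩)
        have hD : h ∈ locD V X k := hp.eig_mem_locD hX hVX hk hk1 hh he
        have hyC : y ∈ X ⊓ centralizer {k} :=
          ⟨hAX hy, mem_centralizer_singleton_iff.2 hky.symm.eq⟩
        have hu : ⁅h, y⁆ ∈ A ⊓ locD V X k :=
          ⟨mul_mem ((mem_normalizer_iff.1 (hXA hh) _).1 hy) (Subgroup.inv_mem _ hy),
            commutatorElement_mem (normalizer_commutator_ge_left _ _ hyC) hD⟩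
        rw [show h * y * h⁻¹ = ⁅h, y⁆ * y by rw [commutatorElement_def]; group]
        exact mul_mem (hK hu) hy'
      refine sup_le ((closure_le _).2 ?_) ?_
      · rintro y ⟨hy, j, hj, hj1, hey⟩
        show h * y * h⁻¹ ∈ A'
        by_cases hjk : j = k
        · exact hcase y hy (mem_sup_left (subset_closure ⟨hy, j, hj, hj1, hey⟩)) (hjk ▸ hey.1)
        · have hz : h * y * h⁻¹ ∈ A := (mem_normalizer_iff.1 (hXA hh) _).1 hy
          have hinv : k * (h * y * h⁻¹) * k⁻¹ = (h * y * h⁻¹)⁻¹ := by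
            rw [show k * (h * y * h⁻¹) * k⁻¹ = (k * h * k⁻¹) * (k * y * k⁻¹) * (k * h * k⁻¹)⁻¹ by
              group, he.1.eq, mul_inv_cancel_right, hey.2 k hk hk1 (Ne.symm hjk)]
            group
          obtain ⟨e, he', f, hf, hef⟩ := CfsgLib.Coprime.mem_sup_exists
            (N := E) (H := A ⊓ centralizer (V : Set G))
            (inf_le_left.trans (fun w hw => centralizer_le_normalizer _
              (mem_centralizer_iff.2 fun u hu =>
                congrArg Subtype.val (mul_comm' (⟨u, hEA hu⟩ : A) ⟨w, hw⟩)))) (hdec hz)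
          have hEk : k * e * k⁻¹ ∈ E := by
            suffices H : E ≤ E.comap (MulAut.conj k).toMonoidHom from H he'
            refine (closure_le _).2 ?_
            rintro w ⟨hw, i, hi, hi1, hew⟩
            show k * w * k⁻¹ ∈ E
            rcases hp.isEig_conj hew hk with e1 | e1 <;> rw [e1]
            exacts [subset_closure ⟨hw, i, hi, hi1, hew⟩,
              inv_mem (subset_closure ⟨hw, i, hi, hi1, hew⟩)]
          have hkf : k * f * k⁻¹ = f := by
            rw [(commute_of_mem_centralizer_four hf.2 hk).eq, mul_inv_cancel_right]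
          rw [← hef, show k * (e * f) * k⁻¹ = (k * e * k⁻¹) * (k * f * k⁻¹) by group, hkf] at hinv
          have hfe : f * (e * f) = (k * e * k⁻¹)⁻¹ := by
            rw [eq_inv_iff_mul_eq_one.1 hinv |> fun h => (eq_inv_of_mul_eq_one_right (by
              rwa [mul_assoc] at h) : f * (e * f) = (k * e * k⁻¹)⁻¹)]
          have hcomm : f * e = e * f :=
            congrArg Subtype.val (mul_comm' (⟨f, hf.1⟩ : A) ⟨e, hEA he'⟩)
          have hff : f * f ∈ E ⊓ centralizer (V : Set G) := by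
            refine ⟨?_, mul_mem hf.2 hf.2⟩
            rw [show f * f = e⁻¹ * (f * (e * f)) by rw [← mul_assoc f, hcomm]; group, hfe]
            exact mul_mem (Subgroup.inv_mem _ he') (Subgroup.inv_mem _ hEk)
          rw [hEC, mem_bot] at hff
          rw [← hef, eq_one_of_sq hA hf.1 hff, mul_one]
          exact mem_sup_left he'
      · intro y hy
        exact hcase y hy.1 (mem_sup_right hy)
          (commute_of_mem_centralizer_four (locY_le_centralizer V X hy.2) hk)
    · refine mem_of_forall_conj_mem fun x hx => ?_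
      suffices H : A' ≤ A'.comap (MulAut.conj h).toMonoidHom from H hx
      refine sup_le ((closure_le _).2 ?_) ?_
      · rintro y ⟨hy, j, hj, hj1, hey⟩
        exact mem_sup_left (subset_closure
          ⟨(mem_normalizer_iff.1 (hXA hh.1) _).1 hy, j, hj, hj1, hp.conj_eig hey hj hh.2⟩)
      · intro y hy
        exact mem_sup_right ⟨(mem_normalizer_iff.1 (hXA hh.1) _).1 hy.1,
          (mem_normalizer_iff.1 (hp.centralizer_le_normalizer_locY hX hVX hh) _).1 hy.2⟩
  have hA'1 : A' ≠ ⊥ := by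
    obtain ⟨j, hj, hj1, x, hx, hx1, he⟩ := hnc
    intro e
    refine hx1 (mem_bot.1 (e ▸ ?_))
    exact mem_sup_left (subset_closure ⟨hx, j, hj, hj1, he⟩)
  intro c hc
  have hcA : c ∈ A' := by rw [hmin A' hA'1 hA'A hXA' hVA']; exact hc.1
  obtain ⟨e, he, y, hy, rfl⟩ := CfsgLib.Coprime.mem_sup_exists (N := E) (H := A ⊓ locY V X)
    (inf_le_left.trans (fun w hw => centralizer_le_normalizer _
      (mem_centralizer_iff.2 fun u hu =>
        congrArg Subtype.val (mul_comm' (⟨u, hEA hu⟩ : A) ⟨w, hw⟩)))) hcA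
  have : e ∈ E ⊓ centralizer (V : Set G) := ⟨he, by
    simpa using mul_mem hc.2 (Subgroup.inv_mem _ (locY_le_centralizer V X hy.2))⟩
  rw [hEC, mem_bot] at this
  rw [this, one_mul]
  exact hy.2

/-- An abelian normal subgroup centralized by `V` is centralized by `[X, V]`. -/
theorem commutator_le_centralizer {A V : Subgroup G} (hXA : X ≤ normalizer (A : Set G))
    (hAV : A ≤ centralizer (V : Set G)) : ⁅X, V⁆ ≤ centralizer (A : Set G) := by
  rw [commutator_le]
  intro x hx v hv
  refine mem_centralizer_iff.2 fun y hy => ?_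
  have h1 : v * y = y * v := mem_centralizer_iff.1 (hAV hy) v hv
  have h2 : v * (x⁻¹ * y * x) = (x⁻¹ * y * x) * v :=
    mem_centralizer_iff.1 (hAV ((mem_normalizer_iff''.1 (hXA hx) _).1 hy)) v hv
  have h3 : v⁻¹ * y = y * v⁻¹ := mem_centralizer_iff.1 (hAV hy) _ (inv_mem hv)
  rw [commutatorElement_def]
  calc y * (x * v * x⁻¹ * v⁻¹) = x * ((x⁻¹ * y * x) * v) * x⁻¹ * v⁻¹ := by group
    _ = x * v * x⁻¹ * (y * v⁻¹) := by rw [← h2]; group
    _ = x * v * x⁻¹ * v⁻¹ * y := by rw [← h3]; group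

theorem FourPair.mem_derived (hp : FourPair a b) (hX : Odd (Nat.card X))
    (hVX : four a b ≤ normalizer (X : Set G)) (hcomm : ⁅X, four a b⁆ = X)
    {c : X} (hc : (c : G) ∈ centralizer (four a b : Set G)) :
    c ∈ commutator X := by
  set π : X →* Abelianization X := Abelianization.of with hπ
  have hall : X ≤ ((eta hVX π).ker).map X.subtype := by
    conv_lhs => rw [← hcomm]
    rw [commutator_le]
    intro x hx v hv
    refine ⟨⟨x, hx⟩ * cj hVX ⟨v, hv⟩ ⟨x, hx⟩⁻¹, ?_, ?_⟩
    · rw [SetLike.mem_coe, MonoidHom.mem_ker, map_mul, hp.eta_conj, map_inv, mul_inv_cancel]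
    · simp [commutatorElement_def, mul_assoc]
  obtain ⟨c', hc', e⟩ := hall c.2
  rw [show c' = c from Subtype.ext e, SetLike.mem_coe, MonoidHom.mem_ker] at hc'
  rw [eta_of_fixed hVX π (fun v => congrArg π (Subtype.ext (by
    rw [cj_coe, (commute_of_mem_centralizer_four hc v.2).eq, mul_inv_cancel_right])))] at hc'
  have h1 : c * c * (c * c) ∈ commutator X := by
    rw [← Abelianization.ker_of, MonoidHom.mem_ker, map_mul, map_mul]; exact hc'
  have htop : Odd (Nat.card (⊤ : Subgroup X)) := by rwa [card_top]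
  exact mem_of_sq_mem htop (mem_top c) (mem_of_sq_mem htop (mem_top _) h1)

/-- A central `q`-element of the derived group lies in the derived group of a Sylow subgroup. -/
theorem mem_derived_sylow {q : ℕ} [hq : Fact q.Prime] {c : X} (hcen : c ∈ center X)
    (hc : c ^ q = 1) (hder : c ∈ commutator X) {Q : Subgroup G}
    (hQ : CfsgLib.Coprime.IsSylowIn q Q X) (hcQ : (c : G) ∈ Q) : (c : G) ∈ ⁅Q, Q⁆ := by
  set H := Q.subgroupOf X with hH
  have hkey : ∀ (k : ℕ) (g₀ : X), g₀⁻¹ * c ^ k * g₀ ∈ H → g₀⁻¹ * c ^ k * g₀ = c ^ k := by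
    intro k g₀ _
    rw [mul_assoc, ← mem_center_iff.1 (pow_mem hcen k) g₀, inv_mul_cancel_left]
  have h1 := MonoidHom.transfer_eq_pow (Abelianization.of : H →* Abelianization H) c hkey
  have h2 : MonoidHom.transfer (Abelianization.of : H →* Abelianization H) c = 1 :=
    MonoidHom.mem_ker.1 (Abelianization.commutator_subset_ker _ hder)
  rw [h2] at h1
  have h3 : (⟨c ^ H.index, MonoidHom.transfer_eq_pow_aux c hkey⟩ : H) ∈ commutator H := by
    rw [← Abelianization.ker_of, MonoidHom.mem_ker]; exact h1.symm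
  have h4 : ((c : G) ^ H.index) ∈ ⁅Q, Q⁆ := by
    have h5 := mem_map_of_mem H.subtype h3
    rw [commutator_def, map_commutator, ← MonoidHom.range_eq_map, range_subtype] at h5
    have h6 := mem_map_of_mem X.subtype h5
    have hm : H.map X.subtype = Q := by rw [hH, subgroupOf_map_subtype, inf_of_le_left hQ.1]
    rw [map_commutator, hm] at h6
    simpa using h6
  have hcop : H.index.Coprime q := by
    rw [Nat.coprime_comm, hq.out.coprime_iff_not_dvd]
    exact (hQ.toSylow).not_dvd_index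
  have hcG : (c : G) ^ q = 1 := by rw [← SubgroupClass.coe_pow, hc, OneMemClass.coe_one]
  obtain ⟨r, hr⟩ := exists_pow_eq_self_of_coprime
    (hcop.coprime_dvd_right (orderOf_dvd_of_pow_eq_one hcG))
  rw [← hr]
  exact pow_mem h4 r

/-- The four lemma: `C_[X,V](V)` is generated by the `C_[C_X(k),V](V)`. -/
theorem four_lemma_aux : ∀ n : ℕ, FourBelow.{u} n := by
  intro n
  induction n with
  | zero => exact fun _ _ _ _ _ _ h => absurd h (Nat.not_lt_zero _)
  | succ n ih =>
  intro G _ _ X a b hlt hp hX hVX c hc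
  rcases Nat.lt_succ_iff_lt_or_eq.1 hlt with h | h
  · exact ih G X a b h hp hX hVX hc
  subst h
  set V := four a b with hV
  have hcX : ⁅X, V⁆ ≤ X := commutator_le.2 fun x hx v hv => commutatorElement_mem (hVX hv) hx
  by_cases hcomm : ⁅X, V⁆ = X
  swap
  · have hlt' : Nat.card (⁅X, V⁆ : Subgroup G) < Nat.card X :=
      lt_of_le_of_ne (card_le_of_le hcX) fun e => hcomm (eq_of_le_of_card_ge hcX e.ge)
    have h2 := ih G ⁅X, V⁆ a b hlt' hp (odd_of_le hcX hX) (normalizer_commutator_ge_right _ _)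
    rw [CfsgLib.Coprime.commutator_commutator_eq hVX (hp.coprime hX) (Or.inl hp.isSolvable)] at h2
    exact locY_mono hcX (h2 hc)
  by_cases hX1 : X = ⊥
  · have := hcX hc.1
    rw [hX1, mem_bot] at this
    rw [this]; exact one_mem _
  obtain ⟨A, hA1, hAX, hXA, hVA, hmin⟩ := exists_min_invariant hX1 hVX
  have hA : Odd (Nat.card A) := odd_of_le hAX hX
  have hAc : IsMulCommutative A := by
    have hcl : ⁅A, A⁆ ≤ A := commutator_le_self A
    by_cases h0 : ⁅A, A⁆ = ⊥
    · exact ⟨⟨fun u w => Subtype.ext (commutatorElement_eq_one_iff_commute.1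
        (mem_bot.1 (h0 ▸ commutator_mem_commutator u.2 w.2))).eq⟩⟩
    · exfalso
      have e : ⁅A, A⁆ = A := hmin _ h0 hcl
        (fun g hg => normalizer_commutator (hXA hg) (hXA hg))
        (fun g hg => normalizer_commutator (hVA hg) (hVA hg))
      haveI : Group.IsSolvable A := CfsgLib.FT.isSolvable_of_odd A hA
      haveI : Nontrivial A := nontrivial_iff_ne_bot A |>.2 hA1
      refine (Group.IsSolvable.commutator_lt_top_of_nontrivial A).ne ?_
      apply map_injective A.subtype_injective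
      rw [commutator_def, map_commutator, ← MonoidHom.range_eq_map, range_subtype, e]
  obtain ⟨y, hy, z, hz, rfl⟩ := hp.quot_step hX hVX hAX hA1 hXA hVA ih hc
  have hzC : z ∈ centralizer (V : Set G) := by
    simpa using mul_mem (Subgroup.inv_mem _ (locY_le_centralizer V X hy)) hc.2
  refine mul_mem hy ?_
  by_cases hnc : ∃ j ∈ V, j ≠ 1 ∧ ∃ a' ∈ A, a' ≠ 1 ∧ IsEig V j a'
  · exact hp.fixed_le_of_abelian hX hVX hAX hAc hXA hVA hmin hnc ⟨hz, hzC⟩
  push Not at hnc
  have hAV : A ≤ centralizer (V : Set G) := hp.le_of_eig hA hVA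
    (fun j hj hj1 w hw he => by
      by_cases hw1 : w = 1
      · rw [hw1]; exact one_mem _
      · exact absurd he (hnc j hj hj1 w hw hw1)) inf_le_right
  have hAX' : X ≤ centralizer (A : Set G) := by
    conv_lhs => rw [← hcomm]
    exact commutator_le_centralizer hXA hAV
  obtain ⟨x, hxA, hx1⟩ := A.ne_bot_iff_exists_ne_one.1 hA1 |> fun ⟨x, hx⟩ =>
    (⟨x.1, x.2, fun e => hx (Subtype.ext e)⟩ : ∃ x, x ∈ A ∧ x ≠ 1)
  set q := (orderOf x).minFac with hqdef
  haveI : Fact q.Prime := ⟨Nat.minFac_prime (fun e => hx1 (orderOf_eq_one_iff.1 e))⟩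
  obtain ⟨r, hr⟩ := Nat.minFac_dvd (orderOf x)
  set c₀ := x ^ r with hc₀
  have hc₀q : c₀ ^ q = 1 := by rw [hc₀, ← pow_mul, mul_comm, ← hr, pow_orderOf_eq_one]
  have hc₀A : c₀ ∈ A := pow_mem hxA r
  have hc₀1 : c₀ ≠ 1 := by
    intro e
    have h1 := orderOf_dvd_of_pow_eq_one e
    have h2 := orderOf_pos x
    have h3 : orderOf x ≤ r := Nat.le_of_dvd (Nat.pos_of_ne_zero (by rintro rfl; rw [mul_zero] at hr; omega)) h1
    have h4 : 2 ≤ q := (Fact.out : q.Prime).two_le
    rw [hr] at h2 h3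
    nlinarith
  have hAeq : zpowers c₀ = A := by
    refine hmin _ (zpowers_ne_bot.2 hc₀1) (zpowers_le.2 hc₀A) (fun g hg => ?_) (fun g hg => ?_)
    · exact normalizer_zpowers_of_commute
        (mem_centralizer_iff.1 (hAX' hg) c₀ hc₀A).symm
    · exact normalizer_zpowers_of_commute (mem_centralizer_iff.1 (hAV hc₀A) g hg)
  have hcen : (⟨c₀, hAX hc₀A⟩ : X) ∈ center X :=
    mem_center_iff.2 fun g => Subtype.ext (mem_centralizer_iff.1 (hAX' g.2) c₀ hc₀A).symm
  obtain ⟨Q, hQ, hAQ, hVQ⟩ := CfsgLib.Coprime.le_invariant_sylow (A := V) (K := X) hVX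
    (hp.coprime hX) (Or.inl hp.isSolvable) (p := q) (U := A) hAX
    (by
      refine IsPGroup.of_card (n := 1) ?_
      rw [pow_one, ← hAeq, Nat.card_zpowers, orderOf_eq_prime hc₀q hc₀1])
    hVA
  have hder := hp.mem_derived hX hVX hcomm (c := ⟨c₀, hAX hc₀A⟩) (hAV hc₀A)
  have hQQ : c₀ ∈ ⁅Q, Q⁆ := mem_derived_sylow hcen (Subtype.ext hc₀q) hder hQ (hAQ hc₀A)
  have hfix : ∀ w ∈ Q, w ∈ centralizer (V : Set G) →
      ∃ y ∈ locY V X, ∃ z ∈ centralizer (X : Set G), w = y * z := by
    intro w hw hwV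
    obtain ⟨y, hy, z, hz, e⟩ := hp.quot_step hX hVX hAX hA1 hXA hVA ih (c := w)
      ⟨by rw [hcomm]; exact hQ.1 hw, hwV⟩
    exact ⟨y, hy, z, le_centralizer_iff.1 hAX' hz, e⟩
  have := hp.qgroup_step hX hVX hQ.1 hQ.isPGroup hVQ hfix Q le_rfl le_normalizer hVQ
    ⟨hQQ, hAV hc₀A⟩
  rw [← hAeq] at hz
  exact (zpowers_le.2 this) hz

/-- The four lemma. -/
theorem FourPair.four_lemma (hp : FourPair a b) (hX : Odd (Nat.card X))
    (hVX : four a b ≤ normalizer (X : Set G)) {W : Subgroup G}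
    (hW : ∀ k ∈ four a b, k ≠ 1 →
      ⁅X ⊓ centralizer {k}, four a b⁆ ⊓ centralizer (four a b : Set G) ≤ W) :
    ⁅X, four a b⁆ ⊓ centralizer (four a b : Set G) ≤ W :=
  (four_lemma_aux (Nat.card X + 1) G X a b (Nat.lt_succ_self _) hp hX hVX).trans
    (iSup_le fun k => hW k k.2.1 k.2.2)

end CfsgLib.ProdFusion
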