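import Cfsg.Agent.Lib.ProdFusion.Four
import Mathlib.GroupTheory.Abelianization.Defs

/-!
# Product fusion: the norm map of a four group
-/

set_option autoImplicit false
set_option linter.style.haveILetI false
set_option linter.unusedSectionVars false

namespace CfsgLib.ProdFusion

open Subgroup
open scoped commutatorElement
open CfsgLib.Coprime (conjBy mem_conjBy conjBy_eq_self_iff card_conjBy)

universe u

variable {G : Type u} [Group G] [Finite G] {a b : G} {M : Subgroup G}

/-- Conjugation by an element of the four group on an invariant subgroup. -/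
def cj (hVM : four a b ≤ normalizer (M : Set G)) (v : four a b) : M →* M where
  toFun m := ⟨(v : G) * m * (v : G)⁻¹, (mem_normalizer_iff.1 (hVM v.2) _).1 m.2⟩
  map_one' := Subtype.ext (by simp)
  map_mul' m n := Subtype.ext (by simp [mul_assoc])

@[simp] theorem cj_coe (hVM : four a b ≤ normalizer (M : Set G)) (v : four a b) (m : M) :
    (cj hVM v m : G) = (v : G) * m * (v : G)⁻¹ := rfl

theorem cj_mul (hVM : four a b ≤ normalizer (M : Set G)) (v w : four a b) (m : M) :
    cj hVM v (cj hVM w m) = cj hVM (v * w) m := Subtype.ext (by simp [mul_assoc])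

theorem cj_one (hVM : four a b ≤ normalizer (M : Set G)) (m : M) : cj hVM 1 m = m :=
  Subtype.ext (by simp)

variable {C : Type*} [CommGroup C] (hVM : four a b ≤ normalizer (M : Set G)) (π : M →* C)

/-- The element `a` of the four group. -/
def fa (a b : G) : four a b := ⟨a, left_mem_four a b⟩

/-- The element `b` of the four group. -/
def fb (a b : G) : four a b := ⟨b, right_mem_four a b⟩

/-- The product of the four conjugates, in an abelian image. -/
def eta : M →* C :=
  π * π.comp (cj hVM (fa a b)) * π.comp (cj hVM (fb a b)) *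
    π.comp (cj hVM (fa a b * fb a b))

theorem eta_apply (m : M) : eta hVM π m = π m * π (cj hVM (fa a b) m) *
    π (cj hVM (fb a b) m) * π (cj hVM (fa a b * fb a b) m) := rfl

theorem eta_of_fixed {m : M} (h : ∀ v, π (cj hVM v m) = π m) :
    eta hVM π m = π m * π m * (π m * π m) := by
  rw [eta_apply, h, h, h]; exact mul_assoc _ _ _

variable (hp : FourPair a b)
include hp

theorem FourPair.sub_cases (v : four a b) :
    v = 1 ∨ v = fa a b ∨ v = fb a b ∨ v = fa a b * fb a b := by
  rcases hp.mem_four v.2 with h | h | h | h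
  exacts [Or.inl (Subtype.ext h), Or.inr (Or.inl (Subtype.ext h)),
    Or.inr (Or.inr (Or.inl (Subtype.ext h))), Or.inr (Or.inr (Or.inr (Subtype.ext h)))]

theorem FourPair.sub_rels : fa a b * fa a b = 1 ∧ fb a b * fb a b = 1 ∧
    fb a b * fa a b = fa a b * fb a b ∧ fa a b * (fa a b * fb a b) = fb a b ∧
    fb a b * (fa a b * fb a b) = fa a b ∧
    (fa a b * fb a b) * (fa a b * fb a b) = 1 ∧
    fa a b * fb a b * fa a b = fb a b ∧ fa a b * fb a b * fb a b = fa a b := by
  have h1 : fa a b * fa a b = 1 := Subtype.ext (hp.mul_self (left_mem_four a b))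
  have h2 : fb a b * fb a b = 1 := Subtype.ext (hp.mul_self (right_mem_four a b))
  have h3 : fb a b * fa a b = fa a b * fb a b := Subtype.ext hp.comm.symm.eq
  have h4 : fa a b * (fa a b * fb a b) = fb a b := by rw [← mul_assoc, h1, one_mul]
  have h8 : fa a b * fb a b * fb a b = fa a b := by rw [mul_assoc, h2, mul_one]
  have h5 : fb a b * (fa a b * fb a b) = fa a b := by rw [← mul_assoc, h3, h8]
  exact ⟨h1, h2, h3, h4, h5, Subtype.ext (hp.mul_self (fa a b * fb a b).2),
    by rw [mul_assoc, h3, h4], h8⟩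

theorem FourPair.eta_conj (v : four a b) (m : M) :
    eta hVM π (cj hVM v m) = eta hVM π m := by
  obtain ⟨h1, h2, h3, h4, h5, h6, h7, h8⟩ := hp.sub_rels
  rcases hp.sub_cases v with rfl | rfl | rfl | rfl <;>
    simp only [eta_apply, cj_mul, cj_one, h1, h2, h3, h4, h5, h6, h7, h8] <;> ac_rfl

theorem FourPair.eta_of_inverted (hker : ∀ (w : four a b) (m : M), π m = 1 → π (cj hVM w m) = 1)
    {m : M} {v : four a b} (hv1 : v ≠ 1) (h : π (cj hVM v m) = (π m)⁻¹) : eta hVM π m = 1 := by
  have hw : ∀ w, π (cj hVM (w * v) m) = (π (cj hVM w m))⁻¹ := by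
    intro w
    have h0 : π (cj hVM v m * m) = 1 := by rw [map_mul, h, inv_mul_cancel]
    have := hker w _ h0
    rw [map_mul, map_mul, cj_mul] at this
    exact eq_inv_of_mul_eq_one_left this
  obtain ⟨h1, h2, h3, h4, h5, h6, h7, h8⟩ := hp.sub_rels
  have e0 := hw 1
  rw [one_mul, cj_one] at e0
  rcases hp.sub_cases v with rfl | rfl | rfl | rfl
  · exact absurd rfl hv1
  · rw [eta_apply, e0, show π (cj hVM (fa a b * fb a b) m) = (π (cj hVM (fb a b) m))⁻¹ by
      rw [← h3]; exact hw _]
    group
  · rw [eta_apply, e0, show π (cj hVM (fa a b * fb a b) m) = (π (cj hVM (fa a b) m))⁻¹ from hw _]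
    rw [mul_right_comm (π m), mul_inv_cancel, one_mul, mul_inv_cancel]
  · rw [eta_apply, e0, show π (cj hVM (fb a b) m) = (π (cj hVM (fa a b) m))⁻¹ by
      rw [← hw, h4]]
    rw [mul_assoc (π m) (π (cj hVM (fa a b) m)), mul_inv_cancel, mul_one, mul_inv_cancel]

end CfsgLib.ProdFusion
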