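import Cfsg.Agent.Lib.ProdFusion.Pairs
import Cfsg.Agent.Lib.SolvSignalizer.Main

/-!
# Product fusion: the signalizer functor and its completion
-/

set_option autoImplicit false
set_option linter.style.haveILetI false
set_option linter.unusedSectionVars false

namespace CfsgLib.ProdFusion

open Subgroup
open scoped commutatorElement
open CfsgLib.Coprime (conjBy mem_conjBy conjBy_eq_self_iff card_conjBy)

universe u

variable {G : Type u} [Group G] [Finite G]

theorem mem_normalizer_TT {x y g : G} (hx : Commute g x) (hy : Commute g y) :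
    g ∈ normalizer (TT x y : Set G) :=
  conjBy_eq_self_iff.1 (by
    rw [conjBy_TT, hx.eq, mul_inv_cancel_right, hy.eq, mul_inv_cancel_right])

theorem mem_normalizer_UU {x y g : G} (hx : Commute g x) (hy : Commute g y) :
    g ∈ normalizer (UU x y : Set G) :=
  conjBy_eq_self_iff.1 (by
    rw [conjBy_UU, hx.eq, mul_inv_cancel_right, hy.eq, mul_inv_cancel_right])

/-- The subgroup attached to a commuting pair. -/
def Wp (x y : G) : Subgroup G := TT x y ⊔ TT y x ⊔ UU x y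

theorem conjBy_Wp (g x y : G) : conjBy g (Wp x y) = Wp (g * x * g⁻¹) (g * y * g⁻¹) := by
  rw [Wp, conjBy_sup, conjBy_sup, conjBy_TT, conjBy_TT, conjBy_UU]; rfl

variable {P : Sylow 2 G} {S₁ S₂ : Subgroup G} (h : Setup P S₁ S₂)
include h

theorem Setup.balance_left {x x' y : G} (hx : IsX S₁ x) (hx' : IsX S₁ x') (hy : IsX S₂ y)
    (hxx' : Commute x x') (hxy : Commute x y) (hx'y : Commute x' y) :
    TT x y ⊓ cen x' ≤ TT x' y := by
  intro u hu
  have hyn : y ∈ normalizer ((TT x y ⊓ cen x' : Subgroup G) : Set G) :=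
    CfsgLib.Coprime.inf_le_normalizer (A := zpowers y)
      (zpowers_le.2 (mem_normalizer_TT hxy.symm (Commute.refl y)))
      (zpowers_le.2 (mem_normalizer_cen hx'y.symm)) (mem_zpowers y)
  have hle : TT x y ≤ OC (cen x) := TT_le hxy.symm
  obtain ⟨w, hw, f, hf, rfl, hinv, hcf, -, -⟩ :=
    exists_decomp (odd_of_le (inf_le_left.trans hle) (odd_card_OC _)) hy.mul_self hyn hu
  have hH : cen x' ≠ ⊤ := h.centralizer_ne_top hx'
  have hxH : x ∈ cen x' := mem_cen.2 hxx'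
  refine mul_mem (mem_sup_left (mem_commutator_of_inverted (odd_card_OC _) ?_ hinv)) (mem_sup_right ?_)
  · exact mem_of_sq_mem' (odd_card_OC (cen x)) (hle hw.1) hinv
      (h.kills_right hH hx.1 hxH (fun v hvH hv => h.ind _ hH x hxH v hvH hx hv) (hle hw.1) hw.2
        (mem_cen.2 hx'y.symm) hy)
  · have hd : f ∈ Delta x y := h.TT_inf hx hy hxy ▸ ⟨hf.1, mem_cen.2 hcf.symm⟩
    exact ⟨h.delta_le hx hy hH hxx' hx'y.symm hd.1 hd.2 (mem_cen.1 hf.2), hd.2⟩

theorem Setup.balance_cross {x y : G} (hx : IsX S₁ x) (hy : IsX S₂ y) (hxy : Commute x y) :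
    TT x y ⊓ cen y ≤ TT y x := by
  rw [h.TT_inf hx hy hxy, Delta_comm]
  exact le_sup_right

theorem Setup.balance_left_mul {x x' y' : G} (hx : IsX S₁ x) (hx' : IsX S₁ x') (hy' : IsX S₂ y')
    (hxx' : Commute x x') (hxy' : Commute x y') (hx'y' : Commute x' y') :
    TT x y' ⊓ cen (x' * y') ≤ UU x' y' := by
  intro u hu
  have hle : TT x y' ≤ OC (cen x) := TT_le hxy'.symm
  have hn : x' ∈ normalizer ((TT x y' ⊓ cen (x' * y') : Subgroup G) : Set G) :=
    CfsgLib.Coprime.inf_le_normalizer (A := zpowers x')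
      (zpowers_le.2 (mem_normalizer_TT hxx'.symm hx'y'))
      (zpowers_le.2 (mem_normalizer_cen ((Commute.refl x').mul_right hx'y'))) (mem_zpowers x')
  have hodd := odd_of_le (inf_le_left.trans hle : TT x y' ⊓ cen (x' * y') ≤ _) (odd_card_OC (cen x))
  obtain ⟨w, hw, f, hf, rfl, hinv, hcf, -, -⟩ := exists_decomp hodd hx'.mul_self hn hu
  refine mul_mem (mem_sup_left (mem_commutator_of_inverted (odd_card_OC _) ?_ hinv)) (mem_sup_right ?_)
  · exact h.inverted_mem (h.centralizer_mul_ne_top hx' hy' hx'y') hx' hy' hx'y'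
      (mem_cen.2 ((Commute.refl x').mul_right hx'y'))
      (mem_cen.2 (hx'y'.symm.mul_right (Commute.refl y'))) hw.2
      (odd_orderOf_of_mem hodd hw) (mem_cen.1 hw.2) hinv
  · have h1 : f ∈ TT x' y' := h.balance_left hx hx' hy' hxx' hxy' hx'y' ⟨hf.1, mem_cen.2 hcf.symm⟩
    have h2 : f ∈ cen y' := by
      refine mem_cen.2 ?_
      have := hcf.symm.mul_right (mem_cen.1 hf.2)
      rwa [← mul_assoc, hx'.mul_self, one_mul] at this
    exact h.TT_inf hx' hy' hx'y' ▸ ⟨h1, h2⟩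

theorem Setup.balance_mul_left {x x' y : G} (hx : IsX S₁ x) (hx' : IsX S₁ x') (hy : IsX S₂ y)
    (hxx' : Commute x x') (hxy : Commute x y) (hx'y : Commute x' y) :
    UU x y ⊓ cen x' ≤ TT x' y := by
  intro u hu
  have hle : UU x y ≤ OC (cen (x * y)) := h.UU_le hx hy hxy
  have hn : y ∈ normalizer ((UU x y ⊓ cen x' : Subgroup G) : Set G) :=
    CfsgLib.Coprime.inf_le_normalizer (A := zpowers y)
      (zpowers_le.2 (mem_normalizer_UU hxy.symm (Commute.refl y)))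
      (zpowers_le.2 (mem_normalizer_cen hx'y.symm)) (mem_zpowers y)
  have hodd := odd_of_le (inf_le_left.trans hle : UU x y ⊓ cen x' ≤ _) (odd_card_OC (cen (x * y)))
  obtain ⟨w, hw, f, hf, rfl, hinv, hcf, -, -⟩ := exists_decomp hodd hy.mul_self hn hu
  refine mul_mem (mem_sup_left (mem_commutator_of_inverted (odd_card_OC _) ?_ hinv)) (mem_sup_right ?_)
  · exact h.symm.inverted_mem (h.centralizer_ne_top hx') hy hx hxy.symm (mem_cen.2 hx'y.symm)
      (mem_cen.2 hxx') hw.2 (odd_orderOf_of_mem hodd hw)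
      (by rw [← hxy.eq]; exact commute_of_mem_OC (hle hw.1)) hinv
  · have hfx : f ∈ cen x := by
      refine mem_cen.2 ?_
      have := (commute_of_mem_OC (hle hf.1)).mul_right hcf.symm
      rwa [mul_assoc, hy.mul_self, mul_one] at this
    have hd : f ∈ Delta x y := h.UU_inf hx hy hxy ▸ ⟨hf.1, hfx⟩
    exact ⟨h.delta_le hx hy (h.centralizer_ne_top hx') hxx' hx'y.symm hd.1 hd.2 (mem_cen.1 hf.2),
      hd.2⟩

theorem Setup.balance_mul {x x' y y' : G} (hx : IsX S₁ x) (hx' : IsX S₁ x') (hy : IsX S₂ y)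
    (hy' : IsX S₂ y') (hxx' : Commute x x') (hyy' : Commute y y') (hxy : Commute x y)
    (hxy' : Commute x y') (hx'y : Commute x' y) (hx'y' : Commute x' y') :
    UU x y ⊓ cen (x' * y') ≤ UU x' y' := by
  intro u hu
  have hle : UU x y ≤ OC (cen (x * y)) := h.UU_le hx hy hxy
  have hn : x' ∈ normalizer ((UU x y ⊓ cen (x' * y') : Subgroup G) : Set G) :=
    CfsgLib.Coprime.inf_le_normalizer (A := zpowers x')
      (zpowers_le.2 (mem_normalizer_UU hxx'.symm hx'y))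
      (zpowers_le.2 (mem_normalizer_cen ((Commute.refl x').mul_right hx'y'))) (mem_zpowers x')
  have hodd := odd_of_le (inf_le_left.trans hle : UU x y ⊓ cen (x' * y') ≤ _)
    (odd_card_OC (cen (x * y)))
  obtain ⟨w, hw, f, hf, rfl, hinv, hcf, -, -⟩ := exists_decomp hodd hx'.mul_self hn hu
  refine mul_mem (mem_sup_left (mem_commutator_of_inverted (odd_card_OC _) ?_ hinv)) (mem_sup_right ?_)
  · exact h.inverted_mem (h.centralizer_mul_ne_top hx' hy' hx'y') hx' hy' hx'y'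
      (mem_cen.2 ((Commute.refl x').mul_right hx'y'))
      (mem_cen.2 (hx'y'.symm.mul_right (Commute.refl y'))) hw.2
      (odd_orderOf_of_mem hodd hw) (mem_cen.1 hw.2) hinv
  · have h1 : f ∈ TT x' y :=
      h.balance_mul_left hx hx' hy hxx' hxy hx'y ⟨hf.1, mem_cen.2 hcf.symm⟩
    rw [h.TT_eq hx' hy' hy hx'y' hx'y hyy'.symm] at h1
    have h2 : f ∈ cen y' := by
      refine mem_cen.2 ?_
      have := hcf.symm.mul_right (mem_cen.1 hf.2)
      rwa [← mul_assoc, hx'.mul_self, one_mul] at this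
    exact h.TT_inf hx' hy' hx'y' ▸ ⟨h1, h2⟩

omit h in
/-- Two commuting four groups, one in each class. -/
structure Quad (S₁ S₂ : Subgroup G) (x x' y y' : G) : Prop where
  left : FourPair x x'
  right : FourPair y y'
  hx : IsX S₁ x
  hx' : IsX S₁ x'
  hy : IsX S₂ y
  hy' : IsX S₂ y'
  cross : ∀ a ∈ four x x', ∀ b ∈ four y y', Commute a b

theorem Setup.exists_complete_quad {x x' y y' : G} (q : Quad S₁ S₂ x x' y y') :
    ∃ W : Subgroup G, Odd (Nat.card W) ∧ ∀ a ∈ four x x', a ≠ 1 → ∀ b ∈ four y y', b ≠ 1 →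
      W = Wp a b := by
  classical
  set V₁ := four x x' with hV₁
  set V₂ := four y y' with hV₂
  have hX₁ : ∀ a ∈ V₁, a ≠ 1 → IsX S₁ a := fun a => h.isX_four q.hx q.hx' q.left
  have hX₂ : ∀ b ∈ V₂, b ≠ 1 → IsX S₂ b := fun b => h.symm.isX_four q.hy q.hy' q.right
  have hmeet : ∀ a ∈ V₁, a ∈ V₂ → a = 1 := fun a ha hb => by
    by_contra h1; exact h.not_both (hX₁ a ha h1) (hX₂ a hb h1)
  set E := V₁ ⊔ V₂ with hE
  have hn : V₂ ≤ normalizer (V₁ : Set G) := fun b hb => centralizer_le_normalizer _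
    (mem_centralizer_iff.2 fun a ha => q.cross a ha b hb)
  have hdec : ∀ e ∈ E, ∃ a ∈ V₁, ∃ b ∈ V₂, a * b = e := fun e he =>
    CfsgLib.Coprime.mem_sup_exists hn he
  have huniq : ∀ a ∈ V₁, ∀ b ∈ V₂, ∀ a' ∈ V₁, ∀ b' ∈ V₂, a * b = a' * b' → a = a' ∧ b = b' := by
    intro a ha b hb a' ha' b' hb' e
    have e' : a'⁻¹ * a = b' * b⁻¹ := by
      rw [eq_mul_inv_iff_mul_eq, mul_assoc, e, inv_mul_cancel_left]
    have h1 := hmeet (a'⁻¹ * a) (mul_mem (Subgroup.inv_mem _ ha') ha)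
      (e' ▸ mul_mem hb' (Subgroup.inv_mem _ hb))
    exact ⟨(inv_mul_eq_one.1 h1).symm, (mul_inv_eq_one.1 (e' ▸ h1)).symm⟩
  have hcommE : ∀ e ∈ E, ∀ a, (a ∈ V₁ ∨ a ∈ V₂) → Commute e a := by
    intro e he a ha
    obtain ⟨u, hu, v, hv, rfl⟩ := hdec e he
    rcases ha with ha | ha
    · exact (q.left.comm_four hu ha).mul_left (q.cross a ha v hv).symm
    · exact (q.cross u hu a ha).mul_left (q.right.comm_four hv ha)
  let θ : G → Subgroup G := fun e =>
    if e ∈ V₁ then TT e y else if e ∈ V₂ then TT e x else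
      if h' : ∃ a ∈ V₁, ∃ b ∈ V₂, a * b = e then UU h'.choose h'.choose_spec.2.choose else ⊥
  have θl : ∀ a ∈ V₁, a ≠ 1 → ∀ b ∈ V₂, b ≠ 1 → θ a = TT a b := by
    intro a ha ha1 b hb hb1
    simp only [θ, if_pos ha]
    exact h.TT_eq (hX₁ a ha ha1) (hX₂ b hb hb1) q.hy (q.cross a ha b hb)
      (q.cross a ha y (left_mem_four y y')) (q.right.comm_four hb (left_mem_four y y'))
  have θr : ∀ a ∈ V₁, a ≠ 1 → ∀ b ∈ V₂, b ≠ 1 → θ b = TT b a := by
    intro a ha ha1 b hb hb1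
    simp only [θ, if_neg fun hb' => hb1 (hmeet b hb' hb), if_pos hb]
    exact h.symm.TT_eq (hX₂ b hb hb1) (hX₁ a ha ha1) q.hx (q.cross a ha b hb).symm
      (q.cross x (left_mem_four x x') b hb).symm (q.left.comm_four ha (left_mem_four x x'))
  have θm : ∀ a ∈ V₁, a ≠ 1 → ∀ b ∈ V₂, b ≠ 1 → θ (a * b) = UU a b := by
    intro a ha ha1 b hb hb1
    have n1 : a * b ∉ V₁ := fun hh => hb1 (hmeet b (by simpa using mul_mem (Subgroup.inv_mem _ ha) hh) hb)
    have n2 : a * b ∉ V₂ := fun hh => ha1 (hmeet a ha (by simpa using mul_mem hh (Subgroup.inv_mem _ hb)))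
    have hex : ∃ a' ∈ V₁, ∃ b' ∈ V₂, a' * b' = a * b := ⟨a, ha, b, hb, rfl⟩
    simp only [θ, if_neg n1, if_neg n2, dif_pos hex]
    obtain ⟨h1, h2⟩ := huniq _ hex.choose_spec.1 _ hex.choose_spec.2.choose_spec.1 a ha b hb
      hex.choose_spec.2.choose_spec.2
    exact congrArg₂ UU h1 h2
  have hx1 := q.hx.ne_one
  have hy1 := q.hy.ne_one
  -- every nontrivial element of `E` is of one of three kinds
  have hkind : ∀ e ∈ E, e ≠ 1 → (e ∈ V₁) ∨ (e ∈ V₂) ∨
      ∃ a ∈ V₁, a ≠ 1 ∧ ∃ b ∈ V₂, b ≠ 1 ∧ e = a * b := by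
    intro e he he1
    obtain ⟨a, ha, b, hb, rfl⟩ := hdec e he
    by_cases ha1 : a = 1
    · rw [ha1, one_mul]; exact Or.inr (Or.inl hb)
    by_cases hb1 : b = 1
    · rw [hb1, mul_one]; exact Or.inl ha
    exact Or.inr (Or.inr ⟨a, ha, ha1, b, hb, hb1, rfl⟩)
  have hxV := left_mem_four x x'
  have hyV := left_mem_four y y'
  have hθle : ∀ e ∈ E, e ≠ 1 → θ e ≤ OC (cen e) := by
    intro e he he1
    rcases hkind e he he1 with h1 | h1 | ⟨a, ha, ha1, b, hb, hb1, rfl⟩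
    · rw [θl e h1 he1 y hyV hy1]; exact TT_le (q.cross e h1 y hyV).symm
    · rw [θr x hxV hx1 e h1 he1]; exact TT_le (q.cross x hxV e h1)
    · rw [θm a ha ha1 b hb hb1]
      exact h.UU_le (hX₁ a ha ha1) (hX₂ b hb hb1) (q.cross a ha b hb)
  have hinvar : ∀ e ∈ E, e ≠ 1 → E ≤ normalizer (θ e : Set G) := by
    intro e he he1 g hg
    rcases hkind e he he1 with h1 | h1 | ⟨a, ha, ha1, b, hb, hb1, rfl⟩
    · rw [θl e h1 he1 y hyV hy1]
      exact mem_normalizer_TT (hcommE g hg e (Or.inl h1)) (hcommE g hg y (Or.inr hyV))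
    · rw [θr x hxV hx1 e h1 he1]
      exact mem_normalizer_TT (hcommE g hg e (Or.inr h1)) (hcommE g hg x (Or.inl hxV))
    · rw [θm a ha ha1 b hb hb1]
      exact mem_normalizer_UU (hcommE g hg a (Or.inl ha)) (hcommE g hg b (Or.inr hb))
  have hbal : ∀ e ∈ E, e ≠ 1 → ∀ e' ∈ E, e' ≠ 1 → θ e ⊓ centralizer {e'} ≤ θ e' := by
    intro e he he1 e' he' he'1
    rcases hkind e he he1 with h1 | h1 | ⟨a, ha, ha1, b, hb, hb1, rfl⟩ <;>
      rcases hkind e' he' he'1 with h2 | h2 | ⟨a', ha', ha'1, b', hb', hb'1, rfl⟩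
    · rw [θl e h1 he1 y hyV hy1, θl e' h2 he'1 y hyV hy1]
      exact h.balance_left (hX₁ e h1 he1) (hX₁ e' h2 he'1) q.hy (q.left.comm_four h1 h2)
        (q.cross e h1 y hyV) (q.cross e' h2 y hyV)
    · rw [θl e h1 he1 e' h2 he'1, θr e h1 he1 e' h2 he'1]
      exact h.balance_cross (hX₁ e h1 he1) (hX₂ e' h2 he'1) (q.cross e h1 e' h2)
    · rw [θl e h1 he1 b' hb' hb'1, θm a' ha' ha'1 b' hb' hb'1]
      exact h.balance_left_mul (hX₁ e h1 he1) (hX₁ a' ha' ha'1) (hX₂ b' hb' hb'1)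
        (q.left.comm_four h1 ha') (q.cross e h1 b' hb') (q.cross a' ha' b' hb')
    · rw [θr e' h2 he'1 e h1 he1, θl e' h2 he'1 e h1 he1]
      exact h.symm.balance_cross (hX₂ e h1 he1) (hX₁ e' h2 he'1) (q.cross e' h2 e h1).symm
    · rw [θr x hxV hx1 e h1 he1, θr x hxV hx1 e' h2 he'1]
      exact h.symm.balance_left (hX₂ e h1 he1) (hX₂ e' h2 he'1) q.hx (q.right.comm_four h1 h2)
        (q.cross x hxV e h1).symm (q.cross x hxV e' h2).symm
    · rw [θr a' ha' ha'1 e h1 he1, θm a' ha' ha'1 b' hb' hb'1,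
        UU_comm (hX₁ a' ha' ha'1).mul_self (hX₂ b' hb' hb'1).mul_self (q.cross a' ha' b' hb'),
        (q.cross a' ha' b' hb').eq]
      exact h.symm.balance_left_mul (hX₂ e h1 he1) (hX₂ b' hb' hb'1) (hX₁ a' ha' ha'1)
        (q.right.comm_four h1 hb') (q.cross a' ha' e h1).symm (q.cross a' ha' b' hb').symm
    · rw [θm a ha ha1 b hb hb1, θl e' h2 he'1 b hb hb1]
      exact h.balance_mul_left (hX₁ a ha ha1) (hX₁ e' h2 he'1) (hX₂ b hb hb1)
        (q.left.comm_four ha h2) (q.cross a ha b hb) (q.cross e' h2 b hb)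
    · rw [θm a ha ha1 b hb hb1, θr a ha ha1 e' h2 he'1,
        UU_comm (hX₁ a ha ha1).mul_self (hX₂ b hb hb1).mul_self (q.cross a ha b hb)]
      exact h.symm.balance_mul_left (hX₂ b hb hb1) (hX₂ e' h2 he'1) (hX₁ a ha ha1)
        (q.right.comm_four hb h2) (q.cross a ha b hb).symm (q.cross a ha e' h2).symm
    · rw [θm a ha ha1 b hb hb1, θm a' ha' ha'1 b' hb' hb'1]
      exact h.balance_mul (hX₁ a ha ha1) (hX₁ a' ha' ha'1) (hX₂ b hb hb1) (hX₂ b' hb' hb'1)
        (q.left.comm_four ha ha') (q.right.comm_four hb hb') (q.cross a ha b hb)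
        (q.cross a ha b' hb') (q.cross a' ha' b hb) (q.cross a' ha' b' hb')
  have hA : Cfsg.IsElementaryAbelian 2 E := by
    have hc : ∀ e ∈ E, ∀ e' ∈ E, Commute e e' := by
      intro e he e' he'
      obtain ⟨a, ha, b, hb, rfl⟩ := hdec e' he'
      exact (hcommE e he a (Or.inl ha)).mul_right (hcommE e he b (Or.inr hb))
    refine ⟨⟨⟨fun e e' => Subtype.ext (hc e e.2 e' e'.2).eq⟩⟩, fun e he => ?_⟩
    obtain ⟨a, ha, b, hb, rfl⟩ := hdec e he
    rw [pow_two]
    exact commute_mul_self_eq_one (q.left.mul_self ha) (q.right.mul_self hb) (q.cross a ha b hb)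
  have hA3 : 2 ^ 3 ≤ Nat.card E := by
    obtain ⟨k, hk⟩ := card_dvd_of_le (le_sup_left : V₁ ≤ E)
    have h0 : 0 < Nat.card E := Nat.card_pos
    have hne : V₁ ≠ E := fun e => hy1 (hmeet y (e ▸ mem_sup_right hyV) hyV)
    have hlt : Nat.card V₁ < Nat.card E := lt_of_le_of_ne (card_le_of_le le_sup_left)
      fun e => hne (eq_of_le_of_card_ge le_sup_left e.ge)
    rw [q.left.card_four] at hk hlt
    rw [hk] at hlt ⊢
    omega
  have hnd : ∀ e ∈ E, e ≠ 1 → Odd (Nat.card (θ e)) := fun e he he1 =>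
    odd_of_le (hθle e he he1) (odd_card_OC _)
  have hθ : Cfsg.IsSolvableSignalizerFunctor 2 E θ := by
    refine ⟨⟨fun e he he1 => (hθle e he he1).trans (OC_le _), fun e he he1 hdvd => ?_,
      fun e he he1 g hg u hu => (mem_normalizer_iff.1 (hinvar e he he1 hg) u).1 hu, hbal⟩,
      fun e he he1 => CfsgLib.FT.isSolvable_of_odd _ (hnd e he he1)⟩
    exact Nat.not_even_iff_odd.2 (hnd e he he1) (even_iff_two_dvd.2 hdvd)
  obtain ⟨W, hW, hθW⟩ := CfsgLib.SolvSignalizer.exists_complete hA hA3 hθ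
  obtain ⟨hWs, hW2, hWA, hWC⟩ := hW
  have hWodd : Odd (Nat.card W) := Nat.not_even_iff_odd.1 fun e => hW2 (even_iff_two_dvd.1 e)
  refine ⟨W, hWodd, fun a ha ha1 b hb hb1 => ?_⟩
  have hab : a * b ≠ 1 := fun e => hb1
    ((huniq a ha b hb 1 (one_mem _) 1 (one_mem _) (by rw [e, one_mul])).2)
  have haE : a ∈ E := mem_sup_left ha
  have hbE : b ∈ E := mem_sup_right hb
  refine le_antisymm ?_ ?_
  · have hp : FourPair a b := ⟨(hX₁ a ha ha1).1, (hX₂ b hb hb1).1,
      h.ne (hX₁ a ha ha1) (hX₂ b hb hb1), q.cross a ha b hb⟩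
    haveI := hp.isMulCommutative
    refine CfsgLib.Coprime.le_of_centralizers_le hp.not_isCyclic ?_ (hp.coprime hWodd) ?_
    · exact (four_le haE hbE).trans fun g hg =>
        mem_of_forall_conj_mem fun u hu => hWA g hg u hu
    · intro k hk hk1
      rcases hp.mem_four hk with rfl | rfl | rfl | rfl
      · exact absurd rfl hk1
      · refine (hWC k haE hk1).trans ?_
        rw [θl k ha hk1 b hb hb1]; exact le_sup_left.trans le_sup_left
      · refine (hWC k hbE hk1).trans ?_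
        rw [θr a ha ha1 k hb hk1]; exact le_sup_right.trans le_sup_left
      · refine (hWC _ (mul_mem haE hbE) hk1).trans ?_
        rw [θm a ha ha1 b hb hb1]; exact le_sup_right
  · refine sup_le (sup_le ?_ ?_) ?_
    · rw [← θl a ha ha1 b hb hb1]; exact hθW a haE ha1
    · rw [← θr a ha ha1 b hb hb1]; exact hθW b hbE hb1
    · rw [← θm a ha ha1 b hb hb1]; exact hθW _ (mul_mem haE hbE) hab

theorem Setup.exists_conj_triple {x x' y : G} (hx : IsX S₁ x) (hx' : IsX S₁ x') (hy : IsX S₂ y)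
    (hxx' : Commute x x') (hxy : Commute x y) (hx'y : Commute x' y) :
    ∃ g : G, g * x * g⁻¹ ∈ S₁ ∧ g * x' * g⁻¹ ∈ S₁ ∧ g * y * g⁻¹ ∈ S₂ := by
  obtain ⟨g, hg⟩ := CfsgLib.Invol.exists_conj_le_sylow (p := 2)
    (isPGroup_closure_of_commute (s := ({x, x', y} : Set G))
      (by rintro t (rfl | rfl | rfl); exacts [hx.mul_self, hx'.mul_self, hy.mul_self])
      (by
        rintro t (rfl | rfl | rfl) u (rfl | rfl | rfl)
        exacts [.refl _, hxx', hxy, hxx'.symm, .refl _, hx'y, hxy.symm, hx'y.symm, .refl _])) P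
  exact ⟨g, h.mem_left hx (hg x (subset_closure (by simp))),
    h.mem_left hx' (hg x' (subset_closure (by simp))),
    h.symm.mem_left hy (hg y (subset_closure (by simp)))⟩

theorem Setup.exists_quad {x x' y : G} (hx : IsX S₁ x) (hx' : IsX S₁ x') (hy : IsX S₂ y)
    (hne : x ≠ x') (hxx' : Commute x x') (hxy : Commute x y) (hx'y : Commute x' y) :
    ∃ y', Quad S₁ S₂ x x' y y' := by
  obtain ⟨g, h1, h2, h3⟩ := h.exists_conj_triple hx hx' hy hxx' hxy hx'y
  obtain ⟨t, htS, ht, htne, htc⟩ := h.symm.exists_partner_P (hy.conj g) (h.sc2.1 h3)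
  refine ⟨g⁻¹ * t * g, ⟨hx.1, hx'.1, hne, hxx'⟩,
    ⟨hy.1, (by simpa using (ht.conj g⁻¹).1), fun e => htne ?_, ?_⟩, hx, hx', hy,
    by simpa using ht.conj g⁻¹, ?_⟩
  · rw [e]; group
  · show y * (g⁻¹ * t * g) = g⁻¹ * t * g * y
    simpa [mul_assoc] using congrArg (fun u => g⁻¹ * u * g) htc.eq
  · intro a ha b hb
    have ha' : g * a * g⁻¹ ∈ S₁ := by
      have : four x x' ≤ S₁.comap (MulAut.conj g).toMonoidHom := four_le h1 h2
      exact this ha
    have hb' : g * b * g⁻¹ ∈ S₂ := by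
      have h4 : g * (g⁻¹ * t * g) * g⁻¹ ∈ S₂ := by
        rw [show g * (g⁻¹ * t * g) * g⁻¹ = t by group]; exact htS
      have : four y (g⁻¹ * t * g) ≤ S₂.comap (MulAut.conj g).toMonoidHom := four_le h3 h4
      exact this hb
    show a * b = b * a
    simpa [mul_assoc] using congrArg (fun u => g⁻¹ * u * g) (h.comm _ ha' _ hb')

/-- The subgroup of a pair does not change along commuting members of the first class. -/
theorem Setup.Wp_eq_left {x x' y : G} (hx : IsX S₁ x) (hx' : IsX S₁ x') (hy : IsX S₂ y)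
    (hxx' : Commute x x') (hxy : Commute x y) (hx'y : Commute x' y) : Wp x y = Wp x' y := by
  by_cases e : x = x'
  · rw [e]
  obtain ⟨y', q⟩ := h.exists_quad hx hx' hy e hxx' hxy hx'y
  obtain ⟨W, -, hW⟩ := h.exists_complete_quad q
  rw [← hW x (left_mem_four x x') hx.ne_one y (left_mem_four y y') hy.ne_one,
    ← hW x' (right_mem_four x x') hx'.ne_one y (left_mem_four y y') hy.ne_one]

theorem Setup.odd_Wp {x y : G} (hx : IsX S₁ x) (hy : IsX S₂ y) (hxy : Commute x y) :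
    Odd (Nat.card (Wp x y)) := by
  obtain ⟨x', hx', hne, hxx', hx'y⟩ := h.exists_partner hx hy hxy
  obtain ⟨y', q⟩ := h.exists_quad hx hx' hy hne.symm hxx' hxy hx'y
  obtain ⟨W, hodd, hW⟩ := h.exists_complete_quad q
  rwa [← hW x (left_mem_four x x') hx.ne_one y (left_mem_four y y') hy.ne_one]

theorem Setup.Wp_comm {x y : G} (hx : IsX S₁ x) (hy : IsX S₂ y) (hxy : Commute x y) :
    Wp y x = Wp x y := by
  rw [Wp, Wp, UU_comm hx.mul_self hy.mul_self hxy, sup_comm (TT y x) (TT x y)]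

theorem Setup.Wp_eq_right {x y y' : G} (hx : IsX S₁ x) (hy : IsX S₂ y) (hy' : IsX S₂ y')
    (hyy' : Commute y y') (hxy : Commute x y) (hxy' : Commute x y') : Wp x y = Wp x y' := by
  rw [← h.Wp_comm hx hy hxy, ← h.Wp_comm hx hy' hxy']
  exact h.symm.Wp_eq_left hy hy' hx hyy' hxy.symm hxy'.symm

/-- All commuting pairs inside `P` give the same subgroup. -/
theorem Setup.Wp_eq_of_mem {x y x₀ y₀ : G} (hx : IsX S₁ x) (hy : IsX S₂ y) (hx₀ : IsX S₁ x₀)
    (hy₀ : IsX S₂ y₀) (hxP : x ∈ P) (hyP : y ∈ P) (hxP₀ : x₀ ∈ P) (hyP₀ : y₀ ∈ P) :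
    Wp x y = Wp x₀ y₀ := by
  obtain ⟨z, hzS, hz, hzc⟩ := h.exists_central hx
  obtain ⟨w, hwS, hw, hwc⟩ := h.symm.exists_central hy
  suffices H : ∀ a b, IsX S₁ a → IsX S₂ b → a ∈ P → b ∈ P → Wp a b = Wp z w by
    rw [H x y hx hy hxP hyP, H x₀ y₀ hx₀ hy₀ hxP₀ hyP₀]
  intro a b ha hb haP hbP
  have hab : Commute a b := h.comm a (h.mem_left' ha haP) b (h.symm.mem_left' hb hbP)
  rw [h.Wp_eq_left ha hz hb (hzc a haP).symm hab (hzc b hbP),
    h.Wp_eq_right hz hb hw (hwc b hbP).symm (hzc b hbP) (hzc w (h.sc2.1 hwS))]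

end CfsgLib.ProdFusion
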