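import Cfsg.Agent.Lib.ProdFusion.Ctx
import Cfsg.Agent.Lib.ProdFusion.OddQuot

/-!
# Product fusion: what happens in proper subgroups
-/

set_option autoImplicit false
set_option linter.style.haveILetI false
set_option linter.unusedSectionVars false

namespace CfsgLib.ProdFusion

open Subgroup
open scoped commutatorElement

universe u

variable {G : Type u} [Group G] [Finite G]

instance instNormalPPrimeCore {K : Type u} [Group K] : (Cfsg.pPrimeCore 2 K).Normal :=
  haveI := CfsgLib.Coprime.pPrimeCore_characteristic (G := K) 2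
  inferInstance

theorem odd_core {K : Type u} [Group K] [Finite K] : Odd (Nat.card (Cfsg.pPrimeCore 2 K)) :=
  odd_iff_coprime.2 (CfsgLib.Coprime.pPrimeCore_coprime Nat.prime_two)

/-- Reduction modulo the odd core. -/
def red (H : Subgroup G) : H →* H ⧸ Cfsg.pPrimeCore 2 H :=
  QuotientGroup.mk' _

theorem red_eq_one {H : Subgroup G} {u : H} : red H u = 1 ↔ (u : G) ∈ OC H := by
  rw [red, QuotientGroup.mk'_apply, QuotientGroup.eq_one_iff, OC]
  exact ⟨fun h => ⟨u, h, rfl⟩, fun ⟨w, hw, e⟩ => (Subtype.ext e : w = u) ▸ hw⟩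

theorem red_commute_iff {H : Subgroup G} {u v : H} :
    Commute (red H u) (red H v) ↔ ⁅(u : G), (v : G)⁆ ∈ OC H := by
  rw [← commutatorElement_eq_one_iff_commute, ← map_commutatorElement, red_eq_one]
  rfl

theorem red_odd_bot (H : Subgroup G) : Cfsg.pPrimeCore 2 (H ⧸ Cfsg.pPrimeCore 2 H) = ⊥ :=
  CfsgLib.Coprime.pPrimeCore_quotient_eq_bot Nat.prime_two

theorem eq_bot_of_normalizes {Q : Type u} [Group Q] [Finite Q] (hQ : Cfsg.pPrimeCore 2 Q = ⊥)
    {N K : Subgroup Q} [N.Normal] (hKN : K ≤ N) (hodd : Odd (Nat.card K))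
    (hNK : N ≤ normalizer (K : Set Q)) : K = ⊥ := by
  refine eq_bot_iff.2 ((le_OC hKN hodd hNK).trans ((OC_le_OC le_top ?_).trans ?_))
  · exact fun g _ => normalizer_eq_top N ▸ mem_top g
  · rw [OC_top_eq_bot hQ]

/-- The image of `O(C_H(s))`. -/
def locK (H : Subgroup G) (s : G) : Subgroup (H ⧸ Cfsg.pPrimeCore 2 H) :=
  ((OC (centralizer ({s} : Set G))).subgroupOf H).map (red H)

theorem odd_locK (H : Subgroup G) (s : G) : Odd (Nat.card (locK H s)) := by
  refine Odd.of_dvd_nat ?_ (CfsgLib.Coprime.card_map_dvd_card (red H) _)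
  rw [← card_map_of_injective H.subtype_injective, subgroupOf_map_subtype]
  exact odd_of_le inf_le_left (odd_card_OC _)

theorem locK_le_centralizer (H : Subgroup G) {s : H} :
    locK H (s : G) ≤ centralizer {red H s} := by
  rintro _ ⟨u, hu, rfl⟩
  refine mem_centralizer_singleton_iff.2 ?_
  rw [← map_mul, ← map_mul]
  exact congrArg _ (Subtype.ext (mem_centralizer_singleton_iff.1 (OC_le _ hu)))

theorem centralizer_le_normalizer_locK (H : Subgroup G) {s : H} (hs : orderOf (s : G) = 2) :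
    centralizer {red H s} ≤ normalizer (locK H (s : G) : Set (H ⧸ Cfsg.pPrimeCore 2 H)) := by
  intro k hk
  obtain ⟨k, rfl⟩ := QuotientGroup.mk'_surjective _ k
  obtain ⟨o, ho, hc⟩ := exists_commute_of_commute_mk (N := Cfsg.pPrimeCore 2 H) odd_core
    (s := s) (k := k) (by rwa [← orderOf_coe]) (mem_centralizer_singleton_iff.1 hk)
  have hc' : Commute ((o * k : H) : G) (s : G) := congrArg Subtype.val hc.eq
  have hn := mem_normalizer_OC_centralizer hc'
  refine mem_of_forall_conj_mem ?_
  rintro _ ⟨u, hu, rfl⟩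
  refine ⟨(o * k) * u * (o * k)⁻¹, (mem_normalizer_iff.1 hn _).1 hu, ?_⟩
  have ho1 : red H o = 1 := (QuotientGroup.eq_one_iff (N := Cfsg.pPrimeCore 2 H) o).2 ho
  rw [map_mul, map_mul, map_mul, map_inv, map_mul, ho1, one_mul]
  rfl

variable {P : Sylow 2 G} {S₁ S₂ : Subgroup G} (h : Setup P S₁ S₂) {H : Subgroup G} (hH : H ≠ ⊤)
include h hH

theorem Setup.red_commute {x y : H} (hx : IsX S₁ (x : G)) (hy : IsX S₂ (y : G)) :
    Commute (red H x) (red H y) :=
  red_commute_iff.2 (h.ind H hH x x.2 y y.2 hx hy)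

/-- An element commuting with `x y` modulo the odd core commutes with both. -/
theorem Setup.split {x y d : G} (hx : IsX S₁ x) (hy : IsX S₂ y) (hxy : Commute x y) (hxH : x ∈ H)
    (hyH : y ∈ H) (hdH : d ∈ H) (hd : ⁅d, x * y⁆ ∈ OC H) :
    ⁅d, x⁆ ∈ OC H ∧ ⁅d, y⁆ ∈ OC H := by
  set X : H := ⟨x, hxH⟩ with hX
  set Y : H := ⟨y, hyH⟩ with hY
  set D : H := ⟨d, hdH⟩ with hD
  have hXo : orderOf X = 2 := by rw [← orderOf_coe]; exact hx.1
  have hYo : orderOf Y = 2 := by rw [← orderOf_coe]; exact hy.1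
  set X' := D * X * D⁻¹ with hX'
  set Y' := D * Y * D⁻¹ with hY'
  have hx' : IsX S₁ (X' : G) := hx.conj d
  have hy' : IsX S₂ (Y' : G) := hy.conj d
  have c1 : Commute (red H X) (red H Y') := h.red_commute hH hx hy'
  have c2 : Commute (red H X') (red H Y) := h.red_commute hH hx' hy
  have c3 : Commute (red H X) (red H Y) := h.red_commute hH hx hy
  have hXX : red H X * red H X = 1 := by
    rw [← map_mul, show X * X = 1 from Subtype.ext hx.mul_self, map_one]
  have hYY : red H Y * red H Y = 1 := by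
    rw [← map_mul, show Y * Y = 1 from Subtype.ext hy.mul_self, map_one]
  have hYY' : red H Y' * red H Y' = 1 := by
    rw [← map_mul, show Y' * Y' = 1 from Subtype.ext hy'.mul_self, map_one]
  have hXX' : red H X' * red H X' = 1 := by
    rw [← map_mul, show X' * X' = 1 from Subtype.ext hx'.mul_self, map_one]
  have e1 : red H X' * red H Y' = red H X * red H Y := by
    have : Commute (red H D) (red H (X * Y)) := red_commute_iff.2 hd
    rw [map_mul] at this
    rw [hX', hY']; simp only [map_mul, map_inv]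
    calc red H D * red H X * (red H D)⁻¹ * (red H D * red H Y * (red H D)⁻¹)
        = (red H D * (red H X * red H Y)) * (red H D)⁻¹ := by group
      _ = red H X * red H Y := by rw [this.eq, mul_inv_cancel_right]
  have e2 : red H X * red H X' = red H Y * red H Y' := by
    calc red H X * red H X' = red H X * (red H X' * red H Y') * red H Y' := by
          rw [mul_assoc (red H X), mul_assoc (red H X') (red H Y'), hYY', mul_one]
      _ = red H Y * red H Y' := by rw [e1, ← mul_assoc (red H X), hXX, one_mul]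
  have c4 : Commute (red H X) (red H X') := by
    have hce : Commute (red H X) (red H X * red H X') := e2.symm ▸ c3.mul_right c1
    show red H X * red H X' = red H X' * red H X
    calc red H X * red H X' = (red H X * red H X' * red H X) * red H X := by
          rw [mul_assoc (red H X * red H X'), hXX, mul_one]
      _ = (red H X * (red H X * red H X')) * red H X := by rw [hce.eq]
      _ = red H X' * red H X := by rw [← mul_assoc (red H X) (red H X), hXX, one_mul]
  obtain ⟨o, ho, hc⟩ := exists_conj_commute (N := Cfsg.pPrimeCore 2 H) odd_core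
    (u := X') (v := X) (by rw [← orderOf_coe]; exact hx'.1) hXo c4.symm
  have ho1 : red H o = 1 := (QuotientGroup.eq_one_iff (N := Cfsg.pPrimeCore 2 H) o).2 ho
  obtain ⟨o', ho', hc'⟩ := exists_conj_commute (N := Cfsg.pPrimeCore 2 H) odd_core
    (u := Y') (v := Y) (by rw [← orderOf_coe]; exact hy'.1) hYo
    (by
      show red H Y' * red H Y = red H Y * red H Y'
      have hinv : (red H Y * red H Y') * (red H Y * red H Y') = 1 := by
        rw [← e2]; exact commute_mul_self_eq_one hXX hXX' c4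
      calc red H Y' * red H Y
          = red H Y * red H Y * (red H Y' * red H Y) * (red H Y' * red H Y') := by
            rw [hYY, hYY', one_mul, mul_one]
        _ = red H Y * ((red H Y * red H Y') * (red H Y * red H Y')) * red H Y' := by group
        _ = red H Y * red H Y' := by rw [hinv, mul_one])
  have ho1' : red H o' = 1 := (QuotientGroup.eq_one_iff (N := Cfsg.pPrimeCore 2 H) o').2 ho'
  set X₁ := o * X' * o⁻¹ with hX₁
  set Y₁ := o' * Y' * o'⁻¹ with hY₁
  have hx₁ : IsX S₁ (X₁ : G) := hx'.conj o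
  have hy₁ : IsX S₂ (Y₁ : G) := hy'.conj o'
  have rX : red H X₁ = red H X' := by simp [hX₁, ho1]
  have rY : red H Y₁ = red H Y' := by simp [hY₁, ho1']
  have key : X = X₁ := by
    by_contra hne
    have hz : IsX S₁ ((X * X₁ : H) : G) := h.mul_mem_left hx hx₁
      (show Commute (x : G) (X₁ : G) from (congrArg Subtype.val hc.symm.eq))
      (fun e => hne (Subtype.ext e))
    have hzo : orderOf (X * X₁) = 2 := by rw [← orderOf_coe]; exact hz.1
    have hne' : Y ≠ Y₁ := by
      intro e
      refine mk'_ne_one_of_invol (N := Cfsg.pPrimeCore 2 H) odd_core hzo ?_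
      show red H (X * X₁) = 1
      rw [map_mul, rX, e2, ← rY, ← e, hYY]
    have hw : IsX S₂ ((Y * Y₁ : H) : G) := h.symm.mul_mem_left hy hy₁
      (show Commute (y : G) (Y₁ : G) from (congrArg Subtype.val hc'.symm.eq))
      (fun e => hne' (Subtype.ext e))
    obtain ⟨o₂, -, e⟩ := exists_conj_of_congr (N := Cfsg.pPrimeCore 2 H) odd_core
      (u := X * X₁) (v := Y * Y₁) hzo (by rw [← orderOf_coe]; exact hw.1)
      (show red H (X * X₁) = red H (Y * Y₁) by rw [map_mul (red H) X, map_mul (red H) Y, rX, rY, e2])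
    exact h.not_both (x := ((Y * Y₁ : H) : G)) (congrArg Subtype.val e ▸ hz.conj (o₂ : G)) hw
  have hd1 : Commute (red H D) (red H X) := by
    have e3 : red H X' = red H X := by rw [← rX, ← key]
    rw [hX', map_mul, map_mul, map_inv] at e3
    exact mul_inv_eq_iff_eq_mul.1 e3
  refine ⟨red_commute_iff.1 hd1, (red_commute_iff (u := D) (v := Y)).1 ?_⟩
  have : Commute (red H D) (red H (X * Y)) := red_commute_iff.2 hd
  rw [map_mul] at this
  have h2 := hd1.mul_right this
  rwa [← mul_assoc, hXX, one_mul] at h2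

/-- `O(C(s)) ∩ H` centralizes the second class modulo the odd core when `s` does. -/
theorem Setup.kills_right {s u y : G} (hso : orderOf s = 2) (hsH : s ∈ H)
    (hs : ∀ y' ∈ H, IsX S₂ y' → ⁅s, y'⁆ ∈ OC H) (hu : u ∈ OC (centralizer ({s} : Set G)))
    (huH : u ∈ H) (hyH : y ∈ H) (hy : IsX S₂ y) : ⁅u, y⁆ ∈ OC H := by
  set S : H := ⟨s, hsH⟩
  set Y : H := ⟨y, hyH⟩
  set U : H := ⟨u, huH⟩
  set K := locK H s with hK
  set N₂ := Subgroup.normalClosure ({red H Y} : Set (H ⧸ Cfsg.pPrimeCore 2 H)) with hN₂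
  have hN2C : N₂ ≤ centralizer {red H S} := by
    refine (closure_le _).2 ?_
    intro t ht
    obtain ⟨w, hw, hwt⟩ := Group.mem_conjugatesOfSet_iff.1 ht
    rw [Set.mem_singleton_iff] at hw
    subst hw
    obtain ⟨c, hc⟩ := isConj_iff.1 hwt
    obtain ⟨c, rfl⟩ := QuotientGroup.mk'_surjective _ c
    subst hc
    refine mem_centralizer_singleton_iff.2 (Commute.symm ?_).eq
    have := (red_commute_iff (u := S) (v := c * Y * c⁻¹)).2
      (hs _ (c * Y * c⁻¹).2 (hy.conj (c : G)))
    rwa [map_mul, map_mul, map_inv] at this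
  have hnorm : N₂ ≤ normalizer (K : Set (H ⧸ Cfsg.pPrimeCore 2 H)) :=
    hN2C.trans (centralizer_le_normalizer_locK H (s := S) hso)
  have hbot : N₂ ⊓ K = ⊥ := eq_bot_of_normalizes (red_odd_bot H) inf_le_left
    (odd_of_le inf_le_right (odd_locK H s))
    (CfsgLib.Coprime.inf_le_normalizer le_normalizer hnorm)
  refine (red_commute_iff (u := U) (v := Y)).1 (commutatorElement_eq_one_iff_commute.1 ?_)
  have hY : red H Y ∈ N₂ := subset_normalClosure rfl
  have hU : red H U ∈ K := ⟨U, hu, rfl⟩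
  rw [← mem_bot, ← hbot]
  refine ⟨?_, commutatorElement_mem (hnorm hY) hU⟩
  show red H U * red H Y * (red H U)⁻¹ * (red H Y)⁻¹ ∈ N₂
  exact mul_mem (normalClosure_normal.conj_mem _ hY _) (Subgroup.inv_mem _ hY)

/-- An element of `O(C(s)) ∩ H` centralizing both classes modulo the odd core lies in the odd
core. -/
theorem Setup.mem_OC_of_kills {s u : G} (hso : orderOf s = 2) (hsH : s ∈ H)
    (hs : s ∈ Subgroup.closure {x : G | x ∈ H ∧ (IsX S₁ x ∨ IsX S₂ x)})
    (hu : u ∈ OC (centralizer ({s} : Set G))) (huH : u ∈ H)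
    (h1 : ∀ x ∈ H, IsX S₁ x → ⁅u, x⁆ ∈ OC H) (h2 : ∀ y ∈ H, IsX S₂ y → ⁅u, y⁆ ∈ OC H) :
    u ∈ OC H := by
  set S : H := ⟨s, hsH⟩
  set U : H := ⟨u, huH⟩
  set K := locK H s with hK
  set T : Set (H ⧸ Cfsg.pPrimeCore 2 H) :=
    red H '' {x : H | IsX S₁ (x : G) ∨ IsX S₂ (x : G)} with hT
  set J := centralizer T with hJ
  haveI : J.Normal := ⟨fun j hj g => by
    refine mem_centralizer_iff.2 ?_
    rintro _ ⟨x, hx, rfl⟩
    obtain ⟨g, rfl⟩ := QuotientGroup.mk'_surjective _ g
    have hx' : g⁻¹ * x * g ∈ {x : H | IsX S₁ (x : G) ∨ IsX S₂ (x : G)} :=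
      hx.imp (fun hx => by simpa using hx.conj (g : G)⁻¹) (fun hx => by simpa using hx.conj (g : G)⁻¹)
    have e := mem_centralizer_iff.1 hj _ ⟨_, hx', rfl⟩
    rw [map_mul, map_mul, map_inv] at e
    show red H x * (red H g * j * (red H g)⁻¹) = red H g * j * (red H g)⁻¹ * red H x
    calc red H x * (red H g * j * (red H g)⁻¹)
        = red H g * ((red H g)⁻¹ * red H x * red H g * j) * (red H g)⁻¹ := by group
      _ = _ := by rw [e]; group⟩
  have hJC : J ≤ centralizer {red H S} := by
    have hle : Subgroup.closure {x : G | x ∈ H ∧ (IsX S₁ x ∨ IsX S₂ x)} ≤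
        ((Subgroup.closure T).comap (red H)).map H.subtype :=
      (closure_le _).2 fun x hx => ⟨⟨x, hx.1⟩, subset_closure ⟨_, hx.2, rfl⟩, rfl⟩
    obtain ⟨w, hw, e⟩ := hle hs
    intro j hj
    refine mem_centralizer_singleton_iff.2 ?_
    rw [← show w = S from Subtype.ext e]
    have : Subgroup.closure T ≤ centralizer {j} := (closure_le _).2 fun t ht =>
      mem_centralizer_singleton_iff.2 (mem_centralizer_iff.1 hj t ht)
    exact (mem_centralizer_singleton_iff.1 (this hw)).symm
  have hnorm : J ≤ normalizer (K : Set (H ⧸ Cfsg.pPrimeCore 2 H)) :=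
    hJC.trans (centralizer_le_normalizer_locK H (s := S) hso)
  have hbot : J ⊓ K = ⊥ := eq_bot_of_normalizes (red_odd_bot H) inf_le_left
    (odd_of_le inf_le_right (odd_locK H s))
    (CfsgLib.Coprime.inf_le_normalizer le_normalizer hnorm)
  refine (red_eq_one (u := U)).1 (mem_bot.1 (hbot ▸ ⟨?_, U, hu, rfl⟩))
  refine mem_centralizer_iff.2 ?_
  rintro _ ⟨x, hx, rfl⟩
  refine ((red_commute_iff (u := U) (v := x)).2 ?_).eq.symm
  exact hx.elim (h1 _ x.2) (h2 _ x.2)

omit hH in
/-- `O(C x) ∩ O(C y) ∩ C(t) ≤ O(C t)`. -/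
theorem Setup.delta_le {x y t u : G} (hx : IsX S₁ x) (hy : IsX S₂ y)
    (ht : centralizer ({t} : Set G) ≠ ⊤) (hxt : Commute x t) (hyt : Commute y t)
    (hux : u ∈ OC (centralizer ({x} : Set G))) (huy : u ∈ OC (centralizer ({y} : Set G)))
    (hut : Commute u t) : u ∈ OC (centralizer ({t} : Set G)) := by
  have hxH : x ∈ centralizer ({t} : Set G) := mem_centralizer_singleton_iff.2 hxt.eq
  have hyH : y ∈ centralizer ({t} : Set G) := mem_centralizer_singleton_iff.2 hyt.eq
  have huH : u ∈ centralizer ({t} : Set G) := mem_centralizer_singleton_iff.2 hut.eq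
  exact h.mem_OC_of_kills ht hx.1 hxH (subset_closure ⟨hxH, Or.inl hx⟩) hux huH
    (fun x' hx'H hx' => h.symm.kills_right ht hy.1 hyH
      (fun x'' hx''H hx'' => h.symm.ind _ ht y hyH x'' hx''H hy hx'') huy huH hx'H hx')
    (fun y' hy'H hy' => h.kills_right ht hx.1 hxH
      (fun y'' hy''H hy'' => h.ind _ ht x hxH y'' hy''H hx hy'') hux huH hy'H hy')

/-- An odd element centralizing `x y` and inverted by `x` lies in the odd core. -/
theorem Setup.inverted_mem {x y u : G} (hx : IsX S₁ x) (hy : IsX S₂ y) (hxy : Commute x y)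
    (hxH : x ∈ H) (hyH : y ∈ H) (huH : u ∈ H) (hodd : Odd (orderOf u))
    (hc : Commute u (x * y)) (hinv : x * u * x⁻¹ = u⁻¹) : u ∈ OC H := by
  have hd : ⁅u, x * y⁆ ∈ OC H := by
    rw [commutatorElement_eq_one_iff_commute.2 hc]; exact one_mem _
  exact mem_of_sq_mem' (K := zpowers u) (by rwa [Nat.card_zpowers]) (mem_zpowers u) hinv
    (h.split hH hx hy hxy hxH hyH huH hd).1

end CfsgLib.ProdFusion
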