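import Cfsg.Agent.Lib.ProdFusion.Local
import Cfsg.Agent.Lib.ProdFusion.FourMain

/-!
# Product fusion: the signalizers of a commuting pair
-/

set_option autoImplicit false
set_option linter.style.haveILetI false
set_option linter.unusedSectionVars false

namespace CfsgLib.ProdFusion

open Subgroup
open scoped commutatorElement
open CfsgLib.Coprime (conjBy mem_conjBy conjBy_eq_self_iff card_conjBy)

universe u

variable {G : Type u} [Group G]

/-- The centralizer of an element. -/
abbrev cen (x : G) : Subgroup G := centralizer ({x} : Set G)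

theorem mem_cen {x u : G} : u ∈ cen x ↔ Commute u x :=
  mem_centralizer_singleton_iff

theorem commute_of_mem_OC {x u : G} (hu : u ∈ OC (cen x)) : Commute u x := mem_cen.1 (OC_le _ hu)

theorem mem_normalizer_cen {x y : G} (h : Commute y x) : y ∈ normalizer (cen x : Set G) :=
  le_normalizer (mem_cen.2 h)

/-- The intersection of the odd cores of the centralizers of a pair. -/
def Delta (x y : G) : Subgroup G := OC (cen x) ⊓ OC (cen y)

/-- The signalizer at `x` of the pair `(x, y)`. -/
def TT (x y : G) : Subgroup G := ⁅OC (cen x), zpowers y⁆ ⊔ Delta x y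

/-- The signalizer at `x y` of the pair `(x, y)`. -/
def UU (x y : G) : Subgroup G := ⁅OC (cen (x * y)), zpowers x⁆ ⊔ Delta x y

theorem Delta_comm (x y : G) : Delta x y = Delta y x := inf_comm _ _

theorem commutator_zpowers_congr [Finite G] {x y : G} (hx : x * x = 1) (hy : y * y = 1)
    (hxy : Commute x y) :
    ⁅OC (cen (x * y)), zpowers x⁆ = ⁅OC (cen (x * y)), zpowers y⁆ := by
  have key : ∀ {x y : G}, x * x = 1 → Commute x y →
      ∀ n ∈ OC (cen (x * y)), ⁅n, x⁆ = ⁅n, y⁆ := by
    intro x y hx hxy n hn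
    have hc : Commute n (x * y) := commute_of_mem_OC hn
    have hy' : y = x * (x * y) := by rw [← mul_assoc, hx, one_mul]
    have e : x * (x * y) * n⁻¹ = x * n⁻¹ * (x * y) := by
      rw [mul_assoc, hc.symm.inv_right.eq, ← mul_assoc]
    conv_rhs => rw [hy']
    rw [commutatorElement_def, commutatorElement_def,
      show n * (x * (x * y)) * n⁻¹ * (x * (x * y))⁻¹ =
        n * (x * (x * y) * n⁻¹) * (x * y)⁻¹ * x⁻¹ by group, e]
    group
  refine le_antisymm (commutator_le.2 fun n hn g hg => ?_) (commutator_le.2 fun n hn g hg => ?_)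
  · rcases mem_zpowers_invol hx hg with rfl | rfl
    · simp
    · rw [key hx hxy n hn]; exact commutator_mem_commutator hn (mem_zpowers y)
  · rcases mem_zpowers_invol hy hg with rfl | rfl
    · simp
    · rw [← key hx hxy n hn]; exact commutator_mem_commutator hn (mem_zpowers x)

section conjugation

variable [Finite G] (g : G)

theorem conjBy_cen (x : G) : conjBy g (cen x) = cen (g * x * g⁻¹) := by
  ext u
  rw [mem_conjBy, mem_cen, mem_cen]
  constructor
  · intro h
    show u * (g * x * g⁻¹) = g * x * g⁻¹ * u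
    simpa [mul_assoc] using congrArg (fun t => g * t * g⁻¹) h.eq
  · intro h
    show g⁻¹ * u * g * x = x * (g⁻¹ * u * g)
    simpa [mul_assoc] using congrArg (fun t => g⁻¹ * t * g) h.eq

theorem conjBy_zpowers (x : G) : conjBy g (zpowers x) = zpowers (g * x * g⁻¹) :=
  MonoidHom.map_zpowers _ x

theorem conjBy_inf (A B : Subgroup G) : conjBy g (A ⊓ B) = conjBy g A ⊓ conjBy g B :=
  Subgroup.map_inf _ _ _ (MulEquiv.injective _)

theorem conjBy_sup (A B : Subgroup G) : conjBy g (A ⊔ B) = conjBy g A ⊔ conjBy g B :=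
  Subgroup.map_sup _ _ _

theorem conjBy_commutator (A B : Subgroup G) :
    conjBy g ⁅A, B⁆ = ⁅conjBy g A, conjBy g B⁆ :=
  map_commutator _ _ _

theorem conjBy_Delta (x y : G) : conjBy g (Delta x y) = Delta (g * x * g⁻¹) (g * y * g⁻¹) := by
  rw [Delta, conjBy_inf, conjBy_OC, conjBy_OC, conjBy_cen, conjBy_cen]; rfl

theorem conjBy_TT (x y : G) : conjBy g (TT x y) = TT (g * x * g⁻¹) (g * y * g⁻¹) := by
  rw [TT, conjBy_sup, conjBy_commutator, conjBy_Delta, conjBy_OC, conjBy_cen, conjBy_zpowers]; rfl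

theorem conjBy_UU (x y : G) : conjBy g (UU x y) = UU (g * x * g⁻¹) (g * y * g⁻¹) := by
  rw [UU, conjBy_sup, conjBy_commutator, conjBy_Delta, conjBy_OC, conjBy_cen, conjBy_zpowers, UU,
    show g * (x * y) * g⁻¹ = g * x * g⁻¹ * (g * y * g⁻¹) by group]

end conjugation

variable [Finite G] {P : Sylow 2 G} {S₁ S₂ : Subgroup G}

theorem UU_comm {x y : G} (hx : x * x = 1) (hy : y * y = 1) (hxy : Commute x y) :
    UU x y = UU y x := by
  rw [UU, UU, commutator_zpowers_congr hx hy hxy, hxy.eq, Delta_comm]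

theorem TT_le {x y : G} (hxy : Commute y x) : TT x y ≤ OC (cen x) :=
  sup_le (commutator_zpowers_le_self (mem_normalizer_OC_centralizer hxy)) inf_le_left

theorem Delta_normalizes_comm {x y : G} :
    Delta x y ≤ normalizer ((⁅OC (cen x), zpowers y⁆ : Subgroup G) : Set G) :=
  inf_le_left.trans (normalizer_commutator_ge_left _ _)

variable (h : Setup P S₁ S₂)
include h

theorem Setup.isX_four {x x' k : G} (hx : IsX S₁ x) (hx' : IsX S₁ x') (hp : FourPair x x')
    (hk : k ∈ four x x') (hk1 : k ≠ 1) : IsX S₁ k := by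
  rcases hp.mem_four hk with rfl | rfl | rfl | rfl
  exacts [absurd rfl hk1, hx, hx', h.mul_mem_left hx hx' hp.comm hp.ne]

theorem Setup.four_le_cen {x x' y : G} (hxy : Commute x y) (hx'y : Commute x' y) :
    four x x' ≤ cen y := four_le (mem_cen.2 hxy) (mem_cen.2 hx'y)

/-- `[O(C x), y] ∩ C(y) ≤ O(C y)`. -/
theorem Setup.comm_fixed {x y : G} (hx : IsX S₁ x) (hy : IsX S₂ y) (hxy : Commute x y) :
    ⁅OC (cen x), zpowers y⁆ ⊓ cen y ≤ OC (cen y) := by
  obtain ⟨y', hy', hne, hyy', hy'x⟩ := h.symm.exists_partner hy hx hxy.symm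
  have hp : FourPair y y' := ⟨hy.1, hy'.1, hne.symm, hyy'⟩
  set X := OC (cen x) with hX
  have hVC : four y y' ≤ cen x := h.four_le_cen hxy.symm hy'x
  have hVX : four y y' ≤ normalizer (X : Set G) := hVC.trans (le_normalizer_OC_self _)
  have hXodd : Odd (Nat.card X) := odd_card_OC _
  have hcy : cen y ≠ ⊤ := h.symm.centralizer_ne_top hy
  have hW : ⁅X, four y y'⁆ ⊓ centralizer (four y y' : Set G) ≤ OC (cen y) := by
    refine hp.four_lemma hXodd hVX fun k hk hk1 u hu => ?_
    have hkX : IsX S₂ k := h.symm.isX_four hy hy' hp hk hk1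
    have hxk : Commute x k := (mem_cen.1 (hVC hk)).symm
    have hle : ⁅X ⊓ cen k, four y y'⁆ ≤ OC (cen k) := by
      rw [commutator_le]
      intro n hn v hv
      by_cases hv1 : v = 1
      · rw [hv1, commutatorElement_one_right]; exact one_mem _
      exact h.kills_right (h.symm.centralizer_ne_top hkX) hx.1 (mem_cen.2 hxk)
        (fun y'' hy''H hy'' => h.ind _ (h.symm.centralizer_ne_top hkX) x (mem_cen.2 hxk) y''
          hy''H hx hy'') hn.1 hn.2 (mem_cen.2 (hp.comm_four hv hk))
        (h.symm.isX_four hy hy' hp hv hv1)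
    have huX : u ∈ X := by
      refine (commutator_le.2 fun n hn v hv => ?_ : ⁅X, four y y'⁆ ≤ X)
        (commutator_mono inf_le_left le_rfl hu.1)
      exact commutatorElement_mem (hVX hv) hn
    exact h.delta_le hx hkX hcy hxy (hp.comm_four hk (left_mem_four y y')) huX (hle hu.1)
      (commute_of_mem_centralizer_four hu.2 (left_mem_four y y')).symm
  intro u hu
  have hy'n : y' ∈ normalizer ((⁅X, zpowers y⁆ ⊓ cen y : Subgroup G) : Set G) :=
    CfsgLib.Coprime.inf_le_normalizer (A := zpowers y')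
      (fun g hg => normalizer_commutator (zpowers_le.2 (hVX (right_mem_four y y')) hg)
        (normalizer_zpowers_of_commute (by
          rcases mem_zpowers_invol hy'.mul_self hg with rfl | rfl
          exacts [Commute.one_left y, hyy'.symm])))
      (zpowers_le.2 (mem_normalizer_cen hyy'.symm)) (mem_zpowers y')
  have hKodd : Odd (Nat.card (⁅X, zpowers y⁆ ⊓ cen y : Subgroup G)) :=
    odd_of_le (inf_le_left.trans (commutator_zpowers_le_self (hVX (left_mem_four y y')))) hXodd
  obtain ⟨w, hw, f, hf, rfl, hinv, hcf, -, -⟩ := exists_decomp hKodd hy'.mul_self hy'n hu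
  refine mul_mem ?_ (hW ⟨commutator_mono le_rfl (zpowers_le.2 (left_mem_four y y')) hf.1,
    mem_centralizer_four (mem_cen.1 hf.2).symm hcf⟩)
  refine mem_of_sq_mem' hKodd hw hinv (h.kills_right hcy hx.1 (mem_cen.2 hxy)
    (fun y'' hy''H hy'' => h.ind _ hcy x (mem_cen.2 hxy) y'' hy''H hx hy'')
    (commutator_zpowers_le_self (hVX (left_mem_four y y')) hw.1) hw.2 (mem_cen.2 hyy'.symm) hy')

/-- `[O(C(x y)), x] ∩ C(x) ≤ O(C x)`. -/
theorem Setup.comm_fixed_mul {x y : G} (hx : IsX S₁ x) (hy : IsX S₂ y) (hxy : Commute x y) :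
    ⁅OC (cen (x * y)), zpowers x⁆ ⊓ cen x ≤ OC (cen x) := by
  obtain ⟨x', hx', hne, hxx', hx'y⟩ := h.exists_partner hx hy hxy
  have hp : FourPair x x' := ⟨hx.1, hx'.1, hne.symm, hxx'⟩
  set z := x * y with hz
  set X := OC (cen z) with hX
  have hxz : Commute x z := (Commute.refl x).mul_right hxy
  have hVC : four x x' ≤ cen z := h.four_le_cen hxz (hxx'.symm.mul_right hx'y)
  have hVy : four x x' ≤ cen y := h.four_le_cen hxy hx'y
  have hVX : four x x' ≤ normalizer (X : Set G) := hVC.trans (le_normalizer_OC_self _)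
  have hXodd : Odd (Nat.card X) := odd_card_OC _
  have hcx : cen x ≠ ⊤ := h.centralizer_ne_top hx
  have hkill : ∀ n ∈ X, n ∈ cen x → ∀ x'' ∈ cen x, IsX S₁ x'' → ⁅n, x''⁆ ∈ OC (cen x) := by
    intro n hnX hnx x'' hx''H hx''
    refine h.symm.kills_right hcx (h.orderOf_mul hx hy hxy) (mem_cen.2 hxz.symm)
      (fun w hwH hw => ?_) hnX hnx hx''H hx''
    refine (red_commute_iff (u := (⟨z, mem_cen.2 hxz.symm⟩ : cen x))
      (v := (⟨w, hwH⟩ : cen x))).1 ?_
    rw [show (⟨z, mem_cen.2 hxz.symm⟩ : cen x) =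
      ⟨x, mem_cen.2 (Commute.refl x)⟩ * ⟨y, mem_cen.2 hxy.symm⟩ from rfl, map_mul]
    refine Commute.mul_left ((show Commute (⟨x, _⟩ : cen x) ⟨w, hwH⟩ from
      Subtype.ext (mem_cen.1 hwH).symm.eq).map _) ?_
    exact red_commute_iff.2 (h.symm.ind _ hcx y (mem_cen.2 hxy.symm) w hwH hy hw)
  have hW : ⁅X, four x x'⁆ ⊓ centralizer (four x x' : Set G) ≤ OC (cen x) := by
    refine hp.four_lemma hXodd hVX fun k hk hk1 u hu => ?_
    have hkX : IsX S₁ k := h.isX_four hx hx' hp hk hk1
    have hky : Commute k y := mem_cen.1 (hVy hk)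
    have hle : ⁅X ⊓ cen k, four x x'⁆ ≤ OC (cen k) := by
      rw [commutator_le]
      intro n hn v hv
      by_cases hv1 : v = 1
      · rw [hv1, commutatorElement_one_right]; exact one_mem _
      by_cases hkx : k = x
      · subst hkx
        exact hkill n hn.1 hn.2 v (mem_cen.2 (hp.comm_four hv hk))
          (h.isX_four hx hx' hp hv hv1)
      have hx0 : ⁅n, x⁆ ∈ OC (cen k) := by
        have hnx : ⁅n, x⁆ ∈ X ⊓ cen k := commutatorElement_mem
          (hp.four_le_normalizer_centralizer hk hVX (left_mem_four x x')) hn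
        exact h.inverted_mem (h.centralizer_ne_top hkX) hx hy hxy
          (mem_cen.2 (hp.comm_four (left_mem_four x x') hk)) (mem_cen.2 hky.symm) hnx.2
          (odd_orderOf_of_mem hXodd hnx.1) (commute_of_mem_OC hnx.1)
          (commutator_inverted hx.mul_self)
      obtain ⟨v₀, -, -, -, hall⟩ := hp.exists_other (left_mem_four x x') hx.ne_one
      have hnk : ⁅n, k⁆ = 1 := commutatorElement_eq_one_iff_commute.2 (mem_cen.1 hn.2)
      have hprod : v = x ∨ v = k ∨ v = x * k := by
        rcases hall v hv with e | e | e | e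
        · exact absurd e hv1
        · exact Or.inl e
        all_goals
          rcases hall k hk with e' | e' | e' | e'
          · exact absurd e' hk1
          · exact absurd e' hkx
          · first
              | exact Or.inr (Or.inl (e.trans e'.symm))
              | exact Or.inr (Or.inr (by rw [e, e']))
          · first
              | exact Or.inr (Or.inl (e.trans e'.symm))
              | exact Or.inr (Or.inr (by rw [e, e', ← mul_assoc, hx.mul_self, one_mul]))
      rcases hprod with rfl | rfl | rfl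
      · exact hx0
      · rw [hnk]; exact one_mem _
      · have e : ⁅n, x * k⁆ = ⁅n, x⁆ := by
          have e1 : k * n⁻¹ * k⁻¹ = n⁻¹ := by
            rw [(mem_cen.1 hn.2).symm.inv_right.eq, mul_inv_cancel_right]
          rw [commutatorElement_def, commutatorElement_def,
            show n * (x * k) * n⁻¹ * (x * k)⁻¹ = n * x * (k * n⁻¹ * k⁻¹) * x⁻¹ by group, e1]
        rw [e]; exact hx0
    have huX : u ∈ X := by
      refine (commutator_le.2 fun n hn v hv => ?_ : ⁅X, four x x'⁆ ≤ X)
        (commutator_mono inf_le_left le_rfl hu.1)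
      exact commutatorElement_mem (hVX hv) hn
    have hux : u ∈ cen x :=
      mem_cen.2 (commute_of_mem_centralizer_four hu.2 (left_mem_four x x')).symm
    have hkH : k ∈ cen x := mem_cen.2 (hp.comm_four hk (left_mem_four x x'))
    exact h.mem_OC_of_kills hcx hkX.1 hkH (subset_closure ⟨hkH, Or.inl hkX⟩) (hle hu.1) hux
      (hkill u huX hux)
      (fun y'' hy''H hy'' => h.kills_right hcx hkX.1 hkH
        (fun w hwH hw => h.ind _ hcx k hkH w hwH hkX hw) (hle hu.1) hux hy''H hy'')
  intro u hu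
  have hx'n : x' ∈ normalizer ((⁅X, zpowers x⁆ ⊓ cen x : Subgroup G) : Set G) :=
    CfsgLib.Coprime.inf_le_normalizer (A := zpowers x')
      (fun g hg => normalizer_commutator (zpowers_le.2 (hVX (right_mem_four x x')) hg)
        (normalizer_zpowers_of_commute (by
          rcases mem_zpowers_invol hx'.mul_self hg with rfl | rfl
          exacts [Commute.one_left x, hxx'.symm])))
      (zpowers_le.2 (mem_normalizer_cen hxx'.symm)) (mem_zpowers x')
  have hKodd : Odd (Nat.card (⁅X, zpowers x⁆ ⊓ cen x : Subgroup G)) :=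
    odd_of_le (inf_le_left.trans (commutator_zpowers_le_self (hVX (left_mem_four x x')))) hXodd
  obtain ⟨w, hw, f, hf, rfl, hinv, hcf, -, -⟩ := exists_decomp hKodd hx'.mul_self hx'n hu
  refine mul_mem ?_ (hW ⟨commutator_mono le_rfl (zpowers_le.2 (left_mem_four x x')) hf.1,
    mem_centralizer_four (mem_cen.1 hf.2).symm hcf⟩)
  exact mem_of_sq_mem' hKodd hw hinv (hkill w
    (commutator_zpowers_le_self (hVX (left_mem_four x x')) hw.1) hw.2 x' (mem_cen.2 hxx'.symm) hx')

/-- The signalizer at `x` meets `C(y)` in `Δ`. -/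
theorem Setup.TT_inf {x y : G} (hx : IsX S₁ x) (hy : IsX S₂ y) (hxy : Commute x y) :
    TT x y ⊓ cen y = Delta x y := by
  refine le_antisymm ?_ (le_inf le_sup_right (inf_le_right.trans (OC_le _)))
  intro u hu
  obtain ⟨c, hc, d, hd, rfl⟩ := CfsgLib.Coprime.mem_sup_exists Delta_normalizes_comm hu.1
  refine mul_mem ⟨commutator_zpowers_le_self (mem_normalizer_OC_centralizer hxy.symm) hc,
    h.comm_fixed hx hy hxy ⟨hc, ?_⟩⟩ hd
  simpa using mul_mem hu.2 (Subgroup.inv_mem _ (OC_le _ hd.2))

theorem Setup.Delta_le_mul {x y : G} (hx : IsX S₁ x) (hy : IsX S₂ y) (hxy : Commute x y) :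
    Delta x y ≤ OC (cen (x * y)) := fun u hu =>
  h.delta_le hx hy (h.centralizer_mul_ne_top hx hy hxy) ((Commute.refl x).mul_right hxy)
    (hxy.symm.mul_right (Commute.refl y)) hu.1 hu.2
    ((commute_of_mem_OC hu.1).mul_right (commute_of_mem_OC hu.2))

theorem Setup.UU_le {x y : G} (hx : IsX S₁ x) (hy : IsX S₂ y) (hxy : Commute x y) :
    UU x y ≤ OC (cen (x * y)) :=
  sup_le (commutator_zpowers_le_self
    (mem_normalizer_OC_centralizer ((Commute.refl x).mul_right hxy))) (h.Delta_le_mul hx hy hxy)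

/-- The signalizer at `x y` meets `C(x)` in `Δ`. -/
theorem Setup.UU_inf {x y : G} (hx : IsX S₁ x) (hy : IsX S₂ y) (hxy : Commute x y) :
    UU x y ⊓ cen x = Delta x y := by
  refine le_antisymm ?_ (le_inf le_sup_right (inf_le_left.trans (OC_le _)))
  intro u hu
  obtain ⟨c, hc, d, hd, rfl⟩ := CfsgLib.Coprime.mem_sup_exists
    ((h.Delta_le_mul hx hy hxy).trans (normalizer_commutator_ge_left _ _)) hu.1
  have hcx : c ∈ cen x := by
    simpa using mul_mem hu.2 (Subgroup.inv_mem _ (OC_le _ hd.1))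
  have hcz : Commute c (x * y) := commute_of_mem_OC
    (commutator_zpowers_le_self
      (mem_normalizer_OC_centralizer ((Commute.refl x).mul_right hxy)) hc)
  have hcy : c ∈ cen y := by
    refine mem_cen.2 ?_
    have := (mem_cen.1 hcx).mul_right hcz
    rwa [← mul_assoc, hx.mul_self, one_mul] at this
  refine mul_mem ⟨h.comm_fixed_mul hx hy hxy ⟨hc, hcx⟩, ?_⟩ hd
  refine h.symm.comm_fixed_mul hy hx hxy.symm ⟨?_, hcy⟩
  rw [← hxy.eq, ← commutator_zpowers_congr hx.mul_self hy.mul_self hxy]
  exact hc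

/-- The signalizer at `x` does not depend on the partner in a commuting pair of partners. -/
theorem Setup.TT_le_TT {x y y' : G} (hx : IsX S₁ x) (hy : IsX S₂ y) (hy' : IsX S₂ y')
    (hxy : Commute x y) (hxy' : Commute x y') (hyy' : Commute y y') : TT x y' ≤ TT x y := by
  set X := OC (cen x) with hX
  have hXodd : Odd (Nat.card X) := odd_card_OC _
  have hyX : y ∈ normalizer (X : Set G) := mem_normalizer_OC_centralizer hxy.symm
  have hy'X : y' ∈ normalizer (X : Set G) := mem_normalizer_OC_centralizer hxy'.symm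
  have hy'c : y' ∈ normalizer ((⁅X, zpowers y⁆ : Subgroup G) : Set G) :=
    normalizer_commutator hy'X (normalizer_zpowers_of_commute hyy'.symm)
  refine sup_le ?_ ?_
  · rw [commutator_le]
    intro n hn g hg
    rcases mem_zpowers_invol hy'.mul_self hg with rfl | rfl
    · simp
    have hn' : n ∈ ⁅X, zpowers y⁆ ⊔ (X ⊓ centralizer (zpowers y : Set G)) := by
      rwa [CfsgLib.Coprime.commutator_sup_centralizer (zpowers_le.2 hyX) (by
        rw [Nat.card_zpowers, hy.1]; exact Nat.coprime_two_left.2 hXodd)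
        (Or.inl (CfsgLib.Coprime.isSolvable_of_isMulCommutative inferInstance))]
    obtain ⟨a, ha, b, hb, rfl⟩ := CfsgLib.Coprime.mem_sup_exists
      (inf_le_left.trans (normalizer_commutator_ge_left _ _)) hn'
    have hby : Commute b y := (mem_centralizer_iff.1 hb.2 y (mem_zpowers y)).symm
    have hcy : cen y ≠ ⊤ := h.symm.centralizer_ne_top hy
    have hb' : ⁅b, g⁆ ∈ Delta x y :=
      ⟨commutatorElement_mem hy'X hb.1, h.kills_right hcy hx.1 (mem_cen.2 hxy)
        (fun w hwH hw => h.ind _ hcy x (mem_cen.2 hxy) w hwH hx hw) hb.1 (mem_cen.2 hby)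
        (mem_cen.2 hyy'.symm) hy'⟩
    rw [show ⁅a * b, g⁆ = a * ⁅b, g⁆ * a⁻¹ * ⁅a, g⁆ by
      simp [commutatorElement_def, mul_assoc]]
    exact mul_mem (mul_mem (mul_mem (mem_sup_left ha) (mem_sup_right hb'))
      (Subgroup.inv_mem _ (mem_sup_left ha))) (mem_sup_left (commutatorElement_mem hy'c ha))
  · intro u hu
    have hKX : Delta x y' ≤ X := inf_le_left
    have hyn : y ∈ normalizer (Delta x y' : Set G) :=
      CfsgLib.Coprime.inf_le_normalizer (A := zpowers y) (zpowers_le.2 hyX)
        (zpowers_le.2 (mem_normalizer_OC_centralizer hyy')) (mem_zpowers y)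
    obtain ⟨w, hw, f, hf, rfl, -, hcf, hwc, -⟩ :=
      exists_decomp (odd_of_le hKX hXodd) hy.mul_self hyn hu
    exact mul_mem (mem_sup_left (commutator_mono hKX le_rfl hwc)) (mem_sup_right
      ⟨hKX hf, h.delta_le hx hy' (h.symm.centralizer_ne_top hy) hxy hyy'.symm hf.1 hf.2 hcf.symm⟩)

theorem Setup.TT_eq {x y y' : G} (hx : IsX S₁ x) (hy : IsX S₂ y) (hy' : IsX S₂ y')
    (hxy : Commute x y) (hxy' : Commute x y') (hyy' : Commute y y') : TT x y' = TT x y :=
  le_antisymm (h.TT_le_TT hx hy hy' hxy hxy' hyy') (h.TT_le_TT hx hy' hy hxy' hxy hyy'.symm)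

end CfsgLib.ProdFusion
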