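import Cfsg.Agent.Lib.ProdFusion.Functor

/-!
# Product fusion: the points
-/

set_option autoImplicit false
set_option linter.style.haveILetI false
set_option linter.unusedSectionVars false

namespace CfsgLib.ProdFusion

open Subgroup
open scoped commutatorElement
open CfsgLib.Coprime (conjBy mem_conjBy conjBy_eq_self_iff card_conjBy conjBy_conjBy conjBy_one)

universe u

variable {G : Type u} [Group G]

/-- A point: the subgroup attached to some commuting pair. -/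
def IsPt (S₁ S₂ : Subgroup G) (ω : Subgroup G) : Prop :=
  ∃ x y, IsX S₁ x ∧ IsX S₂ y ∧ Commute x y ∧ ω = Wp x y

/-- The normalizer of a point. -/
abbrev nz (ω : Subgroup G) : Subgroup G := normalizer (ω : Set G)

theorem conj_mem_nz {ω : Subgroup G} {g x : G} (hx : x ∈ nz ω) :
    g * x * g⁻¹ ∈ nz (conjBy g ω) := by
  rw [← conjBy_eq_self_iff, conjBy_conjBy, show g * x * g⁻¹ * g = g * x by group,
    ← conjBy_conjBy, conjBy_eq_self_iff.2 hx]

theorem conj_mem_nz_iff {ω : Subgroup G} {g x : G} :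
    g * x * g⁻¹ ∈ nz (conjBy g ω) ↔ x ∈ nz ω := by
  refine ⟨fun h => ?_, conj_mem_nz⟩
  have := conj_mem_nz (g := g⁻¹) h
  rwa [conjBy_conjBy, inv_mul_cancel, conjBy_one,
    show g⁻¹ * (g * x * g⁻¹) * g⁻¹⁻¹ = x by group] at this

theorem mul_conj_mem_zpowers {x y d : G} (hx : x * x = 1) (hy : y * y = 1)
    (hd : d ∈ zpowers (x * y)) : x * (d * y * d⁻¹) ∈ zpowers (x * y) := by
  obtain ⟨k, rfl⟩ := mem_zpowers_iff.1 hd
  have ex : x⁻¹ = x := inv_eq_of_mul_eq_one_right hx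
  have ey : y⁻¹ = y := inv_eq_of_mul_eq_one_right hy
  have h1 : x * (x * y) ^ k * x⁻¹ = ((x * y) ^ k)⁻¹ := by
    rw [← conj_zpow, ← inv_zpow]
    congr 1
    rw [ex, mul_inv_rev, ex, ey, show x * (x * y) * x = (x * x) * (y * x) by group, hx, one_mul]
  have h2 : y * ((x * y) ^ k)⁻¹ * y⁻¹ = (x * y) ^ k := by
    rw [← inv_zpow, ← conj_zpow]
    congr 1
    rw [ey, mul_inv_rev, ex, ey, show y * (y * x) * y = (y * y) * (x * y) by group, hy, one_mul]
  have h3 : y * ((x * y) ^ k)⁻¹ = (x * y) ^ k * y := by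
    rw [← mul_inv_eq_iff_eq_mul]; exact h2
  have h4 : x * (x * y) ^ k = ((x * y) ^ k)⁻¹ * x := by
    rw [← mul_inv_eq_iff_eq_mul]; exact h1
  rw [show x * ((x * y) ^ k * y * ((x * y) ^ k)⁻¹) = x * (x * y) ^ k * (y * ((x * y) ^ k)⁻¹) by
    group, h3, h4]
  have e : ((x * y) ^ k)⁻¹ * x * ((x * y) ^ k * y) =
      ((x * y) ^ k)⁻¹ * (x * (x * y) ^ k) * y := by group
  rw [e, h4, show ((x * y) ^ k)⁻¹ * (((x * y) ^ k)⁻¹ * x) * y =
    ((x * y) ^ k)⁻¹ * ((x * y) ^ k)⁻¹ * (x * y) by group]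
  exact mul_mem (mul_mem (inv_mem (zpow_mem (mem_zpowers _) k))
    (inv_mem (zpow_mem (mem_zpowers _) k))) (mem_zpowers _)

variable [Finite G]

/-- An involution in the cyclic group generated by a product of two involutions commutes with
both. -/
theorem commute_of_mem_zpowers_mul {x y c : G} (hx : x * x = 1) (hy : y * y = 1) (hc : c * c = 1)
    (hm : c ∈ zpowers (x * y)) : Commute x c ∧ Commute y c := by
  obtain ⟨k, rfl⟩ := mem_zpowers_iff.1 hm
  have ex : x⁻¹ = x := inv_eq_of_mul_eq_one_right hx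
  have ey : y⁻¹ = y := inv_eq_of_mul_eq_one_right hy
  have ec : ((x * y) ^ k)⁻¹ = (x * y) ^ k := inv_eq_of_mul_eq_one_right hc
  constructor <;> refine mul_inv_eq_iff_eq_mul.1 ?_ <;>
    conv_rhs => rw [← ec, ← inv_zpow]
  · rw [← conj_zpow]
    congr 1
    rw [ex, mul_inv_rev, ex, ey, show x * (x * y) * x = (x * x) * (y * x) by group, hx, one_mul]
  · rw [← conj_zpow]
    congr 1
    rw [ey, mul_inv_rev, ex, ey, show y * (x * y) * y = y * x * (y * y) by group, hy, mul_one]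

variable {P : Sylow 2 G} {S₁ S₂ : Subgroup G} (h : Setup P S₁ S₂)
include h

theorem Setup.isPt_conj {ω : Subgroup G} (hω : IsPt S₁ S₂ ω) (g : G) :
    IsPt S₁ S₂ (conjBy g ω) := by
  obtain ⟨x, y, hx, hy, hxy, rfl⟩ := hω
  refine ⟨_, _, hx.conj g, hy.conj g, ?_, conjBy_Wp g x y⟩
  exact hxy.map (MulAut.conj g).toMonoidHom

theorem Setup.self_mem {x y : G} (hxy : Commute x y) : x ∈ nz (Wp x y) := by
  rw [nz, ← conjBy_eq_self_iff, conjBy_Wp, mul_inv_cancel_right, hxy.eq, mul_inv_cancel_right]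

theorem Setup.self_mem' {x y : G} (hxy : Commute x y) : y ∈ nz (Wp x y) := by
  rw [nz, ← conjBy_eq_self_iff, conjBy_Wp, mul_inv_cancel_right, hxy.symm.eq,
    mul_inv_cancel_right]

theorem Setup.mem_nz_of_commute {x y g : G} (hx : Commute g x) (hy : Commute g y) :
    g ∈ nz (Wp x y) := by
  rw [nz, ← conjBy_eq_self_iff, conjBy_Wp, hx.eq, mul_inv_cancel_right, hy.eq,
    mul_inv_cancel_right]

theorem Setup.le_nz_Wp {a b : G} (ha : IsX S₁ a) (hb : IsX S₂ b) (haP : a ∈ P) (hbP : b ∈ P) :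
    (P : Subgroup G) ≤ nz (Wp a b) := by
  intro p hp
  rw [nz, ← conjBy_eq_self_iff, conjBy_Wp]
  exact h.Wp_eq_of_mem (ha.conj p) (hb.conj p) ha hb
    (mul_mem (mul_mem hp haP) (Subgroup.inv_mem _ hp))
    (mul_mem (mul_mem hp hbP) (Subgroup.inv_mem _ hp)) haP hbP

/-- A point in normal form. -/
theorem Setup.exists_normal_form {ω : Subgroup G} (hω : IsPt S₁ S₂ ω) :
    ∃ (g a b : G), IsX S₁ a ∧ IsX S₂ b ∧ a ∈ S₁ ∧ b ∈ S₂ ∧ conjBy g ω = Wp a b := by
  obtain ⟨x, y, hx, hy, hxy, rfl⟩ := hω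
  obtain ⟨g, h1, h2⟩ := h.exists_conj_pair hx hy hxy
  exact ⟨g, _, _, hx.conj g, hy.conj g, h1, h2, conjBy_Wp g x y⟩

theorem Setup.exists_conj_into {W : Subgroup G} (hPW : (P : Subgroup G) ≤ nz W)
    {R : Subgroup G} (hR : IsPGroup 2 R) (hRW : R ≤ nz W) :
    ∃ m ∈ nz W, ∀ r ∈ R, m * r * m⁻¹ ∈ P := by
  obtain ⟨m, hm⟩ := CfsgLib.Invol.exists_conj_le_sylow
    (hR.comap_subtype (K := nz W)) (P.subtype hPW)
  exact ⟨m, m.2, fun r hr => hm ⟨r, hRW hr⟩ hr⟩

theorem Setup.pt_unique {x y : G} (hx : IsX S₁ x) (hy : IsX S₂ y) (hxy : Commute x y)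
    {ω : Subgroup G} (hω : IsPt S₁ S₂ ω) (hxω : x ∈ nz ω) (hyω : y ∈ nz ω) : ω = Wp x y := by
  obtain ⟨g, a, b, ha, hb, haS, hbS, e⟩ := h.exists_normal_form hω
  have hPW := h.le_nz_Wp ha hb (h.sc1.1 haS) (h.sc2.1 hbS)
  have hx' : g * x * g⁻¹ ∈ nz (Wp a b) := e ▸ conj_mem_nz hxω
  have hy' : g * y * g⁻¹ ∈ nz (Wp a b) := e ▸ conj_mem_nz hyω
  have hc : Commute (g * x * g⁻¹) (g * y * g⁻¹) := hxy.map (MulAut.conj g).toMonoidHom
  obtain ⟨m, hm, hmP⟩ := h.exists_conj_into hPW (isPGroup_closure_of_commute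
      (s := ({g * x * g⁻¹, g * y * g⁻¹} : Set G))
      (by rintro t (rfl | rfl); exacts [(hx.conj g).mul_self, (hy.conj g).mul_self])
      (by rintro t (rfl | rfl) u (rfl | rfl); exacts [.refl _, hc, hc.symm, .refl _]))
    ((closure_le _).2 (by rintro t (rfl | rfl); exacts [hx', hy']))
  have e2 : conjBy m (conjBy g (Wp x y)) = Wp a b := by
    rw [conjBy_Wp, conjBy_Wp]
    exact h.Wp_eq_of_mem ((hx.conj g).conj m) ((hy.conj g).conj m) ha hb
      (hmP _ (subset_closure (by simp))) (hmP _ (subset_closure (by simp)))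
      (h.sc1.1 haS) (h.sc2.1 hbS)
  rw [← conjBy_eq_self_iff.2 hm, ← e] at e2
  have e3 := congrArg (conjBy m⁻¹) e2
  simp only [conjBy_conjBy, inv_mul_cancel_left, inv_mul_cancel, one_mul] at e3
  have e4 := congrArg (conjBy g⁻¹) e3
  simp only [conjBy_conjBy, inv_mul_cancel, conjBy_one] at e4
  exact e4.symm

theorem Setup.exists_partner_pt {ω : Subgroup G} (hω : IsPt S₁ S₂ ω) {x : G} (hx : IsX S₁ x)
    (hxω : x ∈ nz ω) : ∃ y, IsX S₂ y ∧ Commute x y ∧ y ∈ nz ω ∧ ω = Wp x y := by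
  obtain ⟨g, a, b, ha, hb, haS, hbS, e⟩ := h.exists_normal_form hω
  have hPW := h.le_nz_Wp ha hb (h.sc1.1 haS) (h.sc2.1 hbS)
  have hx' : g * x * g⁻¹ ∈ nz (Wp a b) := e ▸ conj_mem_nz hxω
  obtain ⟨m, hm, hmP⟩ := h.exists_conj_into hPW (isPGroup_closure_of_commute
      (s := ({g * x * g⁻¹} : Set G))
      (by rintro t rfl; exact (hx.conj g).mul_self)
      (by rintro t rfl u rfl; exact .refl _))
    ((closure_le _).2 (by rintro t rfl; exact hx'))
  set k := m * g with hk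
  have hkS : k * x * k⁻¹ ∈ S₁ := by
    have h1 := hmP _ (subset_closure (Set.mem_singleton _))
    rw [show m * (g * x * g⁻¹) * m⁻¹ = k * x * k⁻¹ by rw [hk]; group] at h1
    exact h.mem_left hx h1
  refine ⟨k⁻¹ * b * k, by simpa using hb.conj k⁻¹, ?_, ?_, ?_⟩
  · have := h.comm _ hkS b hbS
    show x * (k⁻¹ * b * k) = k⁻¹ * b * k * x
    simpa [mul_assoc] using congrArg (fun u => k⁻¹ * u * k) this
  · have e1 : conjBy k ω = Wp a b := by
      rw [hk, ← conjBy_conjBy, e, conjBy_eq_self_iff.2 hm]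
    rw [← conj_mem_nz_iff (g := k), e1, show k * (k⁻¹ * b * k) * k⁻¹ = b by group]
    exact hPW (h.sc2.1 hbS)
  · have hc : Commute x (k⁻¹ * b * k) := by
      have := h.comm _ hkS b hbS
      show x * (k⁻¹ * b * k) = k⁻¹ * b * k * x
      simpa [mul_assoc] using congrArg (fun u => k⁻¹ * u * k) this
    refine h.pt_unique hx (by simpa using hb.conj k⁻¹) hc hω hxω ?_
    have e1 : conjBy k ω = Wp a b := by
      rw [hk, ← conjBy_conjBy, e, conjBy_eq_self_iff.2 hm]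
    rw [← conj_mem_nz_iff (g := k), e1, show k * (k⁻¹ * b * k) * k⁻¹ = b by group]
    exact hPW (h.sc2.1 hbS)

theorem Setup.cen_mul_le {x y : G} (hx : IsX S₁ x) (hy : IsX S₂ y) (hxy : Commute x y) :
    cen (x * y) ≤ nz (Wp x y) := by
  have hH := h.centralizer_mul_ne_top hx hy hxy
  have hxH : x ∈ cen (x * y) := mem_cen.2 ((Commute.refl x).mul_right hxy)
  have hyH : y ∈ cen (x * y) := mem_cen.2 (hxy.symm.mul_right (Commute.refl y))
  have hyx : ∀ g, Commute g (x * y) → Commute g x → g ∈ nz (Wp x y) := fun g hz hgx =>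
    h.mem_nz_of_commute hgx (by simpa [← mul_assoc, hx.mul_self] using hgx.mul_right hz)
  have hO : OC (cen (x * y)) ≤ nz (Wp x y) := by
    have hxn : zpowers x ≤ normalizer (OC (cen (x * y)) : Set G) :=
      (zpowers_le.2 hxH).trans (le_normalizer_OC_self _)
    rw [← CfsgLib.Coprime.commutator_sup_centralizer hxn
      (by rw [Nat.card_zpowers, hx.1]; exact Nat.coprime_two_left.2 (odd_card_OC _))
      (Or.inl (CfsgLib.Coprime.isSolvable_of_isMulCommutative inferInstance))]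
    exact sup_le ((le_sup_left.trans le_sup_right).trans le_normalizer) fun g hg =>
      hyx g (commute_of_mem_OC hg.1) (mem_centralizer_iff.1 hg.2 x (mem_zpowers x)).symm
  intro d hd
  have hs := (h.split hH hx hy hxy hxH hyH hd (by
    rw [commutatorElement_eq_one_iff_commute.2 (mem_cen.1 hd)]; exact one_mem _)).1
  obtain ⟨o, ho, hc⟩ := exists_commute_of_commute_mk (N := Cfsg.pPrimeCore 2 (cen (x * y)))
    odd_core (k := ⟨d, hd⟩) (s := ⟨x, hxH⟩) (by rw [← orderOf_coe]; exact hx.1)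
    (red_commute_iff.2 hs)
  have ho' : (o : G) ∈ OC (cen (x * y)) := ⟨o, ho, rfl⟩
  have h1 : (o : G) * d ∈ nz (Wp x y) :=
    hyx _ (mem_cen.1 (o * ⟨d, hd⟩).2) (congrArg Subtype.val hc.eq)
  simpa using mul_mem (Subgroup.inv_mem _ (hO ho')) h1

/-- The odd core of `C(x)` fixes every point fixed by `x`. -/
theorem Setup.OC_cen_le_nz {x : G} (hx : IsX S₁ x) {ω : Subgroup G} (hω : IsPt S₁ S₂ ω)
    (hxω : x ∈ nz ω) : OC (cen x) ≤ nz ω := by
  obtain ⟨y, hy, hxy, -, rfl⟩ := h.exists_partner_pt hω hx hxω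
  have hyn : zpowers y ≤ normalizer (OC (cen x) : Set G) :=
    zpowers_le.2 (mem_normalizer_OC_centralizer hxy.symm)
  rw [← CfsgLib.Coprime.commutator_sup_centralizer hyn
    (by rw [Nat.card_zpowers, hy.1]; exact Nat.coprime_two_left.2 (odd_card_OC _))
    (Or.inl (CfsgLib.Coprime.isSolvable_of_isMulCommutative inferInstance))]
  exact sup_le (((le_sup_left.trans le_sup_left).trans le_sup_left).trans le_normalizer)
    fun g hg => h.mem_nz_of_commute (commute_of_mem_OC hg.1)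
      (mem_centralizer_iff.1 hg.2 y (mem_zpowers y)).symm

theorem Setup.exists_dihedral {x y : G} (hx : IsX S₁ x) (hy : IsX S₂ y) :
    ∃ d ∈ zpowers (x * y), Commute x (d * y * d⁻¹) ∧ Commute x (x * (d * y * d⁻¹)) ∧
      Commute y (x * (d * y * d⁻¹)) := by
  obtain ⟨d, hd, ho, hord⟩ := CfsgLib.Invol.exists_conj_two_pow hx.1 hy.1
  have hc : Commute x (d * y * d⁻¹) :=
    h.commute_of_isPGroup (CfsgLib.Invol.two_group_of_pair hx.1 ho hord)
      (subset_closure (by simp)) (subset_closure (by simp)) hx (hy.conj d)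
  obtain ⟨h1, h2⟩ := commute_of_mem_zpowers_mul hx.mul_self hy.mul_self
    (commute_mul_self_eq_one hx.mul_self (hy.conj d).mul_self hc)
    (mul_conj_mem_zpowers hx.mul_self hy.mul_self hd)
  exact ⟨d, hd, hc, h1, h2⟩

/-- Any two members of the two classes have exactly one common point. -/
theorem Setup.exists_common {x y : G} (hx : IsX S₁ x) (hy : IsX S₂ y) :
    ∃ ω, IsPt S₁ S₂ ω ∧ x ∈ nz ω ∧ y ∈ nz ω := by
  obtain ⟨d, -, hc, h1, h2⟩ := h.exists_dihedral hx hy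
  exact ⟨Wp x (d * y * d⁻¹), ⟨_, _, hx, hy.conj d, hc, rfl⟩,
    h.cen_mul_le hx (hy.conj d) hc (mem_cen.2 h1), h.cen_mul_le hx (hy.conj d) hc (mem_cen.2 h2)⟩

theorem Setup.common_unique {x y : G} (hx : IsX S₁ x) (hy : IsX S₂ y) {ω ω' : Subgroup G}
    (hω : IsPt S₁ S₂ ω) (hω' : IsPt S₁ S₂ ω') (h1 : x ∈ nz ω) (h2 : y ∈ nz ω) (h3 : x ∈ nz ω')
    (h4 : y ∈ nz ω') : ω = ω' := by
  obtain ⟨d, hd, hc, -, -⟩ := h.exists_dihedral hx hy
  have key : ∀ {ω}, IsPt S₁ S₂ ω → x ∈ nz ω → y ∈ nz ω → ω = Wp x (d * y * d⁻¹) := by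
    intro ω hω hx' hy'
    have hdm : d ∈ nz ω := (zpowers_le.2 (mul_mem hx' hy')) hd
    exact h.pt_unique hx (hy.conj d) hc hω hx'
      (mul_mem (mul_mem hdm hy') (Subgroup.inv_mem _ hdm))
  exact (key hω h1 h2).trans (key hω' h3 h4).symm

end CfsgLib.ProdFusion
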