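import Cfsg.Agent.Lib.ProdFusion.Points

/-!
# Product fusion: rows, and commuting of the two classes
-/

set_option autoImplicit false
set_option linter.style.haveILetI false
set_option linter.unusedSectionVars false

namespace CfsgLib.ProdFusion

open Subgroup
open scoped commutatorElement
open CfsgLib.Coprime (conjBy mem_conjBy conjBy_eq_self_iff card_conjBy conjBy_conjBy conjBy_one)

universe u

variable {G : Type u} [Group G]

/-- Two elements fix the same points. -/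
def SameRow (S₁ S₂ : Subgroup G) (x x' : G) : Prop :=
  ∀ ω, IsPt S₁ S₂ ω → (x ∈ nz ω ↔ x' ∈ nz ω)

theorem SameRow.rfl' {S₁ S₂ : Subgroup G} {x : G} : SameRow S₁ S₂ x x := fun _ _ => Iff.rfl

theorem SameRow.symm {S₁ S₂ : Subgroup G} {x x' : G} (r : SameRow S₁ S₂ x x') :
    SameRow S₁ S₂ x' x := fun ω hω => (r ω hω).symm

theorem SameRow.trans {S₁ S₂ : Subgroup G} {x x' x'' : G} (r : SameRow S₁ S₂ x x')
    (r' : SameRow S₁ S₂ x' x'') : SameRow S₁ S₂ x x'' := fun ω hω => (r ω hω).trans (r' ω hω)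

variable [Finite G] {P : Sylow 2 G} {S₁ S₂ : Subgroup G} (h : Setup P S₁ S₂)
include h

theorem Setup.sameRow_conj {x x' : G} (r : SameRow S₁ S₂ x x') (g : G) :
    SameRow S₁ S₂ (g * x * g⁻¹) (g * x' * g⁻¹) := by
  intro ω hω
  have e : conjBy g (conjBy g⁻¹ ω) = ω := by rw [conjBy_conjBy, mul_inv_cancel, conjBy_one]
  rw [← e, conj_mem_nz_iff, conj_mem_nz_iff]
  exact r _ (h.isPt_conj hω _)

/-- The stabilizer of the row of `x`. -/
def Setup.stab (x : G) : Subgroup G where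
  carrier := {g | SameRow S₁ S₂ x (g * x * g⁻¹)}
  one_mem' := by simpa using SameRow.rfl'
  mul_mem' {a b} ha hb := by
    refine (SameRow.trans ha (h.sameRow_conj hb a)).trans ?_
    rw [show a * (b * x * b⁻¹) * a⁻¹ = a * b * x * (a * b)⁻¹ by group]
    exact SameRow.rfl'
  inv_mem' {a} ha := by
    have := (h.sameRow_conj ha a⁻¹).symm
    rw [show a⁻¹ * (a * x * a⁻¹) * a⁻¹⁻¹ = x by group] at this
    exact this

theorem Setup.mem_stab {x g : G} : g ∈ h.stab x ↔ SameRow S₁ S₂ x (g * x * g⁻¹) := Iff.rfl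

theorem Setup.mem_stab_of_commute {x k g : G} (r : SameRow S₁ S₂ x k) (hc : Commute g k) :
    g ∈ h.stab x := by
  refine h.mem_stab.2 (r.trans ?_)
  have := (h.sameRow_conj r g).symm
  rwa [hc.eq, mul_inv_cancel_right] at this

theorem Setup.row_of_commute {x x' : G} (hx : IsX S₁ x) (hx' : IsX S₁ x') (hc : Commute x x') :
    SameRow S₁ S₂ x x' := by
  have key : ∀ {x x' : G}, IsX S₁ x → IsX S₁ x' → Commute x x' → ∀ ω, IsPt S₁ S₂ ω → x ∈ nz ω →
      x' ∈ nz ω := by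
    intro x x' hx hx' hc ω hω hxω
    obtain ⟨y, hy, hxy, -, e⟩ := h.exists_partner_pt hω hx hxω
    have hH := h.centralizer_ne_top hx
    obtain ⟨o, ho, hco⟩ := exists_commute_of_commute_mk (N := Cfsg.pPrimeCore 2 (cen x)) odd_core
      (k := ⟨x', mem_cen.2 hc.symm⟩) (s := ⟨y, mem_cen.2 hxy.symm⟩)
      (by rw [← orderOf_coe]; exact hy.1)
      (h.red_commute hH (x := ⟨x', _⟩) (y := ⟨y, _⟩) hx' hy)
    have h1 : (o : G) * x' ∈ nz ω := e ▸ h.mem_nz_of_commute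
      (mem_cen.1 (o * ⟨x', mem_cen.2 hc.symm⟩).2) (congrArg Subtype.val hco.eq)
    simpa using mul_mem (Subgroup.inv_mem _ (h.OC_cen_le_nz hx hω hxω ⟨o, ho, rfl⟩)) h1
  exact fun ω hω => ⟨key hx hx' hc ω hω, key hx' hx hc.symm ω hω⟩

theorem Setup.le_stab_of_four {x x' : G} (hx : IsX S₁ x) (hx' : IsX S₁ x') (hp : FourPair x x')
    {D : Subgroup G} (hD : Odd (Nat.card D)) (hn : four x x' ≤ normalizer (D : Set G)) :
    D ≤ h.stab x := by
  haveI := hp.isMulCommutative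
  refine CfsgLib.Coprime.le_of_centralizers_le hp.not_isCyclic hn (hp.coprime hD) ?_
  intro k hk hk1 g hg
  exact h.mem_stab_of_commute
    (h.row_of_commute hx (h.isX_four hx hx' hp hk hk1) (hp.comm_four (left_mem_four x x') hk))
    (mem_cen.1 hg.2)

theorem Setup.OC_pt_le_stab {x : G} (hx : IsX S₁ x) {ω : Subgroup G} (hω : IsPt S₁ S₂ ω)
    (hxω : x ∈ nz ω) : OC (nz ω) ≤ h.stab x := by
  obtain ⟨y, hy, hxy, -, -⟩ := h.exists_partner_pt hω hx hxω
  obtain ⟨x', hx', hne, hxx', -⟩ := h.exists_partner hx hy hxy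
  exact h.le_stab_of_four hx hx' ⟨hx.1, hx'.1, hne.symm, hxx'⟩ (odd_card_OC _)
    ((four_le hxω ((h.row_of_commute hx hx' hxx' ω hω).1 hxω)).trans (le_normalizer_OC_self _))

theorem Setup.OC_mul_le_stab {x y : G} (hx : IsX S₁ x) (hy : IsX S₂ y) (hxy : Commute x y) :
    OC (cen (x * y)) ≤ h.stab x := by
  obtain ⟨x', hx', hne, hxx', hx'y⟩ := h.exists_partner hx hy hxy
  refine h.le_stab_of_four hx hx' ⟨hx.1, hx'.1, hne.symm, hxx'⟩ (odd_card_OC _) ?_
  exact (h.four_le_cen ((Commute.refl x).mul_right hxy) (hxx'.symm.mul_right hx'y)).trans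
    (le_normalizer_OC_self _)

/-- Two members of a class with product of even order have a further member commuting with
both. -/
theorem Setup.exists_between {x x' : G} (hx : IsX S₁ x) (hx' : IsX S₁ x')
    (hev : ¬ Odd (orderOf (x * x'))) :
    ∃ j ∈ zpowers (x * x'), IsX S₁ j ∧ Commute x j ∧ Commute x' j := by
  obtain ⟨d, hd, ho, hord⟩ := CfsgLib.Invol.exists_conj_two_pow hx.1 hx'.1
  set n := (orderOf (x * x')).factorization 2 with hn
  have hn0 : n ≠ 0 := (Nat.Prime.factorization_pos_of_dvd Nat.prime_two (orderOf_pos _).ne'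
    (even_iff_two_dvd.1 (Nat.not_odd_iff_even.1 hev))).ne'
  obtain ⟨s, hs⟩ : ∃ s, n = s + 1 := ⟨n - 1, by omega⟩
  set a := x * (d * x' * d⁻¹) with ha
  have haz : a ∈ zpowers (x * x') := mul_conj_mem_zpowers hx.mul_self hx'.mul_self hd
  set j := a ^ 2 ^ s with hj
  have hjo : orderOf j = 2 := by
    rw [hj, orderOf_pow, hord, hs, Nat.gcd_eq_right (pow_dvd_pow 2 (Nat.le_succ s)), pow_succ]
    exact Nat.mul_div_cancel_left 2 (pow_pos two_pos s)
  obtain ⟨g, hg⟩ := CfsgLib.Invol.exists_conj_le_sylow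
    (CfsgLib.Invol.two_group_of_pair hx.1 ho hord) P
  have h1 := h.mem_left hx (hg x (subset_closure (by simp)))
  have h2 := h.mem_left (hx'.conj d) (hg _ (subset_closure (by simp)))
  have hjX : IsX S₁ j := by
    refine ⟨hjo, g, ?_⟩
    rw [hj, ← conj_pow, ha,
      show g * (x * (d * x' * d⁻¹)) * g⁻¹ = (g * x * g⁻¹) * (g * (d * x' * d⁻¹) * g⁻¹) by group]
    exact pow_mem (mul_mem h1 h2) _
  exact ⟨j, pow_mem haz _, hjX,
    commute_of_mem_zpowers_mul hx.mul_self hx'.mul_self hjX.mul_self (pow_mem haz _)⟩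

theorem Setup.row_of_even {x x' : G} (hx : IsX S₁ x) (hx' : IsX S₁ x')
    (hev : ¬ Odd (orderOf (x * x'))) : SameRow S₁ S₂ x x' := by
  obtain ⟨j, -, hj, h1, h2⟩ := h.exists_between hx hx' hev
  exact (h.row_of_commute hx hj h1).trans (h.row_of_commute hx' hj h2).symm

theorem Setup.row_key {x x' y : G} (hx : IsX S₁ x) (hx' : IsX S₁ x') (hy : IsX S₂ y)
    (hxy : Commute x y) (hx'y : Commute x' y) {ω₀ : Subgroup G} (hω₀ : IsPt S₁ S₂ ω₀)
    (h0x : x ∈ nz ω₀) (h0x' : x' ∈ nz ω₀) (h0y : y ∈ nz ω₀) {ω : Subgroup G}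
    (hω : IsPt S₁ S₂ ω) (hxω : x ∈ nz ω) : x' ∈ nz ω := by
  by_contra hno
  obtain ⟨y', hy', hxy', -, eω⟩ := h.exists_partner_pt hω hx hxω
  have hz2 : orderOf (x * y') = 2 := h.orderOf_mul hx hy' hxy'
  have hzz : (x * y') * (x * y') = 1 := CfsgLib.Invol.invol_mul_self hz2
  obtain ⟨d, hd, ho, hord⟩ := CfsgLib.Invol.exists_conj_two_pow hz2 hx'.1
  set x₂ := d * x' * d⁻¹ with hx₂
  have hx₂X : IsX S₁ x₂ := hx'.conj d
  have hn0 : (orderOf (x * y' * x')).factorization 2 ≠ 0 := by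
    intro e
    rw [e, pow_zero, orderOf_eq_one_iff] at hord
    have e2 : x * y' = x₂ := (mul_eq_one_iff_eq_inv.1 hord).trans hx₂X.inv_eq
    exact h.mul_not_left hx hy' hxy' (e2 ▸ hx₂X)
  have ha : x * y' * x₂ ∈ zpowers (x * y' * x') :=
    mul_conj_mem_zpowers hzz hx'.mul_self hd
  have hHne := h.centralizer_mul_ne_top hx hy' hxy'
  have hnz : cen (x * y') ≤ nz ω := eω ▸ h.cen_mul_le hx hy' hxy'
  have hzx₂ : Commute (x * y') x₂ := by
    by_contra hnc
    set s := (orderOf (x * y' * x')).factorization 2 with hs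
    obtain ⟨t, ht⟩ : ∃ t, s = t + 2 := ⟨s - 2, by
      rcases Nat.lt_or_ge s 2 with h2 | h2
      · exfalso
        have hs1 : s = 1 := by omega
        rw [hs1, pow_one] at hord
        apply hnc
        have h4 : (x * y' * x₂) * (x * y' * x₂) = 1 := by
          rw [← pow_two, ← hord, pow_orderOf_eq_one]
        calc x * y' * x₂ = (x * y' * x₂)⁻¹ := (inv_eq_of_mul_eq_one_right h4).symm
          _ = x₂ * (x * y') := by
            rw [mul_inv_rev, hx₂X.inv_eq, CfsgLib.Invol.invol_inv hz2]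
      · omega⟩
    obtain ⟨g, hg⟩ := CfsgLib.Invol.exists_conj_le_sylow
      (CfsgLib.Invol.two_group_of_pair hz2 ho hord) P
    have hmem : ∀ u ∈ ({x * y', x₂} : Set G), u ∈ Subgroup.closure ({x * y', x₂} : Set G) :=
      fun u hu => subset_closure hu
    have h1 : g * (x * y' * x₂ * (x * y')⁻¹) * g⁻¹ ∈ P := hg _ (mul_mem (mul_mem
      (hmem _ (by simp)) (hmem _ (by simp))) (Subgroup.inv_mem _ (hmem _ (by simp))))
    have h2 : g * x₂ * g⁻¹ ∈ P := hg _ (hmem _ (by simp))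
    have h1' := h.mem_left (hx₂X.conj (x * y')) h1
    have h2' := h.mem_left hx₂X h2
    set c := (x * y' * x₂) ^ 2 ^ (t + 1) with hc
    have hco : orderOf c = 2 := by
      rw [hc, orderOf_pow, hord, ht, Nat.gcd_eq_right (pow_dvd_pow 2 (Nat.le_succ (t + 1))),
        pow_succ 2 (t + 1)]
      exact Nat.mul_div_cancel_left 2 (pow_pos two_pos (t + 1))
    have hcX : IsX S₁ c := by
      refine ⟨hco, g, ?_⟩
      have e : (x * y' * x₂) ^ 2 = (x * y' * x₂ * (x * y')⁻¹) * x₂ := by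
        rw [pow_two, CfsgLib.Invol.invol_inv hz2]; group
      rw [hc, pow_succ' 2 t, pow_mul, ← conj_pow, e,
        show g * ((x * y' * x₂ * (x * y')⁻¹) * x₂) * g⁻¹ =
          (g * (x * y' * x₂ * (x * y')⁻¹) * g⁻¹) * (g * x₂ * g⁻¹) by group]
      exact pow_mem (mul_mem h1' h2') _
    obtain ⟨c1, c2⟩ := commute_of_mem_zpowers_mul hzz hx'.mul_self hcX.mul_self (pow_mem ha _)
    exact hno ((h.row_of_commute hx' hcX c2 ω hω).2 (hnz (mem_cen.2 c1.symm)))
  have hxH : x ∈ cen (x * y') := mem_cen.2 ((Commute.refl x).mul_right hxy')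
  have hyH : y' ∈ cen (x * y') := mem_cen.2 (hxy'.symm.mul_right (Commute.refl y'))
  have hx₂H : x₂ ∈ cen (x * y') := mem_cen.2 hzx₂.symm
  set X : cen (x * y') := ⟨x, hxH⟩ with hX
  set Y : cen (x * y') := ⟨y', hyH⟩ with hY
  set X₂ : cen (x * y') := ⟨x₂, hx₂H⟩ with hX₂
  have hXY : Commute (red _ X₂) (red _ (X * Y)) :=
    Commute.map (show Commute X₂ (X * Y) from Subtype.ext hzx₂.symm.eq) _
  have hX2Y : Commute (red _ X₂) (red _ Y) := h.red_commute hHne hx₂X hy'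
  have hX2X : Commute (red _ X₂) (red _ X) := by
    have h3 := hXY.mul_right hX2Y
    rwa [map_mul, mul_assoc, ← map_mul _ Y, show Y * Y = 1 from Subtype.ext hy'.mul_self, map_one,
      mul_one] at h3
  obtain ⟨o, hoN, hco⟩ := exists_conj_commute (N := Cfsg.pPrimeCore 2 (cen (x * y'))) odd_core
    (u := X₂) (v := X) (by rw [← orderOf_coe]; exact hx₂X.1) (by rw [← orderOf_coe]; exact hx.1)
    hX2X
  have ho1 : red _ o = 1 := (QuotientGroup.eq_one_iff (N := Cfsg.pPrimeCore 2 (cen (x * y'))) o).2 hoN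
  have hoC : (o : G) ∈ OC (cen (x * y')) := ⟨o, hoN, rfl⟩
  set x₃ := (o : G) * x₂ * (o : G)⁻¹ with hx₃
  have hx₃X : IsX S₁ x₃ := hx₂X.conj o
  have hx₃x : Commute x₃ x := congrArg Subtype.val hco.eq
  have r2 : SameRow S₁ S₂ x x₂ := by
    have ho' : (o : G)⁻¹ ∈ h.stab x := Subgroup.inv_mem _ (h.OC_mul_le_stab hx hy' hxy' hoC)
    refine (h.mem_stab.1 ho').trans ?_
    have h3 := h.sameRow_conj (h.row_of_commute hx hx₃X hx₃x.symm) (o : G)⁻¹
    rwa [show (o : G)⁻¹ * x₃ * (o : G)⁻¹⁻¹ = x₂ by rw [hx₃]; group] at h3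
  set j := x₂ * (x * y') with hj
  have hjne : x₂ ≠ x * y' := fun e => h.mul_not_left hx hy' hxy' (e ▸ hx₂X)
  have hjo : orderOf j = 2 := CfsgLib.Invol.invol_iff.2
    ⟨commute_mul_self_eq_one hx₂X.mul_self hzz hzx₂.symm,
      fun e => hjne ((mul_eq_one_iff_eq_inv.1 e).trans (CfsgLib.Invol.invol_inv hz2))⟩
  have hjz : j ∈ zpowers (x * y' * x') := by rw [hj, hzx₂.symm.eq]; exact ha
  obtain ⟨-, hjx'⟩ :=
    commute_of_mem_zpowers_mul hzz hx'.mul_self (CfsgLib.Invol.invol_mul_self hjo) hjz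
  set J : cen (x * y') := X₂ * (X * Y) with hJ
  have hJj : (J : G) = j := rfl
  by_cases he : x₃ = x
  swap
  · -- then `x'` would fix `ω`
    set w := x₃ * x with hw
    have hwX : IsX S₁ w := h.mul_mem_left hx₃X hx hx₃x he
    have hx₃z : Commute x₃ (x * y') := mem_cen.1 (o * X₂ * o⁻¹).2
    have hx₃y : Commute x₃ y' := by
      have := hx₃x.mul_right hx₃z
      rwa [← mul_assoc, hx.mul_self, one_mul] at this
    have hwy : Commute w y' := hx₃y.mul_left hxy'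
    have hwxc : Commute x w := hx₃x.symm.mul_right (Commute.refl x)
    have hω' : Wp w y' = ω := by rw [eω]; exact (h.Wp_eq_left hx hwX hy' hwxc hxy' hwy).symm
    set X₃ : cen (x * y') := o * X₂ * o⁻¹ with hX₃
    have hr : red _ X₃ = red _ X₂ := by simp [hX₃, ho1]
    obtain ⟨o₁, ho₁, e₁⟩ := exists_conj_of_congr (N := Cfsg.pPrimeCore 2 (cen (x * y'))) odd_core
      (u := J) (v := X₃ * X * Y) (by rw [← orderOf_coe, hJj]; exact hjo)
      (by rw [← orderOf_coe]; exact h.orderOf_mul hwX hy' hwy)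
      (show red _ J = red _ (X₃ * X * Y) by simp only [hJ, map_mul, hr, mul_assoc])
    have e₁' : (o₁ : G) * j * (o₁ : G)⁻¹ = w * y' := congrArg Subtype.val e₁
    have h5 : (o₁ : G) * x' * (o₁ : G)⁻¹ ∈ nz ω := by
      rw [← hω']
      refine h.cen_mul_le hwX hy' hwy (mem_cen.2 ?_)
      rw [← e₁']
      exact hjx'.map (MulAut.conj (o₁ : G)).toMonoidHom
    have h6 : (o₁ : G) ∈ nz ω := hnz o₁.2
    refine hno ?_
    have := mul_mem (mul_mem (Subgroup.inv_mem _ h6) h5) h6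
    rwa [show (o₁ : G)⁻¹ * ((o₁ : G) * x' * (o₁ : G)⁻¹) * o₁ = x' by group] at this
  · have hr : red _ X₂ = red _ X := by
      have : o * X₂ * o⁻¹ = X := Subtype.ext he
      rw [← this]; simp [ho1]
    have hJY : red _ J = red _ Y := by
      rw [hJ, map_mul, map_mul, hr, ← mul_assoc, ← map_mul _ X X,
        show X * X = 1 from Subtype.ext hx.mul_self, map_one, one_mul]
    obtain ⟨o₁, -, e₁⟩ := exists_conj_of_congr (N := Cfsg.pPrimeCore 2 (cen (x * y'))) odd_core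
      (u := Y) (v := J) (by rw [← orderOf_coe]; exact hy'.1)
      (by rw [← orderOf_coe, hJj]; exact hjo) hJY.symm
    have hjX : IsX S₂ j := by
      have := hy'.conj (o₁ : G)
      rwa [show (o₁ : G) * y' * (o₁ : G)⁻¹ = j from congrArg Subtype.val e₁] at this
    have hjω : j ∈ nz ω := hnz J.2
    have hx₂ω : x₂ ∈ nz ω := hnz hx₂H
    have huni : ∀ {ω'}, IsPt S₁ S₂ ω' → x₂ ∈ nz ω' → j ∈ nz ω' → ω' = ω := fun hω' a b =>
      h.common_unique hx₂X hjX hω' hω a b hx₂ω hjω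
    by_cases hodd : Odd (orderOf (y * j))
    · obtain ⟨t, ht, htj⟩ := CfsgLib.Invol.exists_conj_eq_of_odd hy.1 hjo hodd
      have htx' : Commute x' t := mem_cen.1 ((zpowers_le.2 (mul_mem (mem_cen.2 hx'y.symm)
        (mem_cen.2 hjx'.symm) : y * j ∈ cen x')) ht) |>.symm
      have hts : t ∈ h.stab x := (zpowers_le.2 (mul_mem
        (h.mem_stab_of_commute SameRow.rfl' hxy.symm)
        (h.mem_stab_of_commute r2 (show Commute j x₂ from
          (Commute.refl x₂).mul_left hzx₂)) : y * j ∈ h.stab x)) ht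
      have hpt := h.isPt_conj hω₀ t
      have a1 : x' ∈ nz (conjBy t ω₀) := by
        have := conj_mem_nz (g := t) h0x'
        rwa [← htx'.eq, mul_inv_cancel_right] at this
      have a2 : j ∈ nz (conjBy t ω₀) := htj ▸ conj_mem_nz (g := t) h0y
      have a3 : x ∈ nz (conjBy t ω₀) := (h.mem_stab.1 hts _ hpt).2 (conj_mem_nz h0x)
      rw [huni hpt ((r2 _ hpt).1 a3) a2] at a1
      exact hno a1
    · obtain ⟨j₂, hj₂m, hj₂, c1, c2⟩ := h.symm.exists_between hy hjX hodd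
      have hj₂x' : Commute x' j₂ := (mem_cen.1 ((zpowers_le.2 (mul_mem (mem_cen.2 hx'y.symm)
        (mem_cen.2 hjx'.symm) : y * j ∈ cen x')) hj₂m)).symm
      have e0 : ω₀ = Wp x' j := by
        rw [h.pt_unique hx' hy hx'y hω₀ h0x' h0y, h.Wp_eq_right hx' hy hj₂ c1 hx'y hj₂x',
          h.Wp_eq_right hx' hjX hj₂ c2 hjx' hj₂x']
      have a2 : j ∈ nz ω₀ := e0 ▸ h.self_mem' hjx'
      exact hno (huni hω₀ ((r2 _ hω₀).1 h0x) a2 ▸ h0x')

/-- Two members of a class with a common point have the same points. -/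
theorem Setup.row_of_common {x x' : G} (hx : IsX S₁ x) (hx' : IsX S₁ x') {ω : Subgroup G}
    (hω : IsPt S₁ S₂ ω) (hxω : x ∈ nz ω) (hx'ω : x' ∈ nz ω) : SameRow S₁ S₂ x x' := by
  by_cases htop : nz ω = ⊤
  · intro ω' hω'
    obtain ⟨a, b, ha, hb, hab, e⟩ := hω'
    have e' : ω' = ω := e.trans (h.pt_unique ha hb hab hω (htop ▸ mem_top a) (htop ▸ mem_top b)).symm
    rw [e']
    exact iff_of_true hxω hx'ω
  obtain ⟨y, hy, hxy, hyω, -⟩ := h.exists_partner_pt hω hx hxω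
  obtain ⟨o, hoN, hc⟩ := exists_conj_commute (N := Cfsg.pPrimeCore 2 (nz ω)) odd_core
    (u := ⟨x', hx'ω⟩) (v := ⟨y, hyω⟩) (by rw [← orderOf_coe]; exact hx'.1)
    (by rw [← orderOf_coe]; exact hy.1)
    (h.red_commute htop (x := ⟨x', hx'ω⟩) (y := ⟨y, hyω⟩) hx' hy)
  have hoC : (o : G) ∈ OC (nz ω) := ⟨o, hoN, rfl⟩
  set x₁ := (o : G) * x' * (o : G)⁻¹ with hx₁
  have hx₁X : IsX S₁ x₁ := hx'.conj o
  have r1 : SameRow S₁ S₂ x' x₁ := h.mem_stab.1 (h.OC_pt_le_stab hx' hω hx'ω hoC)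
  refine SameRow.trans ?_ r1.symm
  have h1ω : x₁ ∈ nz ω := (r1 ω hω).1 hx'ω
  have h1y : Commute x₁ y := congrArg Subtype.val hc.eq
  exact fun ω' hω' => ⟨fun a => h.row_key hx hx₁X hy hxy h1y hω hxω h1ω hyω hω' a,
    fun a => h.row_key hx₁X hx hy h1y hxy hω h1ω hxω hyω hω' a⟩

theorem Setup.right_mem_stab {x y : G} (hx : IsX S₁ x) (hy : IsX S₂ y) : y ∈ h.stab x := by
  obtain ⟨ω, hω, hxω, hyω⟩ := h.exists_common hx hy
  exact h.mem_stab.2 (h.row_of_common hx (hx.conj y) hω hxω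
    (mul_mem (mul_mem hyω hxω) (Subgroup.inv_mem _ hyω)))

/-- The subgroup generated by a class. -/
def classGroup (S : Subgroup G) : Subgroup G := Subgroup.closure {x : G | IsX S x}

omit h in
instance classGroup_normal (S : Subgroup G) : (classGroup S).Normal := by
  refine ⟨fun u hu g => ?_⟩
  have : classGroup S ≤ (classGroup S).comap (MulAut.conj g).toMonoidHom :=
    (closure_le _).2 fun x hx => subset_closure (IsX.conj hx g)
  exact this hu

theorem Setup.isPt_comm {ω : Subgroup G} : IsPt S₁ S₂ ω ↔ IsPt S₂ S₁ ω := by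
  constructor
  · rintro ⟨x, y, hx, hy, hxy, rfl⟩
    exact ⟨y, x, hy, hx, hxy.symm, (h.Wp_comm hx hy hxy).symm⟩
  · rintro ⟨x, y, hx, hy, hxy, rfl⟩
    exact ⟨y, x, hy, hx, hxy.symm, h.Wp_comm hy hx hxy.symm⟩

theorem Setup.sameRow_comm {x x' : G} : SameRow S₁ S₂ x x' ↔ SameRow S₂ S₁ x x' :=
  ⟨fun r ω hω => r ω (h.isPt_comm.2 hω), fun r ω hω => r ω (h.isPt_comm.1 hω)⟩

theorem Setup.inf_classGroup_le_nz {ω : Subgroup G} (hω : IsPt S₁ S₂ ω) :
    classGroup S₁ ⊓ classGroup S₂ ≤ nz ω := by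
  intro g hg
  obtain ⟨x, y, hx, hy, hxy, rfl⟩ := hω
  have hω : IsPt S₁ S₂ (Wp x y) := ⟨x, y, hx, hy, hxy, rfl⟩
  have hpt := h.isPt_conj hω g
  have g1 : g ∈ h.stab x := (closure_le _).2 (fun v hv => h.right_mem_stab hx hv) hg.2
  have g2 : g ∈ h.symm.stab y :=
    (closure_le _).2 (fun v hv => h.symm.right_mem_stab hy hv) hg.1
  have a1 : x ∈ nz (conjBy g (Wp x y)) :=
    (h.mem_stab.1 g1 _ hpt).2 (conj_mem_nz (h.self_mem hxy))
  have a2 : y ∈ nz (conjBy g (Wp x y)) :=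
    (h.sameRow_comm.2 (h.symm.mem_stab.1 g2) _ hpt).2 (conj_mem_nz (h.self_mem' hxy))
  exact conjBy_eq_self_iff.1
    (h.common_unique hx hy hpt hω a1 a2 (h.self_mem hxy) (h.self_mem' hxy))

/-- The two classes commute elementwise. -/
theorem Setup.commute_classes {x y : G} (hx : IsX S₁ x) (hy : IsX S₂ y) : Commute x y := by
  obtain ⟨d, -, hc, h1, h2⟩ := h.exists_dihedral hx hy
  set y₂ := d * y * d⁻¹ with hy₂
  have hy₂X : IsX S₂ y₂ := hy.conj d
  set K := classGroup S₁ ⊓ classGroup S₂ with hK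
  have hω : IsPt S₁ S₂ (Wp x y₂) := ⟨x, y₂, hx, hy₂X, hc, rfl⟩
  have hbot : K ⊓ Wp x y₂ = ⊥ := eq_bot_of_normalizes h.odd_bot (N := K) inf_le_left
    (odd_of_le inf_le_right (h.odd_Wp hx hy₂X hc))
    (CfsgLib.Coprime.inf_le_normalizer le_normalizer (h.inf_classGroup_le_nz hω))
  have hH := h.centralizer_mul_ne_top hx hy₂X hc
  have hcO : ⁅x, y⁆ ∈ OC (cen (x * y₂)) :=
    h.ind _ hH x (mem_cen.2 h1) y (mem_cen.2 h2) hx hy
  have hinv : x * ⁅x, y⁆ * x⁻¹ = ⁅x, y⁆⁻¹ := by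
    have e := commutator_inverted (n := y) hx.mul_self
    rw [commutatorElement_inv] at e ⊢
    rw [← e, conj_sq_one hx.mul_self]
  have hW : ⁅x, y⁆ ∈ Wp x y₂ := mem_sup_right (mem_sup_left
    (mem_commutator_of_inverted (odd_card_OC _) hcO hinv))
  have hx' : x ∈ classGroup S₁ := subset_closure hx
  have hy' : y ∈ classGroup S₂ := subset_closure hy
  have hKm : ⁅x, y⁆ ∈ K := by
    refine ⟨?_, ?_⟩
    · rw [commutatorElement_def, show x * y * x⁻¹ * y⁻¹ = x * (y * x⁻¹ * y⁻¹) by group]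
      exact mul_mem hx' ((classGroup_normal S₁).conj_mem _ (Subgroup.inv_mem _ hx') y)
    · rw [commutatorElement_def]
      exact mul_mem ((classGroup_normal S₂).conj_mem _ hy' x) (Subgroup.inv_mem _ hy')
  exact commutatorElement_eq_one_iff_commute.1 (mem_bot.1 (hbot ▸ ⟨hKm, hW⟩))

end CfsgLib.ProdFusion
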